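import Groth.Agent.Quot.MumfordBound
import Groth.Agent.HilbStab.BC.Euler
import Groth.Agent.PnCoh.OverAffine
import Groth.Agent.FlatStrata.Hilbert
import Groth.Agent.FlatStrata.ProjSpace
import Groth.Agent.FlatStrata.Twist
import Groth.Agent.SchemeMorphisms.PrinParts.FlatExact
import Groth.Agent.OmegaSheaf.GroupScheme
import Groth.Agent.Inter.Chi
import Mathlib.FieldTheory.IsAlgClosed.AlgebraicClosure

/-!
# Regularity of subsheaves of free modules over any field
-/

set_option autoImplicit false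

universe u

open CategoryTheory Limits AlgebraicGeometry
open Groth.PicAux Groth.Variety2.Reg Groth.CohBase

namespace Groth.Quot

variable {n : ℕ} {k : Type u} [Field k]

lemma isCoh_freeMod (p : ℕ) : Coh.IsCoh (FlatMod.freeMod (CohB1.ProjSpace n k) p) :=
  have := PnCoh.isLocallyNoetherian_projSpace n k
  PnCoh.isCoh_sigma _ fun _ => QCohMod.isCoh_unit

lemma mReg_freeMod (p : ℕ) : Curv2.IsMRegular k n (FlatMod.freeMod (CohB1.ProjSpace n k) p) 0 :=
  mReg_congr (Sigma.mapIso fun _ => nonempty_twist_zero.some) fun i hi _ =>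
    subsingleton_fT_sigma p 0 (0 - (i : ℤ))
      (PnCoh.subsingleton_HH_twist _ i (fun h => by omega) fun h => by omega)

/-- Splitting off the first copy of a finite sum. -/
noncomputable def succSplitting {C : Type*} [Category C] [Preadditive C] [HasFiniteCoproducts C]
    (p : ℕ) (M : C) :
    Σ' (S : ShortComplex C), S.Splitting ×' PLift (S.X₁ = M ∧ S.X₂ = (∐ fun _ : Fin (p + 1) => M) ∧
      S.X₃ = ∐ fun _ : Fin p => M) :=
  let A := fun _ : Fin (p + 1) => M
  let B := fun _ : Fin p => M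
  let π : ∐ A ⟶ ∐ B := Sigma.desc fun i => Fin.cases (motive := fun _ => M ⟶ ∐ B) 0 (Sigma.ι B) i
  let r : ∐ A ⟶ M := Sigma.desc fun i => Fin.cases (motive := fun _ => M ⟶ M) (𝟙 M) (fun _ => 0) i
  let s : ∐ B ⟶ ∐ A := Sigma.desc fun j => Sigma.ι A j.succ
  ⟨ShortComplex.mk (Sigma.ι A 0) π (by simp [π]),
    { r := r
      s := s
      f_r := by simp [r]; rfl
      s_g := Sigma.hom_ext _ _ fun j => by simp [s, π, B]
      id := Sigma.hom_ext _ _ fun i => by
        refine Fin.cases ?_ (fun j => ?_) i <;> simp [r, s, π, A] },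
    ⟨rfl, rfl, rfl⟩⟩

lemma chiT_sigma (M : (CohB1.ProjSpace n k).Modules) (hM : Coh.IsCoh M) (t : ℤ) : ∀ p : ℕ,
    chiT (∐ fun _ : Fin p => M) t = (p : ℤ) * chiT M t
  | 0 => by
    have hz : IsZero (∐ fun _ : Fin 0 => M) :=
      (IsZero.iff_id_eq_zero _).2 (Sigma.hom_ext _ _ fun i => i.elim0)
    have hz' : IsZero (fT (∐ fun _ : Fin 0 => M) t) :=
      Functor.map_isZero (DCoh.tensorRightMod (Twist.twistProjSpace n k t)) hz
    rw [Nat.cast_zero, zero_mul]
    exact EulerDeg.euler_of_isZero fun q => subsingleton_of_isZero' k hz' q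
  | p + 1 => by
    obtain ⟨S, sp, ⟨h₁, h₂, h₃⟩⟩ := succSplitting p M
    have hSp : Coh.IsCoh S.X₃ := h₃ ▸ PnCoh.isCoh_sigma _ fun _ => hM
    have h := EulerDeg.euler_add (k := k) (shortExact_fT sp.shortExact t)
      (finCoh_fT (h₁.symm ▸ hM) t) (finCoh_fT hSp t)
    change chiT S.X₂ t = chiT S.X₁ t + chiT S.X₃ t at h
    rw [h₁, h₂, h₃, chiT_sigma M hM t p] at h
    rw [h, Nat.cast_succ]
    ring

lemma chiT_freeMod (p : ℕ) (t : ℤ) :
    chiT (FlatMod.freeMod (CohB1.ProjSpace n k) p) t = (p : ℤ) * Ring.choose (t + (n : ℤ)) n := by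
  have := PnCoh.isLocallyNoetherian_projSpace n k
  rw [chiT_sigma _ QCohMod.isCoh_unit, ← PnCoh.euler_twist k n t]
  congr 1
  have e : fT (Coh.structureModule (CohB1.ProjSpace n k)) t ≅ Twist.twistProjSpace n k t :=
    (nonempty_twist_twist (Coh.structureModule _) 0 t t (zero_add t)).some.symm ≪≫
      PicGrp.tensorModIso ((nonempty_fT_zero _).some ≪≫ nonempty_twist_zero.some.symm) (Iso.refl _) ≪≫
        (Ega2Proj.nonempty_tensor_iso (gen_one n k) 0 t).some ≪≫
          eqToIso (congrArg (Twist.twist (CohB1.polyGrading n k)) (zero_add t))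
  refine (EulerDeg.euler_congr k e).trans ?_
  exact EulerDeg.euler_eq_sum fun q hq => PnCoh.subsingleton_HH_twist _ q (fun h => by omega)
    fun h => by omega

/-- Projective space over an extension field is the base change. -/
theorem exists_fieldExt (K : Type u) [Field K] [Algebra k K] :
    ∃ q : CohB1.ProjSpace n K ⟶ CohB1.ProjSpace n k, IsBC (A := k) (A' := K) q ∧ Flat q ∧
      ∀ a : ℤ, Nonempty ((Scheme.Modules.pullback q).obj (Twist.twistProjSpace n k a) ≅
        Twist.twistProjSpace n K a) := by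
  let φ : Spec (CommRingCat.of K) ⟶ Spec (CommRingCat.of k) :=
    Spec.map (CommRingCat.ofHom (algebraMap k K))
  let iK := PnCoh.overIso n K
  let ik := PnCoh.overIso n k
  let q := iK.hom ≫ FGA.projMap n φ ≫ ik.inv
  have hq : IsPullback q (CohB1.ProjSpace.toSpec n K) (CohB1.ProjSpace.toSpec n k) φ := by
    refine (FlatStrata.isPullback_projMap n φ).of_iso iK.symm ik.symm (Iso.refl _) (Iso.refl _)
      ?_ ?_ ?_ ?_ <;> simp [q, iK, ik, Iso.eq_inv_comp]
  have hφ : Flat φ := by
    change Flat (Spec.map (CommRingCat.ofHom (algebraMap k K)))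
    exact (HasRingHomProperty.Spec_iff (P := @Flat)).2 (RingHom.flat_algebraMap_iff.2 inferInstance)
  refine ⟨q, hq, MorphismProperty.of_isPullback hq.flip hφ, fun a => ?_⟩
  obtain ⟨t₁⟩ := PnCoh.nonempty_pullback_overIso_twist n k a
  obtain ⟨t₂⟩ := PnCoh.nonempty_pullback_overIso_twist n K a
  obtain ⟨τ⟩ := FlatStrata.nonempty_pullback_projMap_twist n φ a
  have hq' : q ≫ ik.hom = iK.hom ≫ FGA.projMap n φ := by simp [q]
  exact ⟨(Scheme.Modules.pullback q).mapIso t₁.symm ≪≫ (Scheme.Modules.pullbackComp q ik.hom).app _ ≪≫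
    (Scheme.Modules.pullbackCongr hq').app _ ≪≫ ((Scheme.Modules.pullbackComp _ _).app _).symm ≪≫
    (Scheme.Modules.pullback iK.hom).mapIso τ ≪≫ t₂⟩

/-- Mumford's bound over any field. -/
theorem mReg_of_sub_free (p : ℕ) {F : (CohB1.ProjSpace n k).Modules} (hF : Coh.IsCoh F)
    (ι : F ⟶ FlatMod.freeMod (CohB1.ProjSpace n k) p) [Mono ι] :
    Curv2.IsMRegular k n F (regBound p n (chiT F)) := by
  let K := AlgebraicClosure k
  have : Infinite K := IsAlgClosed.instInfinite
  obtain ⟨q, hq, hfl, htw⟩ := exists_fieldExt (n := n) (k := k) K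
  let G := Scheme.Modules.pullback q
  have := PrinPartsAux.mono_pullback_map (g := q) ι
  have e : G.obj (FlatMod.freeMod (CohB1.ProjSpace n k) p) ≅ FlatMod.freeMod (CohB1.ProjSpace n K) p :=
    PreservesCoproduct.iso _ _ ≪≫ Sigma.mapIso fun _ => (pullback_structure_iso q).some
  have hFK : Coh.IsCoh (G.obj F) := FlatStrata.isCoh_pullback q hF
  have hreg := mReg_of_sub p n (G.map ι ≫ e.hom) hFK (isCoh_freeMod p) (mReg_freeMod p) (chiT_freeMod p)
  have := hF.1
  have eT : ∀ a : ℤ, G.obj (fT F a) ≅ fT (G.obj F) a := fun a =>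
    (exists_pullback_tensorMod q F _).choose ≪≫ PicGrp.tensorModIso (Iso.refl _) (htw a).some
  have := CohFin.compactSpace_of_proper (CohB1.ProjSpace n k ↘ Spec (CommRingCat.of k))
  have := CohFin.isSeparated_of_proper (CohB1.ProjSpace n k ↘ Spec (CommRingCat.of k))
  have hχ : chiT (G.obj F) = chiT F := funext fun a => by
    have := isQCoh_fT F a
    exact (EulerDeg.euler_congr K (eT a).symm).trans (HilbStab.BC.euler_baseChange hq _)
  rw [hχ] at hreg
  intro i hi hn
  have := isQCoh_fT F (regBound p n (chiT F) - i)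
  exact (HilbStab.BC.subsingleton_HH_baseChange_iff hq _ i).1
    (subsingleton_of_iso K (eT _).symm (hreg i hi hn))

end Groth.Quot
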