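import Groth.Agent.Quot.BoundedCokernels
import Groth.Agent.Quot.RegularFree

/-!
# Regular sheaves with given Euler characteristics form bounded families
-/

set_option autoImplicit false

universe u

open CategoryTheory Limits AlgebraicGeometry
open Groth.PicAux Groth.Variety2.Reg Groth.ThetaAlg

namespace Groth.Quot

lemma tensor_smulEnd {X : Scheme.{u}} (g : Γ(X, ⊤)) (M N : X.Modules) :
    (DCoh.tensorRightMod N).map (smulEnd M g) = smulEnd (CohB1.tensorMod M N) g :=
  tensor_hom_ext (L := M) (M := N) fun W a l => by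
    refine (tensorRightMod_map_tmulSec N (smulEnd M g) W a l).trans ?_
    rw [smulEnd_app, tmulSec_smul_left]
    exact (smulEnd_app _ g W _).symm

lemma smulEnd_add {X : Scheme.{u}} (M : X.Modules) (g h : Γ(X, ⊤)) :
    smulEnd M (g + h) = smulEnd M g + smulEnd M h :=
  Scheme.Modules.hom_ext _ _ fun U => AddCommGrpCat.ext fun x => by
    rw [smulEnd_app, map_add, add_smul]; rfl

lemma homOfSection_smul' {X : Scheme.{u}} {M : X.Modules} (g : Γ(X, ⊤)) (v : Γ(M, ⊤)) :
    homOfSection (g • v) = smulEnd _ g ≫ homOfSection v := by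
  have h : smulEnd (Coh.structureModule X) g ≫ homOfSection v = homOfSection v ≫ smulEnd M g :=
    smulEnd_comm _ g
  rw [h]
  refine hom_structure_ext ?_
  rw [Scheme.Modules.Hom.comp_app, ConcreteCategory.comp_apply, homOfSection_one, homOfSection_one,
    smulEnd_app, resX_self]

/-- Evaluation of a morphism out of the structure sheaf at one. -/
noncomputable def evalOne {X : Scheme.{u}} (M : X.Modules) : (Coh.structureModule X ⟶ M) →+ Γ(M, ⊤) :=
  AddMonoidHom.mk' (fun φ => φ.app ⊤ (oneSec X ⊤)) fun φ ψ => by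
    rw [Scheme.Modules.Hom.add_app]; rfl

variable {n : ℕ} {k : Type u} [Field k]

/-- Morphisms from sums of one twist into a coherent module are combinations of finitely many. -/
theorem exists_homs_span {B : (CohB1.ProjSpace n k).Modules} (hB : Coh.IsCoh B) (m : ℤ) (N : ℕ) :
    ∃ (r : ℕ) (ψ : Fin r → ((∐ fun _ : Fin N => Twist.twistProjSpace n k (-m)) ⟶ B)),
      ∀ φ, ∃ c : Fin r → k, φ = ∑ l, smulEnd _ (constFun k (CohB1.ProjSpace n k) (c l)) ≫ ψ l := by
  let L := Twist.twistProjSpace n k (-m)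
  let T := DCoh.tensorRightMod (Twist.twistProjSpace n k m)
  have := isEquivalence_tensorRightMod_of_isInvertible (isInvertible_tw (n := n) (k := k) m)
  have : T.Additive := DCoh.additive_tensorRightMod _
  obtain ⟨e⟩ : Nonempty (T.obj L ≅ Coh.structureModule _) := by
    obtain ⟨e⟩ := Ega2Proj.nonempty_tensor_iso (gen_one n k) (-m) m
    exact ⟨e ≪≫ eqToIso (congrArg (Twist.twist (CohB1.polyGrading n k)) (neg_add_cancel m)) ≪≫
      nonempty_twist_zero.some⟩
  let f := CohB1.ProjSpace n k ↘ Spec (CommRingCat.of k)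
  have : Module.Finite k (CohFin.HA f (fT B m) 0) := PnCoh.hFin_projSpace n k _ (isCoh_fT B hB m) 0
  obtain ⟨b, s, hs⟩ := Module.Finite.exists_fin (R := k) (M := CohFin.HA f (fT B m) 0)
  have hsec : ∀ v : Γ(fT B m, ⊤), ∃ c : Fin b → k,
      v = ∑ l, constFun k (CohB1.ProjSpace n k) (c l) • CohFin.equivSections f (fT B m) (s l) := by
    intro v
    obtain ⟨x, rfl⟩ := (CohFin.equivSections f (fT B m)).surjective v
    obtain ⟨c, rfl⟩ := (Submodule.mem_span_range_iff_exists_fun k).1 (hs ▸ Submodule.mem_top (x := x))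
    refine ⟨c, ?_⟩
    rw [map_sum]
    exact Finset.sum_congr rfl fun l _ => CohFin.equivSections_smul f (fT B m) _ _
  choose h₀ hh₀ using fun l => T.map_surjective (X := L) (Y := B)
    (e.hom ≫ homOfSection (CohFin.equivSections f (fT B m) (s l)))
  let ψ₀ : Fin N × Fin b → ((∐ fun _ : Fin N => L) ⟶ B) := fun al =>
    Sigma.desc fun a => if a = al.1 then h₀ al.2 else 0
  let E := Fintype.equivFin (Fin N × Fin b)
  refine ⟨_, fun l => ψ₀ (E.symm l), fun φ => ?_⟩
  choose c hc using fun a : Fin N => hsec ((e.inv ≫ T.map (Sigma.ι (fun _ : Fin N => L) a ≫ φ)).app ⊤ (oneSec _ ⊤))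
  refine ⟨fun l => c (E.symm l).1 (E.symm l).2, ?_⟩
  rw [E.symm.sum_comp fun al : Fin N × Fin b =>
    smulEnd _ (constFun k (CohB1.ProjSpace n k) (c al.1 al.2)) ≫ ψ₀ al]
  refine Sigma.hom_ext _ _ fun a => ?_
  have key : Sigma.ι (fun _ : Fin N => L) a ≫ (∑ al : Fin N × Fin b,
      smulEnd _ (constFun k (CohB1.ProjSpace n k) (c al.1 al.2)) ≫ ψ₀ al) =
      ∑ l, smulEnd L (constFun k (CohB1.ProjSpace n k) (c a l)) ≫ h₀ l := by
    simp only [Preadditive.comp_sum, ← Category.assoc, ← smulEnd_comm]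
    simp only [Category.assoc, ψ₀, Sigma.ι_desc]
    rw [Fintype.sum_prod_type, Finset.sum_eq_single a]
    · simp
    · intro a' _ ha
      simp [Ne.symm ha]
    · simp
  rw [key]
  refine T.map_injective ((cancel_epi e.inv).1 (hom_structure_ext ?_))
  refine (hc a).trans ?_
  have h1 : e.inv ≫ T.map (∑ l, smulEnd L (constFun k (CohB1.ProjSpace n k) (c a l)) ≫ h₀ l) =
      ∑ l, homOfSection (constFun k (CohB1.ProjSpace n k) (c a l) •
        CohFin.equivSections f (fT B m) (s l)) := by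
    rw [Functor.map_sum, Preadditive.comp_sum]
    refine Finset.sum_congr rfl fun l _ => ?_
    have h2 : e.inv ≫ T.map (smulEnd L (constFun k (CohB1.ProjSpace n k) (c a l))) =
        smulEnd _ (constFun k (CohB1.ProjSpace n k) (c a l)) ≫ e.inv :=
      (congrArg (e.inv ≫ ·) (tensor_smulEnd _ L _)).trans (smulEnd_comm e.inv _).symm
    rw [T.map_comp, ← Category.assoc, h2, Category.assoc, hh₀, Iso.inv_hom_id_assoc, homOfSection_smul']
    rfl
  refine Eq.trans ?_ (congrArg (evalOne _) h1).symm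
  exact ((map_sum (evalOne (fT B m)) _ _).trans
    (Finset.sum_congr rfl fun l _ => homOfSection_one _)).symm

/-- An `m`-regular module with at most `N` sections in degree `m` is a quotient of `O(-m)^N`. -/
theorem exists_epi_of_mReg {F : (CohB1.ProjSpace n k).Modules} (hF : Coh.IsCoh F) {m : ℤ}
    (h : Curv2.IsMRegular k n F m) {N : ℕ} (hN : chiT F m ≤ N) :
    ∃ φ : (∐ fun _ : Fin N => Twist.twistProjSpace n k (-m)) ⟶ F, Epi φ := by
  have := hF.1
  let T := DCoh.tensorRightMod (Twist.twistProjSpace n k m)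
  have := isEquivalence_tensorRightMod_of_isInvertible (isInvertible_tw (n := n) (k := k) m)
  obtain ⟨e⟩ : Nonempty (T.obj (Twist.twistProjSpace n k (-m)) ≅ Coh.structureModule _) := by
    obtain ⟨e⟩ := Ega2Proj.nonempty_tensor_iso (gen_one n k) (-m) m
    exact ⟨e ≪≫ eqToIso (congrArg (Twist.twist (CohB1.polyGrading n k)) (neg_add_cancel m)) ≪≫
      nonempty_twist_zero.some⟩
  let f := CohB1.ProjSpace n k ↘ Spec (CommRingCat.of k)
  have : Module.Finite k (CohFin.HA f (fT F m) 0) := PnCoh.hFin_projSpace n k _ (isCoh_fT F hF m) 0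
  have hb : Module.finrank k (CohFin.HA f (fT F m) 0) ≤ N := by
    have h1 : chiT F m = (Module.finrank k (Coh.HH (CohB1.ProjSpace n k) (fT F m) 0) : ℤ) := by
      refine (EulerDeg.euler_eq_sum (k := k) (N := 1) fun q hq => vanish_of_mReg F h hq (by omega)).trans ?_
      simp
    have h2 : Module.finrank k (CohFin.HA f (fT F m) 0) =
        Module.finrank k (Coh.HH (CohB1.ProjSpace n k) (fT F m) 0) := rfl
    omega
  let bas := Module.finBasis k (CohFin.HA f (fT F m) 0)
  let t : Fin N → Γ(fT F m, ⊤) := fun l =>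
    if hl : (l : ℕ) < Module.finrank k (CohFin.HA f (fT F m) 0)
    then CohFin.equivSections f (fT F m) (bas ⟨l, hl⟩) else 0
  choose c hc using fun l => T.map_surjective (X := Twist.twistProjSpace n k (-m)) (Y := F)
    (e.hom ≫ homOfSection (t l))
  let φ := Sigma.desc c
  let S := fun _ : Fin N => Twist.twistProjSpace n k (-m)
  have hhit : ∀ v : Γ(fT F m, ⊤), ∃ s, (T.map φ).app ⊤ s = v := by
    have ht : ∀ l, ∃ s, (T.map φ).app ⊤ s = t l := fun l => by
      refine ⟨(T.map (Sigma.ι S l)).app ⊤ (e.inv.app ⊤ (oneSec _ ⊤)), ?_⟩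
      have h1 : e.inv ≫ T.map (Sigma.ι S l) ≫ T.map φ = homOfSection (t l) := by
        rw [← T.map_comp, Sigma.ι_desc, hc, Iso.inv_hom_id_assoc]
        rfl
      exact (congr(($h1).app ⊤ (oneSec _ ⊤))).trans (homOfSection_one _)
    intro v
    obtain ⟨x, rfl⟩ := (CohFin.equivSections f (fT F m)).surjective v
    induction bas.mem_span x using Submodule.span_induction with
    | mem y hy =>
      obtain ⟨l, rfl⟩ := hy
      obtain ⟨s, hs⟩ := ht ⟨l, l.2.trans_le hb⟩
      exact ⟨s, hs.trans (dif_pos l.2)⟩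
    | zero => exact ⟨0, (map_zero _).trans (map_zero _).symm⟩
    | add a b _ _ ha hb' =>
      obtain ⟨p, hp⟩ := ha
      obtain ⟨q, hq⟩ := hb'
      exact ⟨p + q, (map_add _ p q).trans ((congrArg₂ (· + ·) hp hq).trans (map_add _ a b).symm)⟩
    | smul a y _ hy =>
      rw [CohFin.equivSections_smul]
      exact app_top_smul_closed _ _ hy
  exact ⟨φ, ⟨fun {Z} ψ ψ' he => by
    refine T.map_injective (detByGlobal_of_mReg F hF h le_rfl _ _ fun v => ?_)
    obtain ⟨s, rfl⟩ := hhit v
    have h1 : T.map φ ≫ T.map ψ = T.map φ ≫ T.map ψ' := by rw [← T.map_comp, ← T.map_comp, he]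
    exact congr(($h1).app ⊤ s)⟩⟩

/-- Regular modules with finitely many possible Euler characteristics are cokernels of maps between
two fixed sums of twists. -/
theorem exists_presentation (m : ℤ) (Φ : Set (ℤ → ℤ)) (hΦ : Φ.Finite) :
    ∃ (N N' : ℕ) (m' : ℤ), ∀ F : (CohB1.ProjSpace n k).Modules, Coh.IsCoh F →
      Curv2.IsMRegular k n F m → chiT F ∈ Φ →
      ∃ φ : (∐ fun _ : Fin N' => Twist.twistProjSpace n k (-m')) ⟶
        ∐ fun _ : Fin N => Twist.twistProjSpace n k (-m), Nonempty (F ≅ cokernel φ) := by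
  have := PnCoh.isLocallyNoetherian_projSpace n k
  obtain ⟨N, hN⟩ : ∃ N : ℕ, ∀ f ∈ Φ, f m ≤ N :=
    ⟨hΦ.toFinset.sup fun f => (f m).toNat, fun f hf =>
      (Int.self_le_toNat _).trans (Int.ofNat_le.2 (Finset.le_sup (f := fun f => (f m).toNat) (hΦ.mem_toFinset.2 hf)))⟩
  let χK : (ℤ → ℤ) → ℤ → ℤ := fun f t => (N : ℤ) * Ring.choose (t + (n : ℤ)) n - f (t + m)
  let R := hΦ.toFinset.sup fun f => (regBound N n (χK f)).toNat
  let m' : ℤ := (R : ℤ) + m
  let N' := hΦ.toFinset.sup fun f => (χK f R).toNat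
  refine ⟨N, N', m', fun F hF hreg hmem => ?_⟩
  have := hF.1
  obtain ⟨p, hp⟩ := exists_epi_of_mReg hF hreg (hN _ hmem)
  let A := ∐ fun _ : Fin N => Twist.twistProjSpace n k (-m)
  have hA : Coh.IsCoh A := PnCoh.isCoh_sigma _ fun _ => PnCoh.isCoh_twist n k _
  have hK : Coh.IsCoh (kernel p) := QCohMod.isCoh_kernel p hA
  have := hK.1
  let T := DCoh.tensorRightMod (Twist.twistProjSpace n k m)
  have := isEquivalence_tensorRightMod_of_isInvertible (isInvertible_tw (n := n) (k := k) m)
  obtain ⟨e⟩ : Nonempty (T.obj (Twist.twistProjSpace n k (-m)) ≅ Coh.structureModule _) := by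
    obtain ⟨e⟩ := Ega2Proj.nonempty_tensor_iso (gen_one n k) (-m) m
    exact ⟨e ≪≫ eqToIso (congrArg (Twist.twist (CohB1.polyGrading n k)) (neg_add_cancel m)) ≪≫
      nonempty_twist_zero.some⟩
  have eA : T.obj A ≅ FlatMod.freeMod (CohB1.ProjSpace n k) N :=
    PreservesCoproduct.iso _ _ ≪≫ Sigma.mapIso fun _ => e
  have hseq := shortExact_fT (kernel_shortExact p) m
  have : Mono (T.map (kernel.ι p)) := hseq.mono_f
  have hmono := @mono_comp _ _ _ _ _ (T.map (kernel.ι p)) this eA.hom inferInstance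
  have h1 := @mReg_of_sub_free n k _ N (fT (kernel p) m) (isCoh_fT (kernel p) hK m)
    (T.map (kernel.ι p) ≫ eA.hom) hmono
  have hχ : chiT (fT (kernel p) m) = χK (chiT F) := funext fun t => by
    have h2 := EulerDeg.euler_add (k := k) (shortExact_fT hseq t)
      (finCoh_fT (isCoh_fT (kernel p) hK m) t) (finCoh_fT (isCoh_fT F hF m) t)
    change chiT (T.obj A) t = chiT (fT (kernel p) m) t + chiT (fT F m) t at h2
    rw [chiT_congr eA, chiT_freeMod] at h2
    have h3 : chiT (fT F m) t = chiT F (t + m) :=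
      EulerDeg.euler_congr k (nonempty_twist_twist F m t (t + m) (add_comm m t)).some
    simp only [χK]
    omega
  rw [hχ] at h1
  have hR : regBound N n (χK (chiT F)) ≤ (R : ℤ) :=
    (Int.self_le_toNat _).trans (Int.ofNat_le.2 (Finset.le_sup
      (f := fun f => (regBound N n (χK f)).toNat) (hΦ.mem_toFinset.2 hmem)))
  have := isCoh_fT (kernel p) hK m |>.1
  have h2 := mReg_of_le _ h1 hR
  have hKreg : Curv2.IsMRegular k n (kernel p) m' := fun i hi hn =>
    subsingleton_of_iso k (nonempty_twist_twist (kernel p) m ((R : ℤ) - i) (m' - i) (by simp only [m']; ring)).some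
      (h2 i hi hn)
  have hN' : chiT (kernel p) m' ≤ N' := by
    have h3 : chiT (kernel p) m' = χK (chiT F) R := by
      rw [← hχ]
      exact (EulerDeg.euler_congr k (nonempty_twist_twist (kernel p) m R m' (by simp only [m']; ring)).some).symm
    rw [h3]
    exact (Int.self_le_toNat _).trans (Int.ofNat_le.2 (Finset.le_sup
      (f := fun f => (χK f R).toNat) (hΦ.mem_toFinset.2 hmem)))
  obtain ⟨ρ, hρ⟩ := exists_epi_of_mReg hK hKreg hN'
  refine ⟨ρ ≫ kernel.ι p, ⟨?_⟩⟩
  exact (Abelian.epiIsCokernelOfKernel _ (kernelIsKernel p)).coconePointUniqueUpToIso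
    (colimit.isColimit _) ≪≫ (cokernelEpiComp ρ (kernel.ι p)).symm

/-- Regular modules with finitely many possible Euler characteristics form a bounded family. -/
theorem isBounded_mRegular (m : ℤ) (Φ : Set (ℤ → ℤ)) (hΦ : Φ.Finite) :
    Pic13.IsBounded k (CohB1.ProjSpace n k)
      (fun F => Coh.IsCoh F ∧ Curv2.IsMRegular k n F m ∧ chiT F ∈ Φ) := by
  obtain ⟨N, N', m', h⟩ := exists_presentation (n := n) (k := k) m Φ hΦ
  have hB : Coh.IsCoh (∐ fun _ : Fin N => Twist.twistProjSpace n k (-m)) :=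
    PnCoh.isCoh_sigma _ fun _ => PnCoh.isCoh_twist n k _
  obtain ⟨r, ψ, hψ⟩ := exists_homs_span hB m' N'
  exact isBounded_cokernels (PnCoh.isCoh_sigma _ fun _ => PnCoh.isCoh_twist n k _) hB ψ hψ _
    fun F hF => h F hF.1 hF.2.1 hF.2.2

end Groth.Quot
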