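import Groth.Agent.FlatStrata.Compose
import Groth.Agent.FlatStrata.Twist
import Groth.Agent.FlatStrata.Vanish
import Groth.Agent.PicAux.Powers
import Groth.Agent.PicAux.PullTensor
import Groth.Agent.Chow.AmpleTwist
import Groth.Agent.Ega2Proj.SpansFinite
import Groth.Agent.CohBase.HomNearFibre
import Groth.Agent.LocFree.Tensor
import Groth.Agent.PicAux.PicLaw
import Groth.Agent.FlatTwist.Relative

/-!
# Eventual base change of global sections of high twists of arbitrary coherent modules
-/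

set_option autoImplicit false

universe u

open CategoryTheory Limits AlgebraicGeometry TopologicalSpace Opposite
open scoped TensorProduct
open Groth.CohBase hiding res res_res
open Groth.PicAux

namespace Groth.Quot

/-- Inverse images commute with tensoring, naturally. -/
noncomputable def pullTensorNat {X Y : Scheme.{u}} (g : X ⟶ Y) (L : Y.Modules) :
    DCoh.tensorRightMod L ⋙ Scheme.Modules.pullback g ≅
      Scheme.Modules.pullback g ⋙ DCoh.tensorRightMod ((Scheme.Modules.pullback g).obj L) :=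
  NatIso.ofComponents (fun A => (exists_pullback_tensorMod g A L).choose) fun {A B} φ => by
    refine ((Scheme.Modules.pullbackPushforwardAdjunction g).homEquiv _ _).injective ?_
    refine tensor_hom_ext (L := A) (M := L) fun W a l => ?_
    simp only [Adjunction.homEquiv_unit]
    have hA := (exists_pullback_tensorMod g A L).choose_spec W a l
    have hB := (exists_pullback_tensorMod g B L).choose_spec W (φ.app W a) l
    have h1 := pullSec_map g ((DCoh.tensorRightMod L).map φ) (tmulSec a l : Γ(CohB1.tensorMod A L, W))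
    have h2 := tensorRightMod_map_tmulSec L φ W a l
    have h3 := tensorRightMod_map_tmulSec ((Scheme.Modules.pullback g).obj L)
      ((Scheme.Modules.pullback g).map φ) (g ⁻¹ᵁ W) (pullSec g A a) (pullSec g L l)
    have h4 := pullSec_map g φ a
    change (exists_pullback_tensorMod g B L).choose.hom.app (g ⁻¹ᵁ W)
        (((Scheme.Modules.pullback g).map ((DCoh.tensorRightMod L).map φ)).app (g ⁻¹ᵁ W)
          (pullSec g _ (tmulSec a l : Γ(CohB1.tensorMod A L, W)))) =
      ((DCoh.tensorRightMod ((Scheme.Modules.pullback g).obj L)).map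
          ((Scheme.Modules.pullback g).map φ)).app (g ⁻¹ᵁ W)
        ((exists_pullback_tensorMod g A L).choose.hom.app (g ⁻¹ᵁ W)
          (pullSec g _ (tmulSec a l : Γ(CohB1.tensorMod A L, W))))
    refine Eq.trans ((congrArg _ (h1.trans (congrArg _ h2))).trans hB) ?_
    refine Eq.trans ?_ (congrArg _ hA).symm
    exact ((congrArg (fun v => (tmulSec v (pullSec g L l) :
      Γ(CohB1.tensorMod ((Scheme.Modules.pullback g).obj B)
        ((Scheme.Modules.pullback g).obj L), g ⁻¹ᵁ W))) h4.symm)).trans h3.symm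

variable {A B : Type u} [CommRing A] [CommRing B] [Algebra A B] [IsNoetherianRing A]
  [IsNoetherianRing B] {X X₁ : Scheme.{u}} [X.Over (Spec (CommRingCat.of A))]
  [X₁.Over (Spec (CommRingCat.of B))] [IsProper (X ↘ Spec (CommRingCat.of A))] {g : X₁ ⟶ X}
  (hsq : IsBC (A := A) (A' := B) g) {L : X.Modules} (hL : CohB1.IsAmple L)

omit [IsNoetherianRing A] [IsNoetherianRing B] in
include hsq hL in
theorem bc_ample : IsProper (X₁ ↘ Spec (CommRingCat.of B)) ∧
    CohB1.IsAmple ((Scheme.Modules.pullback g).obj L) := by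
  refine ⟨MorphismProperty.of_isPullback hsq ‹IsProper (X ↘ Spec (CommRingCat.of A))›, ?_⟩
  have := isAffineHom_of_bc hsq
  exact Chow.isAmple_pullback_of_isAffineHom g hL

omit [IsNoetherianRing A] in
include hsq hL in
/-- The inverse images of high twists of an exact sequence are exact on global sections. -/
theorem exists_exact_pullback_twist (S : ShortComplex X.Modules) (hS : S.Exact) (hepi : Epi S.g)
    (h₁ : Coh.IsCoh S.X₁) (h₂ : Coh.IsCoh S.X₂) [S.X₃.IsQuasicoherent] :
    ∃ N : ℕ, ∀ d : ℕ, N ≤ d →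
      Function.Exact
        (((Scheme.Modules.pullback g).map ((DCoh.tensorRightMod (CohB1.tensorPow L d)).map S.f)).app ⊤)
        (((Scheme.Modules.pullback g).map ((DCoh.tensorRightMod (CohB1.tensorPow L d)).map S.g)).app ⊤) ∧
      Function.Surjective
        (((Scheme.Modules.pullback g).map ((DCoh.tensorRightMod (CohB1.tensorPow L d)).map S.g)).app ⊤) := by
  obtain ⟨hpr, hL'⟩ := bc_ample hsq hL
  let f := X₁ ↘ Spec (CommRingCat.of B)
  let P := Scheme.Modules.pullback g
  let L' := P.obj L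
  have h₁' : Coh.IsCoh (P.obj S.X₁) := FlatStrata.isCoh_pullback g h₁
  have h₂' : Coh.IsCoh (P.obj S.X₂) := FlatStrata.isCoh_pullback g h₂
  have := h₁'.1
  have := h₂'.1
  have : (P.obj S.X₃).IsQuasicoherent := QCohMod.isQCoh_pullback_obj _ _
  obtain ⟨N₁, hN₁⟩ := FlatStrata.exists_subsingleton_kernel f hL' (P.map S.f) h₁'
  obtain ⟨N₂, hN₂⟩ := FlatStrata.exists_subsingleton_kernel f hL' (P.map S.g) h₂'
  refine ⟨max N₁ N₂, fun d hd => ?_⟩
  let T := DCoh.tensorRightMod (CohB1.tensorPow L' d)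
  have := isEquivalence_tensorRightMod_of_isInvertible (isInvertible_tensorPow hL'.1 d)
  let ν : DCoh.tensorRightMod (CohB1.tensorPow L d) ⋙ P ≅ P ⋙ T :=
    pullTensorNat g (CohB1.tensorPow L d) ≪≫
      Functor.isoWhiskerLeft P (twistCongr (pullback_tensorPow g L d).some)
  have hPg : Epi (P.map S.g) := inferInstance
  have hP : (S.map P).Exact := by
    have : PreservesColimitsOfSize.{0, 0} P :=
      (Scheme.Modules.pullbackPushforwardAdjunction g).leftAdjoint_preservesColimits
    exact ((ShortComplex.exact_and_epi_g_iff_g_is_cokernel (S.map P)).2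
      ⟨CokernelCofork.mapIsColimit _
        ((ShortComplex.exact_and_epi_g_iff_g_is_cokernel S).1 ⟨hS, hepi⟩).some P⟩).1
  let D := (S.map P).map T
  have hD : D.Exact := hP.map T
  have : D.X₁.IsQuasicoherent := FlatStrata.isQCoh_tw (F := P.obj S.X₁) hL'.1 d
  have : D.X₂.IsQuasicoherent := FlatStrata.isQCoh_tw (F := P.obj S.X₂) hL'.1 d
  have : D.X₃.IsQuasicoherent := FlatStrata.isQCoh_tw (F := P.obj S.X₃) hL'.1 d
  have hex : Function.Exact (D.f.app ⊤) (D.g.app ⊤) :=
    PnCoh.exact_app_top_of_subsingleton f D hD (hN₁ d (le_of_max_le_left hd) 1 Nat.one_pos)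
  have hsu : Function.Surjective (D.g.app ⊤) := fun q =>
    (PnCoh.exact_app_top_of_subsingleton f
      (ShortComplex.mk D.g (0 : D.X₃ ⟶ D.X₃) comp_zero)
      ((ShortComplex.exact_iff_epi _ rfl).2 (show Epi (T.map (P.map S.g)) from inferInstance))
      (hN₂ d (le_of_max_le_right hd) 1 Nat.one_pos) q).1 rfl
  let e : ∀ M, (Γ(P.obj ((DCoh.tensorRightMod (CohB1.tensorPow L d)).obj M), (⊤ : X₁.Opens)) : Type u) ≃
      (Γ(T.obj (P.obj M), (⊤ : X₁.Opens)) : Type u) := fun M =>
    { toFun := fun t => (ν.app M).hom.app ⊤ t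
      invFun := fun t => (ν.app M).inv.app ⊤ t
      left_inv := fun t => congr(($((ν.app M).hom_inv_id)).app ⊤ t)
      right_inv := fun t => congr(($((ν.app M).inv_hom_id)).app ⊤ t) }
  have he : ∀ {M N : X.Modules} (φ : M ⟶ N) t,
      e N ((P.map ((DCoh.tensorRightMod (CohB1.tensorPow L d)).map φ)).app ⊤ t) =
        (T.map (P.map φ)).app ⊤ (e M t) :=
    fun φ t => congr(($(ν.hom.naturality φ)).app ⊤ t)
  refine ⟨fun t => ⟨fun h => ?_, ?_⟩, fun t => ?_⟩
  · obtain ⟨s, hs⟩ := (hex (e S.X₂ t)).1 ((he S.g t).symm.trans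
      ((congrArg (e S.X₃) h).trans (map_zero ((ν.app S.X₃).hom.app ⊤).hom)))
    refine ⟨(e S.X₁).symm s, (e S.X₂).injective ?_⟩
    rw [he, Equiv.apply_symm_apply]
    exact hs
  · rintro ⟨s, rfl⟩
    refine (e S.X₃).injective ?_
    refine (he S.g _).trans (((congrArg _ (he S.f s))).trans ?_)
    exact ((hex _).2 ⟨_, rfl⟩).trans (map_zero ((ν.app S.X₃).hom.app ⊤).hom).symm
  · obtain ⟨s, hs⟩ := hsu (e S.X₃ t)
    refine ⟨(e S.X₂).symm s, (e S.X₃).injective ?_⟩
    rw [he, Equiv.apply_symm_apply]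
    exact hs


/-- High twists of an epimorphism are surjective on global sections. -/
theorem exists_surjective_twist (A : Type u) [CommRing A] [IsNoetherianRing A] {X : Scheme.{u}}
    [X.Over (Spec (CommRingCat.of A))] [IsProper (X ↘ Spec (CommRingCat.of A))] {L : X.Modules}
    (hL : CohB1.IsAmple L) {M N : X.Modules} (φ : M ⟶ N) [Epi φ] (hM : Coh.IsCoh M)
    [N.IsQuasicoherent] :
    ∃ n₀ : ℕ, ∀ d : ℕ, n₀ ≤ d →
      Function.Surjective (((DCoh.tensorRightMod (CohB1.tensorPow L d)).map φ).app ⊤) := by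
  let f := X ↘ Spec (CommRingCat.of A)
  obtain ⟨n₀, hn₀⟩ := FlatStrata.exists_subsingleton_kernel f hL φ hM
  refine ⟨n₀, fun d hd q => ?_⟩
  have := hM.1
  have := isEquivalence_tensorRightMod_of_isInvertible (isInvertible_tensorPow hL.1 d)
  let T := DCoh.tensorRightMod (CohB1.tensorPow L d)
  have : (T.obj M).IsQuasicoherent := FlatStrata.isQCoh_tw (F := M) hL.1 d
  have : (T.obj N).IsQuasicoherent := FlatStrata.isQCoh_tw (F := N) hL.1 d
  exact (PnCoh.exact_app_top_of_subsingleton f
    (ShortComplex.mk (T.map φ) (0 : T.obj N ⟶ T.obj N) comp_zero)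
    ((ShortComplex.exact_iff_epi _ rfl).2 (show Epi (T.map φ) from inferInstance))
    (hn₀ d hd 1 Nat.one_pos) q).1 rfl

/-- Eventual surjectivity of base change of global sections of twists. -/
def EvSurj (hsq : IsBC (A := A) (A' := B) g) (L F : X.Modules) : Prop :=
  ∃ N : ℕ, ∀ d : ℕ, N ≤ d → Function.Surjective (FlatStrata.bcLin hsq (FlatStrata.tw F L d) ⊤)

/-- Eventual bijectivity of base change of global sections of twists. -/
def EvBij (hsq : IsBC (A := A) (A' := B) g) (L F : X.Modules) : Prop :=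
  ∃ N : ℕ, ∀ d : ℕ, N ≤ d → FlatStrata.BCBij hsq (FlatStrata.tw F L d)

/-- A morphism of modules on sections, linearly over the base ring. -/
noncomputable def secMap (A : Type u) [CommRing A] {X : Scheme.{u}}
    [X.Over (Spec (CommRingCat.of A))] {M N : X.Modules} (φ : M ⟶ N) (W : X.Opens) :
    secA A M W →ₗ[A] secA A N W where
  toFun s := show secA A N W from φ.app W (show Γ(M, W) from s)
  map_add' _ _ := map_add (φ.app W).hom _ _
  map_smul' a b := φ.app_smul (toSec A W a) (show Γ(M, W) from b)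

omit [IsNoetherianRing A] [IsNoetherianRing B] [IsProper (X ↘ Spec (CommRingCat.of A))] in
include hsq in
/-- The base change map is natural. -/
theorem bcLin_natural {M N : X.Modules} (φ : M ⟶ N) (z : B ⊗[A] secA A M ⊤) :
    (show Γ((Scheme.Modules.pullback g).obj N, g ⁻¹ᵁ (⊤ : X.Opens)) from
      FlatStrata.bcLin hsq N ⊤ ((secMap A φ ⊤).lTensor B z)) =
    ((Scheme.Modules.pullback g).map φ).app (g ⁻¹ᵁ (⊤ : X.Opens))
      (show Γ((Scheme.Modules.pullback g).obj M, g ⁻¹ᵁ (⊤ : X.Opens)) from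
        FlatStrata.bcLin hsq M ⊤ z) := by
  induction z using TensorProduct.induction_on with
  | zero =>
    simp only [map_zero]
    exact (map_zero (((Scheme.Modules.pullback g).map φ).app _).hom).symm
  | tmul b s => exact (FlatStrata.bcLin_map hsq (F := M) φ ⊤ b s).symm
  | add p q hp hq =>
    simp only [map_add, hp, hq]
    exact (map_add (((Scheme.Modules.pullback g).map φ).app _).hom _ _).symm

omit [IsNoetherianRing A] in
include hsq hL in
/-- Eventual surjectivity passes to quotients. -/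
theorem EvSurj.of_exact (S : ShortComplex X.Modules) (hS : S.Exact) (hepi : Epi S.g)
    (h₁ : Coh.IsCoh S.X₁) (h₂ : Coh.IsCoh S.X₂) [S.X₃.IsQuasicoherent]
    (h : EvSurj hsq L S.X₂) : EvSurj hsq L S.X₃ := by
  obtain ⟨N₁, hex⟩ := exists_exact_pullback_twist hsq hL S hS hepi h₁ h₂
  obtain ⟨N₂, hsu⟩ := h
  refine ⟨max N₁ N₂, fun d hd y => ?_⟩
  obtain ⟨t, ht⟩ := (hex d (le_of_max_le_left hd)).2
    (show Γ((Scheme.Modules.pullback g).obj
      ((DCoh.tensorRightMod (CohB1.tensorPow L d)).obj S.X₃), (⊤ : X₁.Opens)) from y)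
  obtain ⟨z, hz⟩ := hsu d (le_of_max_le_right hd)
    (show secA B ((Scheme.Modules.pullback g).obj (FlatStrata.tw S.X₂ L d)) (g ⁻¹ᵁ (⊤ : X.Opens))
      from t)
  refine ⟨(secMap A ((DCoh.tensorRightMod (CohB1.tensorPow L d)).map S.g) ⊤).lTensor B z, ?_⟩
  refine (bcLin_natural hsq _ z).trans ?_
  exact (congrArg _ hz).trans ht

include hsq hL in
/-- Eventual bijectivity passes to the cokernel of a morphism with eventually surjective source. -/
theorem EvBij.of_exact (S : ShortComplex X.Modules) (hS : S.Exact) (hepi : Epi S.g)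
    (h₁ : Coh.IsCoh S.X₁) (h₂ : Coh.IsCoh S.X₂) [S.X₃.IsQuasicoherent]
    (hK : EvSurj hsq L S.X₁) (hE : EvBij hsq L S.X₂) : EvBij hsq L S.X₃ := by
  obtain ⟨N₁, hex⟩ := exists_exact_pullback_twist hsq hL S hS hepi h₁ h₂
  obtain ⟨N₂, hbij⟩ := hE
  obtain ⟨N₃, hsu⟩ := hK
  obtain ⟨N₄, hg⟩ := exists_surjective_twist A hL S.g h₂
  obtain ⟨N₅, hN₅⟩ := EvSurj.of_exact hsq hL S hS hepi h₁ h₂
    ⟨N₂, fun d hd => (hbij d hd).2⟩
  refine ⟨max (max N₁ N₂) (max N₃ (max N₄ N₅)), fun d hd => ⟨?_, hN₅ d (by omega)⟩⟩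
  refine (injective_iff_map_eq_zero _).2 fun z hz => ?_
  let T := DCoh.tensorRightMod (CohB1.tensorPow L d)
  obtain ⟨z', rfl⟩ := LinearMap.lTensor_surjective B
    (show Function.Surjective (secMap A (T.map S.g) ⊤) from hg d (by omega)) z
  have h0 : ((Scheme.Modules.pullback g).map (T.map S.g)).app (g ⁻¹ᵁ (⊤ : X.Opens))
      (show Γ((Scheme.Modules.pullback g).obj (FlatStrata.tw S.X₂ L d), g ⁻¹ᵁ (⊤ : X.Opens)) from
        FlatStrata.bcLin hsq (FlatStrata.tw S.X₂ L d) ⊤ z') = 0 :=
    (bcLin_natural hsq (T.map S.g) z').symm.trans hz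
  obtain ⟨w, hw⟩ := ((hex d (by omega)).1 _).1 h0
  obtain ⟨w', hw'⟩ := hsu d (by omega)
    (show secA B ((Scheme.Modules.pullback g).obj (FlatStrata.tw S.X₁ L d)) (g ⁻¹ᵁ (⊤ : X.Opens))
      from w)
  have h1 : (secMap A (T.map S.f) ⊤).lTensor B w' = z' := by
    refine (hbij d (by omega)).1 ?_
    exact (bcLin_natural hsq (T.map S.f) w').trans ((congrArg _ hw').trans hw)
  rw [← h1, ← LinearMap.lTensor_comp_apply]
  have h2 : secMap A (T.map S.g) ⊤ ∘ₗ secMap A (T.map S.f) ⊤ = 0 :=
    LinearMap.ext fun s => congr(($((T.map_comp S.f S.g).symm.trans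
      ((congrArg T.map S.zero).trans (T.map_zero _ _)))).app ⊤ s)
  rw [h2, LinearMap.lTensor_zero, LinearMap.zero_apply]
  rfl


/-- A coherent module is the quotient of a finite locally free module. -/
theorem exists_epi_finLocFree (A : Type u) [CommRing A] {X : Scheme.{u}}
    [X.Over (Spec (CommRingCat.of A))] [IsProper (X ↘ Spec (CommRingCat.of A))] {L : X.Modules}
    (hL : CohB1.IsAmple L) {G : X.Modules} (hG : Coh.IsCoh G) :
    ∃ (E : X.Modules) (p : E ⟶ G), FlatMod.IsFinLocFree E ∧ Epi p := by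
  let f := X ↘ Spec (CommRingCat.of A)
  have := CohFin.compactSpace_of_proper f
  have := hG.1
  obtain ⟨n₀, hn₀⟩ := Ega2Proj.exists_spans_twist hL G hG.2
  have hP := isInvertible_tensorPow hL.1 n₀
  have := isQCoh_of_isInvertible hP
  have : (FlatStrata.tw G L n₀).IsQuasicoherent := FlatStrata.isQCoh_tw hL.1 n₀
  obtain ⟨k, p, hp⟩ := Ega2Proj.exists_epi_freeMod_of_spans (FlatStrata.tw G L n₀)
    (Groth.QCohMod.isFT_tensorMod hG.2 (Ega2Proj.isFT_of_isInvertible hP)) (hn₀ n₀ le_rfl)
  obtain ⟨R, hR, ⟨ε⟩⟩ := exists_inverse hP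
  have := isEquivalence_tensorRightMod_of_isInvertible hR
  let T := DCoh.tensorRightMod R
  let e : T.obj (FlatStrata.tw G L n₀) ≅ G :=
    (exists_associator G _ R).choose ≪≫ PicGrp.tensorModIso (Iso.refl G)
      ((exists_braiding _ R).choose ≪≫ ε) ≪≫ SecTwist.unitorR G
  refine ⟨T.obj (FlatMod.freeMod X k), T.map p ≫ e.hom, ?_, ?_⟩
  · exact LocFree.isFinLocFree_tensorMod (LocFree.isFinLocFree_freeMod X k)
      (LocFree.isFinLocFree_of_rank (LocFree.isInvertible_iff_ofRank_one.1 hR))
  · have : Epi (T.map p) := inferInstance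
    exact epi_comp _ _

include hsq hL in
/-- On a flat proper scheme over a Noetherian ring, base change of global sections of high twists of
any coherent module is bijective. -/
theorem evBij_of_flat [Flat (X ↘ Spec (CommRingCat.of A))] {G : X.Modules} (hG : Coh.IsCoh G) :
    EvBij hsq L G := by
  let f := X ↘ Spec (CommRingCat.of A)
  have := CohFin.compactSpace_of_proper f
  have := CohFin.isSeparated_of_proper f
  have : IsLocallyNoetherian X := LocallyOfFiniteType.isLocallyNoetherian f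
  have step : ∀ E : X.Modules, FlatMod.IsFinLocFree E → EvBij hsq L E := fun E hE => by
    have hEc : Coh.IsCoh E := KTheory.LocFree.isCoh hE
    have := hEc.1
    obtain ⟨N, hN⟩ := PnCoh.exists_subsingleton_of_isAmple f hL E hEc
    refine ⟨N, fun d hd => ?_⟩
    have : (FlatStrata.tw E L d).IsQuasicoherent := FlatStrata.isQCoh_tw hL.1 d
    exact FlatStrata.bcBij_of_vanish hsq _ (FlatTwist.isFlatOver_tensorMod
      (isInvertible_tensorPow hL.1 d) (CohBase.isFlatOver_of_isFinLocFree f hE)) (hN d hd)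
  obtain ⟨E, p, hE, hp⟩ := exists_epi_finLocFree A hL hG
  have hEc : Coh.IsCoh E := KTheory.LocFree.isCoh hE
  have := hG.1
  have hK : Coh.IsCoh (kernel p) := QCohMod.isCoh_kernel p hEc
  obtain ⟨E', p', hE', hp'⟩ := exists_epi_finLocFree A hL hK
  have hE'c : Coh.IsCoh E' := KTheory.LocFree.isCoh hE'
  obtain ⟨N', hN'⟩ := step E' hE'
  have hsK : EvSurj hsq L (kernel p) := by
    have := hK.1
    exact EvSurj.of_exact hsq hL (ShortComplex.mk (kernel.ι p') p' (kernel.condition p'))
      (ShortComplex.exact_kernel p') hp' (QCohMod.isCoh_kernel p' hE'c) hE'c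
      ⟨N', fun d hd => (hN' d hd).2⟩
  exact EvBij.of_exact hsq hL (ShortComplex.mk (kernel.ι p) p (kernel.condition p))
    (ShortComplex.exact_kernel p) hp hK hEc hsK (step E hE)

end Groth.Quot
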