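import Groth.Agent.Quot.SecVanish
import Groth.Agent.Quot.TwistBC
import Groth.Agent.AlgGrp2.ClosedRep
import Groth.Agent.CohTwo.ExchangeFibre
import Groth.Agent.Ega2Proj.SpansFinite
import Groth.Agent.FlatTwist.Relative

/-!
# The vanishing locus of a homomorphism into a flat family
-/

set_option autoImplicit false

universe u

open CategoryTheory Limits AlgebraicGeometry TopologicalSpace Opposite
open Groth.QCohMod (res res_res res_self res_app sectionsAlg)
open Groth.PicAux (pullSec pullSec_map pullSec_comp res_pullSec)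
open Groth.CohBase hiding res res_res res_self

namespace Groth.Quot

/-- A morphism out of a free module vanishes iff it vanishes on the basis. -/
theorem freeMod_hom_eq_zero_iff {X : Scheme.{u}} {N : ℕ} {Q : X.Modules}
    (p : FlatMod.freeMod X N ⟶ Q) :
    p = 0 ↔ ∀ j : Fin N,
      (Sigma.ι (fun _ : Fin N => Coh.structureModule X) j ≫ p).app ⊤ (PicAux.oneSec X ⊤) = 0 := by
  constructor
  · rintro rfl j
    simp
  · intro h
    refine Sigma.hom_ext _ _ fun j => ?_
    rw [comp_zero]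
    apply Scheme.Modules.hom_ext
    intro U
    ext r
    refine (PicAux.hom_structure_apply (Sigma.ι (fun _ : Fin N => Coh.structureModule X) j ≫ p) U r).trans ?_
    refine smul_eq_zero_of_right _ ?_
    rw [h j]
    exact map_zero _

/-- A morphism between inverse images vanishes after pullback iff its double adjunct does. -/
theorem pullback_map_eq_zero_iff_adjunct {X X' X'' : Scheme.{u}} (g : X' ⟶ X) (k : X'' ⟶ X')
    {A : X.Modules} {B : X'.Modules} (q : (Scheme.Modules.pullback g).obj A ⟶ B) :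
    (Scheme.Modules.pullback k).map q = 0 ↔
      (Scheme.Modules.pullbackPushforwardAdjunction g).homEquiv _ _ q ≫
        (Scheme.Modules.pushforward g).map
          ((Scheme.Modules.pullbackPushforwardAdjunction k).unit.app B) = 0 := by
  let adj := Scheme.Modules.pullbackPushforwardAdjunction g
  let adjk := Scheme.Modules.pullbackPushforwardAdjunction k
  have h5 : adjk.homEquiv _ _ ((Scheme.Modules.pullback k).map q) = q ≫ adjk.unit.app B := by
    rw [Adjunction.homEquiv_unit]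
    exact (adjk.unit.naturality q).symm
  rw [← adj.homEquiv_naturality_right, ← h5]
  constructor
  · intro h0
    rw [h0, Adjunction.homEquiv_unit, Adjunction.homEquiv_unit, Functor.map_zero, comp_zero,
      Functor.map_zero, comp_zero]
  · intro h0
    refine (adjk.homEquiv _ _).injective ((adj.homEquiv _ _).injective (h0.trans ?_))
    rw [Adjunction.homEquiv_unit, Adjunction.homEquiv_unit, Functor.map_zero, comp_zero,
      Functor.map_zero, comp_zero]

section Local

variable {X S X' T : Scheme.{u}} {f : X ⟶ S} {g : X' ⟶ X} {f' : X' ⟶ T} {φ : T ⟶ S}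

/-- The vanishing locus of a homomorphism, when a twist of the source is globally generated and the
same twist of the target is good. -/
theorem exists_hom_vanishing_of_good (H : IsPullback g f' f φ) {E F R : X.Modules}
    (hR : PicF.IsInvertible R) {N : ℕ} (p : FlatMod.freeMod X N ⟶ CohB1.tensorMod E R) [Epi p]
    (hF : IsPushGood f (CohB1.tensorMod F R))
    (u₀ : (Scheme.Modules.pullback g).obj E ⟶ (Scheme.Modules.pullback g).obj F) :
    ∃ (Z : Scheme.{u}) (c : Z ⟶ T), IsClosedImmersion c ∧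
      ∀ {T' X'' : Scheme.{u}} (h : T' ⟶ T) {k : X'' ⟶ X'} {f'' : X'' ⟶ T'}
        (_ : IsPullback k f'' f' h),
        (Scheme.Modules.pullback k).map u₀ = 0 ↔ ∃ z, z ≫ c = h := by
  let TR := DCoh.tensorRightMod R
  let G := Scheme.Modules.pullback g
  let Tg := DCoh.tensorRightMod (G.obj R)
  let ν := pullTensorNat g R
  let u' : G.obj (TR.obj E) ⟶ G.obj (TR.obj F) := ν.hom.app E ≫ Tg.map u₀ ≫ ν.inv.app F
  let q := (Scheme.Modules.pullback g).map p ≫ u'
  let adj := Scheme.Modules.pullbackPushforwardAdjunction g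
  let q' := adj.homEquiv _ _ q
  let s : Fin N → Γ(G.obj (TR.obj F), (⊤ : X'.Opens)) := fun j =>
    (Sigma.ι (fun _ : Fin N => Coh.structureModule X) j ≫ q').app ⊤ (PicAux.oneSec X ⊤)
  obtain ⟨Z, c, hc, hZ⟩ := exists_sections_vanishing_locus hF H s
  refine ⟨Z, c, hc, fun {T' X''} h {k f''} H' => ?_⟩
  rw [← hZ h H']
  let K := Scheme.Modules.pullback k
  -- `k^* u₀ = 0` iff `k^* u' = 0`
  have h1 : K.map u₀ = 0 ↔ K.map u' = 0 := by
    have := PicAux.isEquivalence_tensorRightMod_of_isInvertible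
      (PicAux.isInvertible_pullback k (PicAux.isInvertible_pullback g hR))
    have h2 : K.map u' = 0 ↔ K.map (Tg.map u₀) = 0 := by
      constructor
      · intro h0
        have e : Tg.map u₀ = ν.inv.app E ≫ u' ≫ ν.hom.app F := by simp [u', G, TR, Tg]
        rw [e, Functor.map_comp, Functor.map_comp, h0, zero_comp, comp_zero]
      · intro h0
        simp only [u', Functor.map_comp, h0, zero_comp, comp_zero]
    rw [h2]
    let Tk := DCoh.tensorRightMod (K.obj (G.obj R))
    let ν' : Tg ⋙ K ≅ K ⋙ Tk := pullTensorNat k (G.obj R)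
    have h3 : K.map (Tg.map u₀) ≫ ν'.hom.app (G.obj F) = ν'.hom.app (G.obj E) ≫ Tk.map (K.map u₀) :=
      ν'.hom.naturality u₀
    constructor
    · intro h0
      rw [h0, Functor.map_zero, comp_zero] at h3
      exact (cancel_mono (ν'.hom.app (G.obj F))).1 (h3.trans zero_comp.symm)
    · intro h0
      rw [h0, zero_comp] at h3
      have h3' : Tk.map (K.map u₀) = 0 :=
        (cancel_epi (ν'.hom.app (G.obj E))).1 (h3.symm.trans comp_zero.symm)
      refine Tk.map_injective ?_
      rw [h3', Functor.map_zero]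
  rw [h1]
  -- `k^* u' = 0` iff `k^* (g^* p ≫ u') = 0`
  have : Epi (K.map ((Scheme.Modules.pullback g).map p)) := inferInstance
  have h4 : K.map u' = 0 ↔ K.map q = 0 := by
    rw [show K.map q = K.map ((Scheme.Modules.pullback g).map p) ≫ K.map u' from K.map_comp _ _]
    exact ⟨fun h0 => (congrArg _ h0).trans comp_zero, fun h0 => (cancel_epi (K.map ((Scheme.Modules.pullback g).map p))).1
      (h0.trans comp_zero.symm)⟩
  rw [h4]
  rw [pullback_map_eq_zero_iff_adjunct g k q, freeMod_hom_eq_zero_iff]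
  refine forall_congr' fun j => ?_
  rw [← Category.assoc]
  exact Iff.rfl

end Local


/-- Over an affine Noetherian base, a high twist makes the source globally generated and the target
good. -/
theorem exists_good_twist (A : Type u) [CommRing A] [IsNoetherianRing A] {X : Scheme.{u}}
    [X.Over (Spec (CommRingCat.of A))] [IsProper (X ↘ Spec (CommRingCat.of A))] {L : X.Modules}
    (hL : CohB1.IsAmple L) {E F : X.Modules} (hE : Coh.IsCoh E) (hF : Coh.IsCoh F)
    (hFl : FlatMod.IsFlatOver (X ↘ Spec (CommRingCat.of A)) F) :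
    ∃ (R : X.Modules) (_ : PicF.IsInvertible R) (N : ℕ)
      (p : FlatMod.freeMod X N ⟶ CohB1.tensorMod E R),
        Epi p ∧ IsPushGood (X ↘ Spec (CommRingCat.of A)) (CohB1.tensorMod F R) := by
  let f := X ↘ Spec (CommRingCat.of A)
  have := CohFin.compactSpace_of_proper f
  have := CohFin.isSeparated_of_proper f
  have := hE.1
  have := hF.1
  have : IsLocallyNoetherian X := LocallyOfFiniteType.isLocallyNoetherian f
  obtain ⟨n₀, hn₀⟩ := Ega2Proj.exists_spans_twist hL E hE.2
  obtain ⟨n₁, hn₁⟩ := PnCoh.exists_subsingleton_of_isAmple f hL F hF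
  let n := max n₀ n₁
  have hP := PicAux.isInvertible_tensorPow hL.1 n
  have := PicAux.isQCoh_of_isInvertible hP
  have : (CohB1.tensorMod E (CohB1.tensorPow L n)).IsQuasicoherent := QCohMod.isQCoh_tensorMod
  obtain ⟨N, p, hp⟩ := Ega2Proj.exists_epi_freeMod_of_spans (CohB1.tensorMod E (CohB1.tensorPow L n))
    (Groth.QCohMod.isFT_tensorMod hE.2 (Ega2Proj.isFT_of_isInvertible hP))
    (hn₀ n (le_max_left _ _))
  refine ⟨_, hP, N, p, hp, ?_⟩
  have hM : Coh.IsCoh (CohB1.tensorMod F (CohB1.tensorPow L n)) :=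
    RefRank.isCoh_tensorMod hF (Inter.isCoh_of_isInvertible hP)
  have := hM.1
  have hMfl := FlatTwist.isFlatOver_tensorMod hP hFl
  refine isPushGood_of_fibres f hM hMfl fun y i hi => ?_
  let κ := (Spec (CommRingCat.of A)).residueField y
  let : Algebra A κ := (CohTwo.resHom A y).hom.toAlgebra
  let : (f.fiber y).Over (Spec (CommRingCat.of κ)) := ⟨f.fiberToSpecResidueField y⟩
  have hsq : IsBC (A := A) (A' := κ) (f.fiberι y) := by
    change IsPullback (f.fiberι y) (f.fiberToSpecResidueField y) f (Spec.map (CohTwo.resHom A y))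
    rw [CohTwo.map_resHom]
    exact IsPullback.of_hasPullback f _
  exact FlatStrata.subsingleton_HH_bc_of_vanish _ hsq hMfl (hn₁ n (le_max_right _ _)) i hi

/-- Vanishing after pulling back along a composite. -/
theorem pullback_map_comp_eq_zero_iff {X Y Z : Scheme.{u}} (a : X ⟶ Y) (b : Y ⟶ Z) {c : X ⟶ Z}
    (e : a ≫ b = c) {M N : Z.Modules} (φ : M ⟶ N) :
    (Scheme.Modules.pullback a).map ((Scheme.Modules.pullback b).map φ) = 0 ↔
      (Scheme.Modules.pullback c).map φ = 0 := by
  subst e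
  have h := (Scheme.Modules.pullbackComp a b).hom.naturality φ
  rw [Functor.comp_map] at h
  constructor
  · intro h0
    rw [h0, zero_comp] at h
    exact (cancel_epi ((Scheme.Modules.pullbackComp a b).hom.app M)).1 (h.symm.trans comp_zero.symm)
  · intro h0
    rw [h0, comp_zero] at h
    exact (cancel_mono ((Scheme.Modules.pullbackComp a b).hom.app N)).1 (h.trans zero_comp.symm)

/-- Vanishing of the pullback does not depend on the chosen cartesian square. -/
theorem pullback_map_eq_zero_congr {X' T T' P P' : Scheme.{u}} {f' : X' ⟶ T} {h : T' ⟶ T}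
    {k : P ⟶ X'} {q : P ⟶ T'} (H : IsPullback k q f' h) {k' : P' ⟶ X'} {q' : P' ⟶ T'}
    (H' : IsPullback k' q' f' h) {M N : X'.Modules} (φ : M ⟶ N)
    (h0 : (Scheme.Modules.pullback k).map φ = 0) : (Scheme.Modules.pullback k').map φ = 0 := by
  rw [← pullback_map_comp_eq_zero_iff (H'.isoIsPullback _ _ H).hom k
    (IsPullback.isoIsPullback_hom_fst _ _ H' H) φ, h0, Functor.map_zero]

/-- Vanishing of a morphism of modules can be checked on an open cover of the base. -/
theorem pullback_map_eq_zero_of_cover {X' T W P : Scheme.{u}} {f' : X' ⟶ T} {h : W ⟶ T}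
    {k : P ⟶ X'} {q : P ⟶ W} (H : IsPullback k q f' h) (𝒰 : Scheme.OpenCover.{u} W)
    {M N : X'.Modules} (φ : M ⟶ N)
    (h0 : ∀ i, (Scheme.Modules.pullback (pullback.fst f' (𝒰.f i ≫ h))).map φ = 0) :
    (Scheme.Modules.pullback k).map φ = 0 := by
  let 𝒱 := 𝒰.pullback₁ q
  refine GrassRep.hom_eq_zero_of_affines _ (fun i => (𝒱.f i).opensRange) (fun x => ?_)
    fun i V hV hVU s => ?_
  · obtain ⟨i, y, hy⟩ := Scheme.Cover.exists_eq 𝒱 x
    exact ⟨i, y, hy⟩
  have H₁ : IsPullback (𝒱.f i ≫ k) (pullback.snd q (𝒰.f i)) f' (𝒰.f i ≫ h) :=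
    (IsPullback.of_hasPullback q (𝒰.f i)).paste_horiz H
  have h2 : (Scheme.Modules.pullback (𝒱.f i)).map ((Scheme.Modules.pullback k).map φ) = 0 :=
    (pullback_map_comp_eq_zero_iff (𝒱.f i) k rfl φ).2
      (pullback_map_eq_zero_congr (IsPullback.of_hasPullback f' (𝒰.f i ≫ h)) H₁ φ (h0 i))
  have h3 : (Scheme.Modules.restrictFunctor (𝒱.f i)).map ((Scheme.Modules.pullback k).map φ) = 0 := by
    rw [← cancel_mono ((Scheme.Modules.restrictFunctorIsoPullback (𝒱.f i)).hom.app _),
      NatTrans.naturality, h2, comp_zero, zero_comp]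
  have hV' : 𝒱.f i ''ᵁ (𝒱.f i ⁻¹ᵁ V) = V := by
    rw [Scheme.Hom.image_preimage_eq_opensRange_inf, inf_eq_right.mpr hVU]
  have key : ∀ t : Γ((Scheme.Modules.pullback k).obj M, 𝒱.f i ''ᵁ (𝒱.f i ⁻¹ᵁ V)),
      ((Scheme.Modules.pullback k).map φ).app (𝒱.f i ''ᵁ (𝒱.f i ⁻¹ᵁ V)) t = 0 := fun t =>
    congr(($h3).app (𝒱.f i ⁻¹ᵁ V) t)
  rw [hV'] at key
  exact key s

/-- A closed subscheme of an affine scheme, by its ideal. -/
theorem exists_ideal_of_closed {A : CommRingCat.{u}} {Z : Scheme.{u}} (c : Z ⟶ Spec A)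
    [IsClosedImmersion c] :
    ∃ I : Ideal A, ∀ (C : CommRingCat.{u}) (φ : A ⟶ C),
      (∃ z, z ≫ c = Spec.map φ) ↔ I ≤ RingHom.ker φ.hom := by
  obtain ⟨I, e, hc⟩ := IsClosedImmersion.Spec_iff.1 ‹IsClosedImmersion c›
  refine ⟨I, fun C φ => ⟨?_, fun hI => ?_⟩⟩
  · rintro ⟨z, hz⟩
    obtain ⟨ψ, hψ⟩ := Spec.map_surjective (z ≫ e.hom)
    have h1 : φ = CommRingCat.ofHom (Ideal.Quotient.mk I) ≫ ψ := by
      refine Spec.map_injective ?_
      rw [Spec.map_comp, hψ, ← hz, hc, Category.assoc]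
    intro x hx
    rw [RingHom.mem_ker, h1]
    change ψ (Ideal.Quotient.mk I x) = 0
    rw [Ideal.Quotient.eq_zero_iff_mem.2 hx, map_zero]
  · refine ⟨Spec.map (CommRingCat.ofHom (Ideal.Quotient.lift I φ.hom fun x hx => hI hx)) ≫ e.inv, ?_⟩
    rw [hc, Category.assoc, Iso.inv_hom_id_assoc, ← Spec.map_comp]
    exact congrArg Spec.map (CommRingCat.hom_ext (Ideal.Quotient.lift_comp_mk _ _ _))

/-- The vanishing locus of a homomorphism into a flat family is a closed subscheme. -/
theorem exists_hom_vanishing_locus {X S : Scheme.{u}} (f : X ⟶ S) [IsProper f]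
    [IsLocallyNoetherian S] {L : X.Modules} (hL : RelAmple.IsRelAmple f L) {E F : X.Modules}
    (hE : Coh.IsCoh E) (hF : Coh.IsCoh F) (hFl : FlatMod.IsFlatOver f F) {X' T : Scheme.{u}}
    {g : X' ⟶ X} {f' : X' ⟶ T} {φ : T ⟶ S} (H : IsPullback g f' f φ)
    (u₀ : (Scheme.Modules.pullback g).obj E ⟶ (Scheme.Modules.pullback g).obj F) :
    ∃ (Z : Scheme.{u}) (c : Z ⟶ T), IsClosedImmersion c ∧
      ∀ {T' X'' : Scheme.{u}} (h : T' ⟶ T) {k : X'' ⟶ X'} {f'' : X'' ⟶ T'}
        (_ : IsPullback k f'' f' h),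
        (Scheme.Modules.pullback k).map u₀ = 0 ↔ ∃ z, z ≫ c = h := by
  have := hE.1
  have := hF.1
  suffices ∃ (Z : Scheme.{u}) (c : Z ⟶ T), IsClosedImmersion c ∧ ∀ (W : Scheme.{u}) (h : W ⟶ T),
      (Scheme.Modules.pullback (pullback.fst f' h)).map u₀ = 0 ↔ ∃ z, z ≫ c = h by
    obtain ⟨Z, c, hc, hZ⟩ := this
    refine ⟨Z, c, hc, fun {T' X''} h {k f''} H' => ?_⟩
    rw [← hZ T' h]
    exact ⟨pullback_map_eq_zero_congr H' (IsPullback.of_hasPullback f' h) u₀,
      pullback_map_eq_zero_congr (IsPullback.of_hasPullback f' h) H' u₀⟩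
  refine AlgGrp2.exists_closed_of_hasIdeal
    (Φ := fun {W} h => (Scheme.Modules.pullback (pullback.fst f' h)).map u₀ = 0) ?_ ?_ ?_
  · intro V W a h h0
    let b : pullback f' (a ≫ h) ⟶ pullback f' h :=
      pullback.map f' (a ≫ h) f' h (𝟙 _) a (𝟙 _) (by simp) (by simp)
    rw [← pullback_map_comp_eq_zero_iff b (pullback.fst f' h)
      ((pullback.lift_fst _ _ _).trans (Category.comp_id _)) u₀, h0, Functor.map_zero]
  · intro W h 𝒰 h0
    exact pullback_map_eq_zero_of_cover (IsPullback.of_hasPullback f' h) 𝒰 u₀ h0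
  intro x
  obtain ⟨V, hV, hxV⟩ := QCohMod.exists_affine_mem (φ x)
  obtain ⟨W, hW, hxW, e⟩ := exists_isAffineOpen_mem_and_subset (U := φ ⁻¹ᵁ V) (x := x) hxV
  refine ⟨⟨W, hW⟩, hxW, ?_⟩
  replace e : W ≤ φ ⁻¹ᵁ V := e
  let : Algebra Γ(S, V) Γ(T, W) := sectionsAlg φ e
  let U := f ⁻¹ᵁ V
  let U' := f' ⁻¹ᵁ W
  let : (U : Scheme.{u}).Over (Spec (CommRingCat.of Γ(S, V))) := ⟨preimageToSpec f⟩
  let : (U' : Scheme.{u}).Over (Spec (CommRingCat.of Γ(T, W))) := ⟨preimageToSpec f'⟩
  have e' : U' ≤ g ⁻¹ᵁ U := (f'.preimage_mono e).trans (preimage_sq_le H.w V)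
  have hb : IsBC (A := Γ(S, V)) (A' := Γ(T, W)) (g.resLE U U' e') :=
    CohCmpLib.isBC_resLE H hV hW e e'
  have : IsLocallyNoetherian X := LocallyOfFiniteType.isLocallyNoetherian f
  have : IsNoetherianRing Γ(S, V) := IsLocallyNoetherian.component_noetherian ⟨V, hV⟩
  have : IsProper ((U : Scheme.{u}) ↘ Spec (CommRingCat.of Γ(S, V))) :=
    MorphismProperty.of_isPullback (isPullback_preimageToSpec f hV) ‹IsProper f›
  obtain ⟨R, hR, N, p, hp, hgood⟩ := exists_good_twist Γ(S, V) (hL.2 ⟨V, hV⟩)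
    (CohFin.isCoh_restrict hE U) (CohFin.isCoh_restrict hF U)
    (isFlatOver_restrict_preimage f hV F hFl)
  let iE := CohPull.pullOnIso g U U' e' E
  let iF := CohPull.pullOnIso g U U' e' F
  let uW : (Scheme.Modules.pullback (g.resLE U U' e')).obj (E.restrict U.ι) ⟶
      (Scheme.Modules.pullback (g.resLE U U' e')).obj (F.restrict U.ι) :=
    iE.hom ≫ (Scheme.Modules.restrictFunctor U'.ι).map u₀ ≫ iF.inv
  obtain ⟨Z, c, hc, hZ⟩ := exists_hom_vanishing_of_good hb hR p hgood uW
  obtain ⟨I, hI⟩ := exists_ideal_of_closed c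
  refine ⟨I, fun C χ => ?_⟩
  rw [← hI C χ]
  let h := Spec.map χ ≫ hW.fromSpec
  have hB := isPullback_preimageToSpec f' hW
  let k := pullback.fst f' h
  let q := pullback.snd f' h
  have hw : k ≫ f' = (q ≫ Spec.map χ) ≫ hW.fromSpec := by
    rw [Category.assoc]; exact pullback.condition
  let k₀ := hB.lift k (q ≫ Spec.map χ) hw
  have hk₀ : k₀ ≫ U'.ι = k := hB.lift_fst _ _ _
  have H₀ : IsPullback k₀ q (preimageToSpec f' (V := W)) (Spec.map χ) := by
    refine IsPullback.of_right ?_ (hB.lift_snd _ _ _) hB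
    rw [hk₀]
    exact IsPullback.of_hasPullback f' h
  rw [← hZ (Spec.map χ) H₀]
  let P := Scheme.Modules.pullback k₀
  have hnat := (Scheme.Modules.restrictFunctorIsoPullback U'.ι).hom.naturality u₀
  have h1 : P.map uW = 0 ↔ P.map ((Scheme.Modules.restrictFunctor U'.ι).map u₀) = 0 := by
    simp only [uW, Functor.map_comp]
    exact ⟨fun h0 => (cancel_mono (P.map iF.inv)).1 (((cancel_epi (P.map iE.hom)).1
      (h0.trans comp_zero.symm)).trans zero_comp.symm), fun h0 => by rw [h0, zero_comp, comp_zero]⟩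
  rw [h1]
  change (Scheme.Modules.pullback k).map u₀ = 0 ↔ _
  rw [← pullback_map_comp_eq_zero_iff k₀ U'.ι hk₀ u₀]
  constructor
  · intro h0
    refine (cancel_mono (P.map ((Scheme.Modules.restrictFunctorIsoPullback U'.ι).hom.app _))).1 ?_
    rw [← P.map_comp, hnat, P.map_comp, h0, comp_zero, zero_comp]
  · intro h0
    refine (cancel_epi (P.map ((Scheme.Modules.restrictFunctorIsoPullback U'.ι).hom.app _))).1 ?_
    rw [← P.map_comp, ← hnat, P.map_comp, h0, comp_zero, zero_comp]

end Groth.Quot
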