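import Groth.Prelude.Def_FGA
import Groth.Agent.FlatStrata.ProjSpace

/-!
# Inclusions of pulled back submodules
-/

set_option autoImplicit false

universe u v w

open CategoryTheory Limits AlgebraicGeometry

namespace Groth.Quot

/-- Being contained in the image of a pulled back subobject is vanishing in the pulled back
quotient. -/
theorem image_le_image_map_iff {C : Type w} [Category.{v} C] [Abelian C] {D : Type w} [Category.{v} D]
    [Abelian D] (G : C ⥤ D) [G.PreservesZeroMorphisms] [PreservesFiniteColimits G] {A : C} {B B' : D}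
    (K : Subobject A) (e : G.obj A ≅ B) (β : B' ⟶ B) :
    imageSubobject β ≤ imageSubobject (G.map K.arrow ≫ e.hom) ↔
      β ≫ e.inv ≫ G.map (cokernel.π K.arrow) = 0 := by
  let h := G.map K.arrow ≫ e.hom
  let I := imageSubobject h
  constructor
  · intro hle
    have h0 : h ≫ e.inv ≫ G.map (cokernel.π K.arrow) = 0 := by
      simp [h, ← Functor.map_comp]
    have h1 : I.arrow ≫ e.inv ≫ G.map (cokernel.π K.arrow) = 0 :=
      imageSubobject_arrow_comp_eq_zero h0
    rw [← imageSubobject_arrow_comp β, ← Subobject.ofLE_arrow hle]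
    simp only [Category.assoc, h1, comp_zero, I, h]
  · intro h0
    let q := cokernel.π I.arrow
    have h1 : G.map K.arrow ≫ (e.hom ≫ q) = 0 := by
      rw [← Category.assoc]
      change h ≫ cokernel.π I.arrow = 0
      rw [← imageSubobject_arrow_comp h, Category.assoc, cokernel.condition, comp_zero]
    obtain ⟨d, hd⟩ := CokernelCofork.IsColimit.desc'
      (isColimitOfHasCokernelOfPreservesColimit G K.arrow) (e.hom ≫ q) h1
    replace hd : G.map (cokernel.π K.arrow) ≫ d = e.hom ≫ q := hd
    have h2 : β ≫ q = 0 := by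
      rw [show q = e.inv ≫ G.map (cokernel.π K.arrow) ≫ d by rw [hd, e.inv_hom_id_assoc]]
      rw [← Category.assoc, ← Category.assoc, Category.assoc β, h0, zero_comp]
    exact imageSubobject_le β (Abelian.monoLift I.arrow β h2) (Abelian.monoLift_comp I.arrow β h2)

variable {X S : Scheme.{u}} (f : X ⟶ S)

/-- A pulled back map into `E_{T'}` lands in the pulled back submodule iff it vanishes in the
pulled back quotient. -/
theorem image_le_quotPull_iff {E F : X.Modules} (a : F ⟶ E) {T T' : Over S} (g : T' ⟶ T)
    (K : Subobject (FGA.ET f E T)) :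
    imageSubobject ((Scheme.Modules.pullback (pullback.fst f T'.hom)).map a) ≤ FGA.quotPull f E g K ↔
      (Scheme.Modules.pullback (PicF.XTmap f g)).map
        ((Scheme.Modules.pullback (pullback.fst f T.hom)).map a ≫ cokernel.π K.arrow) = 0 := by
  let G := Scheme.Modules.pullback (PicF.XTmap f g)
  refine (image_le_image_map_iff G K (FGA.ETiso f E g) _).trans ?_
  have hnat : G.map ((Scheme.Modules.pullback (pullback.fst f T.hom)).map a) ≫ (FGA.ETiso f E g).hom =
      (FGA.ETiso f F g).hom ≫ (Scheme.Modules.pullback (pullback.fst f T'.hom)).map a :=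
    ((Scheme.Modules.pullbackComp (PicF.XTmap f g) (pullback.fst f T.hom)) ≪≫
      (Scheme.Modules.pullbackCongr (FGA.XTmap_fst f g))).hom.naturality a
  rw [G.map_comp, show G.map ((Scheme.Modules.pullback (pullback.fst f T.hom)).map a) =
    (FGA.ETiso f F g).hom ≫ (Scheme.Modules.pullback (pullback.fst f T'.hom)).map a ≫
      (FGA.ETiso f E g).inv by rw [← Category.assoc, ← hnat, Category.assoc, Iso.hom_inv_id, Category.comp_id]]
  rw [Category.assoc, Category.assoc]
  exact ⟨fun h => by rw [h, comp_zero], fun h => (cancel_epi (FGA.ETiso f F g).hom).1 (h.trans comp_zero.symm)⟩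

/-- A closed subscheme of projective space over `S` becomes one over `T` after base change. -/
theorem isRelAmple_XTproj {n : ℕ} {S X : Scheme.{u}} (i : X ⟶ CohB1.ProjSpaceOver n S)
    [IsClosedImmersion i] (T : Over S) :
    ∃ L : (PicF.XT (i ≫ CohB1.ProjSpaceOver.toBase n S) T).Modules,
      RelAmple.IsRelAmple (PicF.XTproj (i ≫ CohB1.ProjSpaceOver.toBase n S) T) L := by
  let f := i ≫ CohB1.ProjSpaceOver.toBase n S
  have hP := FlatStrata.isPullback_projMap n T.hom
  have w : (pullback.fst f T.hom ≫ i) ≫ CohB1.ProjSpaceOver.toBase n S = pullback.snd f T.hom ≫ T.hom :=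
    (Category.assoc _ _ _).trans pullback.condition
  let j := hP.lift (pullback.fst f T.hom ≫ i) (pullback.snd f T.hom) w
  have hj : j ≫ CohB1.ProjSpaceOver.toBase n T.left = PicF.XTproj f T := hP.lift_snd _ _ _
  have h1 : IsPullback (pullback.fst f T.hom) j i (FGA.projMap n T.hom) := by
    refine IsPullback.of_bot ?_ (hP.lift_fst _ _ _).symm hP
    rw [hj]
    exact IsPullback.of_hasPullback f T.hom
  have : IsClosedImmersion j := MorphismProperty.of_isPullback h1 inferInstance
  exact ⟨_, hj ▸ Groth.Agent.S2427.isRelAmple_twistOver n j⟩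

end Groth.Quot
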