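import Groth.Agent.Quot.FlatExact
import Groth.Agent.Quot.QuotPull
import Groth.Agent.Quot.HomVanish
import Groth.Agent.GrassRep.QuotBC
import Groth.Agent.FlatMorOne.FlatBaseChangeScheme
import Groth.Agent.FlatStrata.Twist
import Groth.Agent.QCohMod.Coherent

/-!
# The Quot functor is a separated functor
-/

set_option autoImplicit false

universe u v w

open CategoryTheory Limits AlgebraicGeometry

namespace Groth.Quot

section Abelian

variable {C : Type w} [Category.{v} C] [Abelian C]

/-- Precomposition with an epimorphism does not change the image. -/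
theorem imageSubobject_epi_comp {A A' B : C} (h : A' ⟶ A) [Epi h] (f : A ⟶ B) :
    imageSubobject (h ≫ f) = imageSubobject f := by
  refine le_antisymm (imageSubobject_comp_le h f) ?_
  have : IsIso (Subobject.ofLE _ _ (imageSubobject_comp_le h f)) := isIso_of_mono_of_epi _
  exact Subobject.le_of_comm (inv (Subobject.ofLE _ _ (imageSubobject_comp_le h f))) (by simp)

/-- Equal images of a composite with an isomorphism. -/
theorem imageSubobject_eq_of_iso {A A' B : C} (h : A' ≅ A) (f : A ⟶ B) (f' : A' ⟶ B)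
    (w : h.hom ≫ f = f') : imageSubobject f' = imageSubobject f := by
  subst w; exact imageSubobject_epi_comp h.hom f

/-- A factorisation through an epimorphism does not change the image. -/
theorem imageSubobject_eq_of_epi {A A' B : C} (h : A' ⟶ A) [Epi h] {f : A ⟶ B} {f' : A' ⟶ B}
    (w : h ≫ f = f') : imageSubobject f' = imageSubobject f := by
  subst w; exact imageSubobject_epi_comp h f

variable {D : Type w} [Category.{v} D] [Abelian D] (G : C ⥤ D)

/-- The image of the image of an image. -/
theorem imageSubobject_map_image [G.PreservesEpimorphisms] {A B : C} {B' : D} (β : A ⟶ B)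
    (e : G.obj B ⟶ B') :
    imageSubobject (G.map (imageSubobject β).arrow ≫ e) = imageSubobject (G.map β ≫ e) := by
  have h1 : G.map (factorThruImageSubobject β) ≫ (G.map (imageSubobject β).arrow ≫ e) =
      G.map β ≫ e := by
    rw [← Category.assoc, ← G.map_comp, imageSubobject_arrow_comp]
  exact (imageSubobject_eq_of_epi (G.map (factorThruImageSubobject β)) h1).symm

/-- A subobject is contained in another iff its inclusion dies in the quotient by it. -/
theorem le_iff_arrow_comp_eq_zero {B : C} (K K' : Subobject B) :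
    K ≤ K' ↔ K.arrow ≫ cokernel.π K'.arrow = 0 := by
  constructor
  · intro h
    rw [← Subobject.ofLE_arrow h, Category.assoc, cokernel.condition, comp_zero]
  · intro h
    exact Subobject.le_of_comm (Abelian.monoLift K'.arrow K.arrow h) (Abelian.monoLift_comp _ _ _)

/-- The cokernel of the image. -/
theorem exists_cokernel_image_iso {A B : C} (β : A ⟶ B) :
    ∃ θ : cokernel β ≅ cokernel (imageSubobject β).arrow,
      cokernel.π β ≫ θ.hom = cokernel.π (imageSubobject β).arrow := by
  let I := (imageSubobject β).arrow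
  have h1 : β ≫ cokernel.π I = 0 := by
    refine (congrArg (· ≫ cokernel.π I) (imageSubobject_arrow_comp β)).symm.trans ?_
    rw [Category.assoc, cokernel.condition, comp_zero]
  have h2 : I ≫ cokernel.π β = 0 := imageSubobject_arrow_comp_eq_zero (cokernel.condition β)
  refine ⟨⟨cokernel.desc β _ h1, cokernel.desc I _ h2, ?_, ?_⟩, cokernel.π_desc _ _ _⟩
  · exact coequalizer.hom_ext (by rw [cokernel.π_desc_assoc, cokernel.π_desc, Category.comp_id])
  · exact coequalizer.hom_ext (by rw [cokernel.π_desc_assoc, cokernel.π_desc, Category.comp_id])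

/-- A right exact functor carries the quotient to the quotient by the image. -/
theorem exists_map_cokernel_iso [G.PreservesZeroMorphisms] [PreservesFiniteColimits G] {B : C}
    (K : Subobject B) {B' : D} (e : G.obj B ≅ B') :
    ∃ θ : G.obj (cokernel K.arrow) ≅ cokernel (imageSubobject (G.map K.arrow ≫ e.hom)).arrow,
      G.map (cokernel.π K.arrow) ≫ θ.hom =
        e.hom ≫ cokernel.π (imageSubobject (G.map K.arrow ≫ e.hom)).arrow := by
  let β := G.map K.arrow ≫ e.hom
  obtain ⟨θ₂, h₂⟩ := exists_cokernel_image_iso β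
  let θ₀ := PreservesCokernel.iso G K.arrow
  let θ₁ : cokernel (G.map K.arrow) ≅ cokernel β :=
    cokernel.mapIso _ _ (Iso.refl _) e (Category.id_comp _).symm
  refine ⟨θ₀ ≪≫ θ₁ ≪≫ θ₂, ?_⟩
  rw [← h₂, Iso.trans_hom, Iso.trans_hom,
    show G.map (cokernel.π K.arrow) ≫ θ₀.hom ≫ θ₁.hom ≫ θ₂.hom =
      (cokernel.π (G.map K.arrow) ≫ θ₁.hom) ≫ θ₂.hom from ?_]
  · simp [θ₁, β]
  · rw [Category.assoc, ← Category.assoc (G.map _), PreservesCokernel.π_iso_hom]

end Abelian

/-- Compatibility of the composition isomorphisms of inverse images. -/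
theorem pullback_coherence {X₀ X₁ X₂ X₃ : Scheme.{u}} (a : X₃ ⟶ X₂) (b : X₂ ⟶ X₁) (p : X₁ ⟶ X₀)
    {p' : X₂ ⟶ X₀} {p'' : X₃ ⟶ X₀} {c : X₃ ⟶ X₁} (hb : b ≫ p = p') (ha : a ≫ p' = p'')
    (hc : a ≫ b = c) (hp : c ≫ p = p'') (E : X₀.Modules) :
    (Scheme.Modules.pullback a).map ((Scheme.Modules.pullbackComp b p).hom.app E ≫
        (Scheme.Modules.pullbackCongr hb).hom.app E) ≫
      (Scheme.Modules.pullbackComp a p').hom.app E ≫ (Scheme.Modules.pullbackCongr ha).hom.app E =
    ((Scheme.Modules.pullbackComp a b).hom.app ((Scheme.Modules.pullback p).obj E) ≫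
        (Scheme.Modules.pullbackCongr hc).hom.app ((Scheme.Modules.pullback p).obj E)) ≫
      (Scheme.Modules.pullbackComp c p).hom.app E ≫ (Scheme.Modules.pullbackCongr hp).hom.app E := by
  subst hb hc ha
  have key := GrassRep.pullbackComp_assoc_app a b p E (Category.assoc a b p)
  have hinv : ∀ {T G : Scheme.{u}} {f g : T ⟶ G} (h : f = g) (M : G.Modules),
      (Scheme.Modules.pullbackCongr h).hom.app M ≫ (Scheme.Modules.pullbackCongr h).inv.app M = 𝟙 _ :=
    fun h M => (Scheme.Modules.pullbackCongr h).hom_inv_id_app M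
  have hrefl : ∀ {T G : Scheme.{u}} (f : T ⟶ G) (M : G.Modules),
      (Scheme.Modules.pullbackCongr (rfl : f = f)).hom.app M = 𝟙 _ := fun f M => by
    simp [Scheme.Modules.pullbackCongr]
  rw [hrefl, Category.comp_id, hrefl, Category.comp_id, hrefl, Category.comp_id]
  have h1 := congrArg (fun z =>
    (Scheme.Modules.pullback a).map ((Scheme.Modules.pullbackComp b p).hom.app E) ≫
      (Scheme.Modules.pullbackComp a (b ≫ p)).hom.app E ≫ z ≫
      (Scheme.Modules.pullbackComp a b).hom.app ((Scheme.Modules.pullback p).obj E) ≫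
      (Scheme.Modules.pullbackComp (a ≫ b) p).hom.app E ≫
      (Scheme.Modules.pullbackCongr (Category.assoc a b p)).hom.app E) key
  simp only [Category.assoc, Iso.inv_hom_id_app_assoc, Iso.inv_hom_id_app, Category.comp_id] at h1
  refine h1.symm.trans ?_
  simp [← Functor.map_comp_assoc]

variable {X S : Scheme.{u}} (f : X ⟶ S)

/-- The base change square of `X_g`. -/
theorem isPullback_XTmap {T T' : Over S} (g : T' ⟶ T) :
    IsPullback (PicF.XTmap f g) (PicF.XTproj f T') (PicF.XTproj f T) g.left := by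
  refine IsPullback.of_right ?_ (pullback.lift_snd _ _ _) (IsPullback.of_hasPullback f T.hom)
  rw [FGA.XTmap_fst f g]
  exact (Over.w g).symm ▸ IsPullback.of_hasPullback f T'.hom

theorem XTmap_comp {T T' T'' : Over S} (g : T'' ⟶ T') (h : T' ⟶ T) :
    PicF.XTmap f g ≫ PicF.XTmap f h = PicF.XTmap f (g ≫ h) := by
  apply pullback.hom_ext
  · rw [Category.assoc, FGA.XTmap_fst, FGA.XTmap_fst, FGA.XTmap_fst]
  · change (PicF.XTmap f g ≫ PicF.XTmap f h) ≫ PicF.XTproj f T =
      PicF.XTmap f (g ≫ h) ≫ PicF.XTproj f T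
    rw [Category.assoc, (isPullback_XTmap f h).w, ← Category.assoc, (isPullback_XTmap f g).w,
      (isPullback_XTmap f (g ≫ h)).w, Category.assoc]
    rfl

theorem XTmap_id (T : Over S) : PicF.XTmap f (𝟙 T) = 𝟙 _ := by
  apply pullback.hom_ext <;> simp [PicF.XTmap]

variable {E : X.Modules}

set_option maxHeartbeats 1000000 in
/-- Pulling back twice. -/
theorem quotPull_comp {T T' T'' : Over S} (g : T'' ⟶ T') (h : T' ⟶ T)
    (K : Subobject (FGA.ET f E T)) :
    FGA.quotPull f E g (FGA.quotPull f E h K) = FGA.quotPull f E (g ≫ h) K := by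
  refine (imageSubobject_map_image (Scheme.Modules.pullback (PicF.XTmap f g)) _ _).trans ?_
  let c := Scheme.Modules.pullbackComp (PicF.XTmap f g) (PicF.XTmap f h) ≪≫
    Scheme.Modules.pullbackCongr (XTmap_comp f g h)
  refine imageSubobject_eq_of_iso (c.app _) _ _ ?_
  have h1 : c.hom.app (K : (PicF.XT f T).Modules) ≫
      (Scheme.Modules.pullback (PicF.XTmap f (g ≫ h))).map K.arrow =
      (Scheme.Modules.pullback (PicF.XTmap f g)).map
        ((Scheme.Modules.pullback (PicF.XTmap f h)).map K.arrow) ≫ c.hom.app _ :=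
    (c.hom.naturality K.arrow).symm
  rw [Iso.app_hom, ← Category.assoc, h1, Category.assoc, Functor.map_comp, Category.assoc]
  congr 1
  exact (pullback_coherence (PicF.XTmap f g) (PicF.XTmap f h) (pullback.fst f T.hom)
    (FGA.XTmap_fst f h) (FGA.XTmap_fst f g) (XTmap_comp f g h) (FGA.XTmap_fst f (g ≫ h)) E).symm

set_option maxHeartbeats 1000000 in
/-- Pulling back along the identity. -/
theorem quotPull_id {T : Over S} (K : Subobject (FGA.ET f E T)) :
    FGA.quotPull f E (𝟙 T) K = K := by
  let c := Scheme.Modules.pullbackCongr (XTmap_id f T) ≪≫ Scheme.Modules.pullbackId _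
  have hE : (FGA.ETiso f E (𝟙 T)).hom = c.hom.app (FGA.ET f E T) := by
    have h1 := congrArg (fun α => NatTrans.app α E)
      (Scheme.Modules.pseudofunctor_right_unitality (f := pullback.fst f T.hom))
    simp only [NatTrans.comp_app, Functor.whiskerLeft_app, Functor.rightUnitor_hom_app,
      eqToHom_app] at h1
    have h2 : (Scheme.Modules.pullbackId (PicF.XT f T)).hom.app (FGA.ET f E T) =
        (Scheme.Modules.pullbackComp (𝟙 _) (pullback.fst f T.hom)).hom.app E ≫
          (Scheme.Modules.pullbackCongr (Category.id_comp _)).hom.app E := by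
      rw [← cancel_epi ((Scheme.Modules.pullbackComp (𝟙 _) (pullback.fst f T.hom)).inv.app E),
        Iso.inv_hom_id_app_assoc]
      refine Eq.trans h1 ?_
      simp [Scheme.Modules.pullbackCongr]
    have h3 : ∀ (a : PicF.XT f T ⟶ PicF.XT f T) (ha : a = 𝟙 _)
        (hw : a ≫ pullback.fst f T.hom = pullback.fst f T.hom),
        (Scheme.Modules.pullbackComp a (pullback.fst f T.hom)).hom.app E ≫
            (Scheme.Modules.pullbackCongr hw).hom.app E =
          (Scheme.Modules.pullbackCongr ha).hom.app (FGA.ET f E T) ≫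
            (Scheme.Modules.pullbackId _).hom.app (FGA.ET f E T) := by
      rintro a rfl hw
      rw [h2]
      simp [Scheme.Modules.pullbackCongr]
    exact h3 _ (XTmap_id f T) (FGA.XTmap_fst f (𝟙 T))
  have h1 : (Scheme.Modules.pullback (PicF.XTmap f (𝟙 T))).map K.arrow ≫ c.hom.app _ =
      c.hom.app (K : (PicF.XT f T).Modules) ≫ K.arrow := c.hom.naturality K.arrow
  refine (imageSubobject_eq_of_epi (c.hom.app (K : (PicF.XT f T).Modules)) (f := K.arrow) ?_).trans
    ((imageSubobject_mono _).trans (Subobject.mk_arrow K))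
  rw [hE]
  exact h1.symm

/-- The quotient by a pulled back submodule is the pulled back quotient. -/
theorem exists_quotPull_cokernel_iso {T T' : Over S} (g : T' ⟶ T) (K : Subobject (FGA.ET f E T)) :
    ∃ θ : (Scheme.Modules.pullback (PicF.XTmap f g)).obj (cokernel K.arrow) ≅
        cokernel (FGA.quotPull f E g K).arrow,
      (Scheme.Modules.pullback (PicF.XTmap f g)).map (cokernel.π K.arrow) ≫ θ.hom =
        (FGA.ETiso f E g).hom ≫ cokernel.π (FGA.quotPull f E g K).arrow :=
  exists_map_cokernel_iso (Scheme.Modules.pullback (PicF.XTmap f g)) K (FGA.ETiso f E g)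

/-- Coherent flat quotients pull back to coherent flat quotients. -/
theorem quotPull_mem {T T' : Over S} (g : T' ⟶ T) (K : FGA.QuotSet f E T) :
    Coh.IsCoh (cokernel (FGA.quotPull f E g K.1).arrow) ∧
      FlatMod.IsFlatOver (PicF.XTproj f T') (cokernel (FGA.quotPull f E g K.1).arrow) := by
  obtain ⟨θ, -⟩ := exists_quotPull_cokernel_iso f g K.1
  have := K.2.1.1
  exact ⟨QCohMod.isCoh_of_iso θ (FlatStrata.isCoh_pullback _ K.2.1), fun x =>
    (FlatMorOne.isFlatOverAt_congr _ θ x).1
      (FlatMorOne.isFlatOver_baseChange (isPullback_XTmap f g) _ K.2.2 x)⟩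

/-- Pullback of families of quotients. -/
noncomputable def pullFam {T T' : Over S} (g : T' ⟶ T) (K : FGA.QuotSet f E T) :
    FGA.QuotSet f E T' :=
  ⟨FGA.quotPull f E g K.1, quotPull_mem f g K⟩

/-- Pulling back respects inclusions. -/
theorem quotPull_mono {T T' : Over S} (g : T' ⟶ T) {K K' : Subobject (FGA.ET f E T)} (h : K ≤ K') :
    FGA.quotPull f E g K ≤ FGA.quotPull f E g K' := by
  have h1 : (Scheme.Modules.pullback (PicF.XTmap f g)).map K.arrow ≫ (FGA.ETiso f E g).hom =
      (Scheme.Modules.pullback (PicF.XTmap f g)).map (Subobject.ofLE _ _ h) ≫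
        ((Scheme.Modules.pullback (PicF.XTmap f g)).map K'.arrow ≫ (FGA.ETiso f E g).hom) := by
    rw [← Category.assoc, ← Functor.map_comp, Subobject.ofLE_arrow]
  unfold FGA.quotPull
  refine imageSubobject_le _
    ((Scheme.Modules.pullback (PicF.XTmap f g)).map (Subobject.ofLE _ _ h) ≫
      factorThruImageSubobject ((Scheme.Modules.pullback (PicF.XTmap f g)).map K'.arrow ≫
        (FGA.ETiso f E g).hom)) ?_
  rw [Category.assoc, imageSubobject_arrow_comp]
  exact h1.symm

/-- Inclusion of submodules can be checked on an open cover of the base. -/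
theorem le_of_cover {T : Over S} {ι : Type u} {V : ι → Over S} (g : ∀ i, V i ⟶ T)
    [∀ i, IsOpenImmersion (g i).left] (hg : ∀ t : T.left, ∃ i, t ∈ Set.range (g i).left)
    (K K' : Subobject (FGA.ET f E T))
    (h : ∀ i, FGA.quotPull f E (g i) K ≤ FGA.quotPull f E (g i) K') : K ≤ K' := by
  rw [le_iff_arrow_comp_eq_zero]
  let φ := K.arrow ≫ cokernel.π K'.arrow
  have h0 : ∀ i, (Scheme.Modules.pullback (PicF.XTmap f (g i))).map φ = 0 := fun i => by
    have h1 := (image_le_image_map_iff (Scheme.Modules.pullback (PicF.XTmap f (g i))) K'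
      (FGA.ETiso f E (g i)) ((Scheme.Modules.pullback (PicF.XTmap f (g i))).map K.arrow ≫
        (FGA.ETiso f E (g i)).hom)).1 (h i)
    rw [Category.assoc, Iso.hom_inv_id_assoc] at h1
    rw [Functor.map_comp]
    exact h1
  let 𝒰 : Scheme.OpenCover.{u} T.left := Scheme.Cover.mkOfCovers ι (fun i => (V i).left)
    (fun i => (g i).left) (fun t => by obtain ⟨i, hi⟩ := hg t; exact ⟨i, hi⟩)
    fun i => inferInstance
  have H : IsPullback (𝟙 (PicF.XT f T)) (PicF.XTproj f T) (PicF.XTproj f T) (𝟙 T.left) :=
    IsPullback.of_horiz_isIso ⟨by simp⟩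
  have h2 := pullback_map_eq_zero_of_cover H 𝒰 φ fun i => by
    have Hi : IsPullback (PicF.XTmap f (g i)) (PicF.XTproj f (V i)) (PicF.XTproj f T)
        ((g i).left ≫ 𝟙 T.left) := by
      rw [Category.comp_id]; exact isPullback_XTmap f (g i)
    exact pullback_map_eq_zero_congr Hi (IsPullback.of_hasPullback _ _) φ (h0 i)
  have h3 := (Scheme.Modules.pullbackId (PicF.XT f T)).hom.naturality φ
  rw [h2, zero_comp] at h3
  exact (cancel_epi ((Scheme.Modules.pullbackId _).hom.app _)).1 (h3.symm.trans comp_zero.symm)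

/-- Submodules which agree on an open cover of the base agree. -/
theorem eq_of_cover {T : Over S} {ι : Type u} {V : ι → Over S} (g : ∀ i, V i ⟶ T)
    [∀ i, IsOpenImmersion (g i).left] (hg : ∀ t : T.left, ∃ i, t ∈ Set.range (g i).left)
    (K K' : Subobject (FGA.ET f E T))
    (h : ∀ i, FGA.quotPull f E (g i) K = FGA.quotPull f E (g i) K') : K = K' :=
  le_antisymm (le_of_cover f g hg K K' fun i => (h i).le)
    (le_of_cover f g hg K' K fun i => (h i).ge)

end Groth.Quot
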