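import Groth.Agent.Quot.Functor
import Groth.Agent.Quot.QuotPull
import Groth.Agent.Quot.TwistBC
import Groth.Agent.Flatmor4.FpqcSubterminal

/-!
# Submodules under base change of the ambient family

For a cartesian square over `φ : S' ⟶ S` and an `S'`-scheme `T`, the families of quotients of the
base changed module over `T` are those of the original module over `T` seen over `S`.
-/

set_option autoImplicit false
set_option linter.style.haveILetI false

universe u

open CategoryTheory Limits AlgebraicGeometry TopologicalSpace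

noncomputable section

namespace Groth.Quot

/-- Inverse images along isomorphisms are equivalences. -/
theorem isEquivalence_pullback_of_isIso {X Y : Scheme.{u}} (e : X ⟶ Y) [IsIso e] :
    (Scheme.Modules.pullback e).IsEquivalence := by
  have hu : IsIso (Scheme.Modules.restrictAdjunction e).unit := by
    have : ∀ M : Y.Modules, IsIso ((Scheme.Modules.restrictAdjunction e).unit.app M) := fun M => by
      rw [Scheme.Modules.Hom.isIso_iff_isIso_app]
      intro U
      rw [Scheme.Modules.restrictAdjunction_unit_app_app]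
      have hU : e ''ᵁ (e ⁻¹ᵁ U) = U := by
        rw [Scheme.Hom.image_preimage_eq_opensRange_inf, Scheme.Hom.opensRange_of_isIso, top_inf_eq]
      have hi : IsIso (homOfLE (Scheme.Hom.image_preimage_le e U)) :=
        ⟨homOfLE hU.ge, Subsingleton.elim _ _, Subsingleton.elim _ _⟩
      exact (M.presheaf).map_isIso (homOfLE (Scheme.Hom.image_preimage_le e U)).op
    exact NatIso.isIso_of_isIso_app _
  have : (Scheme.Modules.restrictFunctor e).IsEquivalence :=
    (Scheme.Modules.restrictAdjunction e).toEquivalence.isEquivalence_functor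
  exact Functor.isEquivalence_of_iso (Scheme.Modules.restrictFunctorIsoPullback e)

/-- The canonical comparison of inverse images along equal composites. -/
def canP {Y' Y Z : Scheme.{u}} {a : Y' ⟶ Y} {p : Y ⟶ Z} {q : Y' ⟶ Z} (h : a ≫ p = q)
    (E : Z.Modules) :
    (Scheme.Modules.pullback a).obj ((Scheme.Modules.pullback p).obj E) ≅
      (Scheme.Modules.pullback q).obj E :=
  (Scheme.Modules.pullbackComp a p).app E ≪≫ (Scheme.Modules.pullbackCongr h).app E

theorem canP_naturality {Y' Y Z : Scheme.{u}} {a : Y' ⟶ Y} {p : Y ⟶ Z} {q : Y' ⟶ Z} (h : a ≫ p = q)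
    {E F : Z.Modules} (u : E ⟶ F) :
    (Scheme.Modules.pullback a).map ((Scheme.Modules.pullback p).map u) ≫ (canP h F).hom =
      (canP h E).hom ≫ (Scheme.Modules.pullback q).map u :=
  (Scheme.Modules.pullbackComp a p ≪≫ Scheme.Modules.pullbackCongr h).hom.naturality u

theorem canP_assoc {X₀ X₁ X₂ X₃ : Scheme.{u}} {a : X₃ ⟶ X₂} {b : X₂ ⟶ X₁} {p : X₁ ⟶ X₀}
    {p' : X₂ ⟶ X₀} {p'' : X₃ ⟶ X₀} {c : X₃ ⟶ X₁} (hb : b ≫ p = p') (ha : a ≫ p' = p'')
    (hc : a ≫ b = c) (hp : c ≫ p = p'') (E : X₀.Modules) :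
    (Scheme.Modules.pullback a).map (canP hb E).hom ≫ (canP ha E).hom =
      (canP hc ((Scheme.Modules.pullback p).obj E)).hom ≫ (canP hp E).hom :=
  pullback_coherence a b p hb ha hc hp E

section SubPull

variable {Y₀ Y Y' : Scheme.{u}}

/-- The inverse image of a submodule, inside an identified module. -/
def subPull (a : Y' ⟶ Y) {B : Y.Modules} {B' : Y'.Modules}
    (e : (Scheme.Modules.pullback a).obj B ≅ B') (K : Subobject B) : Subobject B' :=
  imageSubobject ((Scheme.Modules.pullback a).map K.arrow ≫ e.hom)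

theorem subPull_comp (a : Y ⟶ Y₀) (b : Y' ⟶ Y) {c : Y' ⟶ Y₀} (hc : b ≫ a = c) {B : Y₀.Modules}
    {B₁ : Y.Modules} {B₂ : Y'.Modules} (e : (Scheme.Modules.pullback a).obj B ≅ B₁)
    (e' : (Scheme.Modules.pullback b).obj B₁ ≅ B₂) (e'' : (Scheme.Modules.pullback c).obj B ≅ B₂)
    (hcoh : (Scheme.Modules.pullback b).map e.hom ≫ e'.hom = (canP hc B).hom ≫ e''.hom)
    (K : Subobject B) : subPull b e' (subPull a e K) = subPull c e'' K := by
  refine (imageSubobject_map_image (Scheme.Modules.pullback b) _ _).trans ?_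
  let θ := Scheme.Modules.pullbackComp b a ≪≫ Scheme.Modules.pullbackCongr hc
  refine imageSubobject_eq_of_iso (θ.app _) _ _ ?_
  have h1 : θ.hom.app (K : Y₀.Modules) ≫ (Scheme.Modules.pullback c).map K.arrow =
      (Scheme.Modules.pullback b).map ((Scheme.Modules.pullback a).map K.arrow) ≫ θ.hom.app _ :=
    (θ.hom.naturality K.arrow).symm
  rw [Iso.app_hom, ← Category.assoc, h1, Category.assoc, Functor.map_comp, Category.assoc]
  congr 1
  exact hcoh.symm

variable (a : Y' ⟶ Y) {B : Y.Modules} {B' : Y'.Modules}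
  (e : (Scheme.Modules.pullback a).obj B ≅ B')

theorem exists_subPull_cokernel_iso (K : Subobject B) :
    ∃ θ : (Scheme.Modules.pullback a).obj (cokernel K.arrow) ≅ cokernel (subPull a e K).arrow,
      (Scheme.Modules.pullback a).map (cokernel.π K.arrow) ≫ θ.hom =
        e.hom ≫ cokernel.π (subPull a e K).arrow :=
  exists_map_cokernel_iso (Scheme.Modules.pullback a) K e

/-- Submodules with compatibly isomorphic quotients are equal. -/
theorem subobject_eq_of_cokernel_iso {C : Y'.Modules} {K K' : Subobject B'}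
    (p : cokernel K.arrow ⟶ C) (p' : cokernel K'.arrow ⟶ C) [Mono p] [Mono p']
    (h : cokernel.π K.arrow ≫ p = cokernel.π K'.arrow ≫ p') : K = K' := by
  refine le_antisymm ((le_iff_arrow_comp_eq_zero _ _).2 ?_) ((le_iff_arrow_comp_eq_zero _ _).2 ?_)
  · rw [← cancel_mono p', zero_comp, Category.assoc, ← h, cokernel.condition_assoc, zero_comp]
  · rw [← cancel_mono p, zero_comp, Category.assoc, h, cokernel.condition_assoc, zero_comp]

variable [IsIso a]

theorem subPull_le_iff {K K' : Subobject B} : subPull a e K ≤ subPull a e K' ↔ K ≤ K' := by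
  have := isEquivalence_pullback_of_isIso a
  let G := Scheme.Modules.pullback a
  rw [show subPull a e K = imageSubobject (G.map K.arrow ≫ e.hom) from rfl]
  refine (image_le_image_map_iff G K' e (G.map K.arrow ≫ e.hom)).trans ?_
  rw [Category.assoc, Iso.hom_inv_id_assoc, ← Functor.map_comp, le_iff_arrow_comp_eq_zero]
  constructor
  · intro h
    exact G.map_injective (h.trans (G.map_zero _ _).symm)
  · intro h
    rw [h, G.map_zero]

theorem subPull_bijective : Function.Bijective (subPull a e) := by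
  refine ⟨fun K K' h => le_antisymm ((subPull_le_iff a e).1 h.le) ((subPull_le_iff a e).1 h.ge),
    fun K' => ?_⟩
  have := isEquivalence_pullback_of_isIso a
  let G := Scheme.Modules.pullback a
  let C := G.objPreimage (cokernel K'.arrow)
  let η : G.obj C ≅ cokernel K'.arrow := G.objObjPreimageIso _
  let π' : B ⟶ C := G.preimage (e.hom ≫ cokernel.π K'.arrow ≫ η.inv)
  have hπ : G.map π' = e.hom ≫ cokernel.π K'.arrow ≫ η.inv := G.map_preimage _
  have : Epi π' := by
    refine G.epi_of_epi_map ?_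
    rw [hπ]
    infer_instance
  let K := kernelSubobject π'
  refine ⟨K, ?_⟩
  let d : cokernel K.arrow ⟶ C := cokernel.desc _ π' (kernelSubobject_arrow_comp π')
  have hd : cokernel.π K.arrow ≫ d = π' := cokernel.π_desc _ _ _
  have : IsIso d := by
    have : Epi d := epi_of_epi_fac hd
    have h1 : Mono d := by
      have h0 : (ShortComplex.mk K.arrow π' (kernelSubobject_arrow_comp π')).Exact :=
        (ShortComplex.mk K.arrow π' (kernelSubobject_arrow_comp π')).exact_of_f_is_kernel
          (IsLimit.ofIsoLimit (kernelIsKernel π')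
            (Fork.ext (kernelSubobjectIso π').symm (by simp [K])))
      exact h0.mono_cokernelDesc
    exact isIso_of_mono_of_epi d
  obtain ⟨θ, hθ⟩ := exists_subPull_cokernel_iso a e K
  refine subobject_eq_of_cokernel_iso (θ.inv ≫ G.map d ≫ η.hom) (𝟙 _) ?_
  rw [Category.comp_id, ← cancel_epi e.hom, ← reassoc_of% hθ, Iso.hom_inv_id_assoc,
    ← Functor.map_comp_assoc, hd, hπ]
  simp [G]

end SubPull

section Square

variable {Y₀ Y₁ Y' Y'' X X' : Scheme.{u}} {g : X' ⟶ X} {E : X.Modules} {E' : X'.Modules}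
  (ε : (Scheme.Modules.pullback g).obj E ≅ E')

/-- The identification of the inverse images along a commutative square over `g`. -/
def modIso {p : Y₀ ⟶ X} {q : Y' ⟶ X'} {j : Y' ⟶ Y₀} (hj : j ≫ p = q ≫ g) :
    (Scheme.Modules.pullback j).obj ((Scheme.Modules.pullback p).obj E) ≅
      (Scheme.Modules.pullback q).obj E' :=
  canP hj E ≪≫ (canP rfl E).symm ≪≫ (Scheme.Modules.pullback q).mapIso ε

theorem modIso_assoc_left {p : Y₀ ⟶ X} {q : Y' ⟶ X'} {q'' : Y'' ⟶ X'} {j : Y' ⟶ Y₀}
    (hj : j ≫ p = q ≫ g) {a : Y'' ⟶ Y'} (ha : a ≫ q = q'') {c : Y'' ⟶ Y₀} (hc : a ≫ j = c)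
    (hcp : c ≫ p = q'' ≫ g) :
    (Scheme.Modules.pullback a).map (modIso ε hj).hom ≫ (canP ha E').hom =
      (canP hc ((Scheme.Modules.pullback p).obj E)).hom ≫ (modIso ε hcp).hom := by
  let Pa := Scheme.Modules.pullback a
  have hag : a ≫ q ≫ g = q'' ≫ g := by rw [← Category.assoc, ha]
  have h1 := canP_assoc hj hag hc hcp E
  have h2 := canP_assoc (rfl : q ≫ g = _) hag ha rfl E
  have h3 : Pa.map (canP (rfl : q ≫ g = _) E).inv ≫
      (canP ha ((Scheme.Modules.pullback g).obj E)).hom =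
      (canP hag E).hom ≫ (canP rfl E).inv := by
    rw [Iso.eq_comp_inv, Category.assoc, ← cancel_epi (Pa.map (canP rfl E).hom),
      ← Functor.map_comp_assoc, Iso.hom_inv_id, CategoryTheory.Functor.map_id, Category.id_comp]
    exact h2.symm
  have h4 := canP_naturality ha ε.hom
  simp only [modIso, Iso.trans_hom, Iso.symm_hom, Functor.mapIso_hom, Functor.map_comp,
    Category.assoc]
  rw [h4, reassoc_of% h3, reassoc_of% h1]

theorem modIso_assoc_right {p : Y₀ ⟶ X} {p₁ : Y₁ ⟶ X} {q'' : Y'' ⟶ X'} {b : Y₁ ⟶ Y₀}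
    (hb : b ≫ p = p₁) {j₁ : Y'' ⟶ Y₁} (hj₁ : j₁ ≫ p₁ = q'' ≫ g) {c : Y'' ⟶ Y₀} (hc : j₁ ≫ b = c)
    (hcp : c ≫ p = q'' ≫ g) :
    (Scheme.Modules.pullback j₁).map (canP hb E).hom ≫ (modIso ε hj₁).hom =
      (canP hc ((Scheme.Modules.pullback p).obj E)).hom ≫ (modIso ε hcp).hom := by
  have h1 := canP_assoc hb hj₁ hc hcp E
  simp only [modIso, Iso.trans_hom, Iso.symm_hom]
  exact (Category.assoc _ _ _).symm.trans ((congrArg (· ≫ _) h1).trans (Category.assoc _ _ _))

theorem subPull_modIso_left {p : Y₀ ⟶ X} {q : Y' ⟶ X'} {q'' : Y'' ⟶ X'} {j : Y' ⟶ Y₀}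
    (hj : j ≫ p = q ≫ g) {a : Y'' ⟶ Y'} (ha : a ≫ q = q'') {c : Y'' ⟶ Y₀} (hc : a ≫ j = c)
    (hcp : c ≫ p = q'' ≫ g) (K : Subobject ((Scheme.Modules.pullback p).obj E)) :
    subPull a (canP ha E') (subPull j (modIso ε hj) K) = subPull c (modIso ε hcp) K :=
  subPull_comp j a hc _ _ _ (modIso_assoc_left ε hj ha hc hcp) K

theorem subPull_modIso_right {p : Y₀ ⟶ X} {p₁ : Y₁ ⟶ X} {q'' : Y'' ⟶ X'} {b : Y₁ ⟶ Y₀}
    (hb : b ≫ p = p₁) {j₁ : Y'' ⟶ Y₁} (hj₁ : j₁ ≫ p₁ = q'' ≫ g) {c : Y'' ⟶ Y₀} (hc : j₁ ≫ b = c)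
    (hcp : c ≫ p = q'' ≫ g) (K : Subobject ((Scheme.Modules.pullback p).obj E)) :
    subPull j₁ (modIso ε hj₁) (subPull b (canP hb E) K) = subPull c (modIso ε hcp) K :=
  subPull_comp b j₁ hc _ _ _ (modIso_assoc_right ε hb hj₁ hc hcp) K

end Square

section BaseChange

variable {X S X' S' : Scheme.{u}} {f : X ⟶ S} {f' : X' ⟶ S'} {g : X' ⟶ X} {φ : S' ⟶ S}
  (H : IsPullback g f' f φ)

include H in
theorem bcSquare (T : Over S') :
    IsPullback (pullback.fst f' T.hom ≫ g) (pullback.snd f' T.hom) f ((Over.map φ).obj T).hom :=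
  (IsPullback.of_hasPullback f' T.hom).paste_horiz H

/-- The identification `X'_T ≅ X_T`. -/
def bcIso (T : Over S') : PicF.XT f' T ≅ PicF.XT f ((Over.map φ).obj T) :=
  (bcSquare H T).isoPullback

theorem bcIso_hom_fst (T : Over S') :
    (bcIso H T).hom ≫ pullback.fst f ((Over.map φ).obj T).hom = pullback.fst f' T.hom ≫ g :=
  (bcSquare H T).isoPullback_hom_fst

theorem bcIso_hom_proj (T : Over S') :
    (bcIso H T).hom ≫ PicF.XTproj f ((Over.map φ).obj T) = PicF.XTproj f' T :=
  (bcSquare H T).isoPullback_hom_snd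

variable {E : X.Modules} {E' : X'.Modules} (ε : (Scheme.Modules.pullback g).obj E ≅ E')

/-- The identification of the pulled back modules. -/
def bcModIso (T : Over S') :
    (Scheme.Modules.pullback (bcIso H T).hom).obj (FGA.ET f E ((Over.map φ).obj T)) ≅
      FGA.ET f' E' T :=
  modIso ε (bcIso_hom_fst H T)

/-- A submodule over `T` seen over `S`, as a submodule over `T`. -/
def bcSub (T : Over S') (K : Subobject (FGA.ET f E ((Over.map φ).obj T))) :
    Subobject (FGA.ET f' E' T) :=
  subPull (bcIso H T).hom (bcModIso H ε T) K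

theorem bcSub_bijective (T : Over S') : Function.Bijective (bcSub H ε T) :=
  subPull_bijective _ _

theorem exists_bcSub_cokernel_iso (T : Over S')
    (K : Subobject (FGA.ET f E ((Over.map φ).obj T))) :
    Nonempty ((Scheme.Modules.pullback (bcIso H T).hom).obj (cokernel K.arrow) ≅
      cokernel (bcSub H ε T K).arrow) :=
  ⟨(exists_subPull_cokernel_iso _ _ K).choose⟩

set_option maxHeartbeats 1000000 in
/-- The identification commutes with base change. -/
theorem quotPull_bcSub {T T' : Over S'} (u : T' ⟶ T)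
    (K : Subobject (FGA.ET f E ((Over.map φ).obj T))) :
    FGA.quotPull f' E' u (bcSub H ε T K) =
      bcSub H ε T' (FGA.quotPull f E ((Over.map φ).map u) K) := by
  let u₀ := (Over.map φ).map u
  let T₀ := (Over.map φ).obj T
  let j := (bcIso H T).hom
  let j' := (bcIso H T').hom
  let c := PicF.XTmap f' u ≫ j
  have hcc : j' ≫ PicF.XTmap f u₀ = c := by
    apply pullback.hom_ext
    · show (j' ≫ PicF.XTmap f u₀) ≫ pullback.fst f T₀.hom =
        (PicF.XTmap f' u ≫ j) ≫ pullback.fst f T₀.hom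
      rw [Category.assoc, FGA.XTmap_fst, bcIso_hom_fst, Category.assoc, bcIso_hom_fst,
        ← Category.assoc, FGA.XTmap_fst]
    · show (j' ≫ PicF.XTmap f u₀) ≫ PicF.XTproj f T₀ = (PicF.XTmap f' u ≫ j) ≫ PicF.XTproj f T₀
      rw [Category.assoc, (isPullback_XTmap f u₀).w, ← Category.assoc, bcIso_hom_proj,
        Category.assoc, bcIso_hom_proj, (isPullback_XTmap f' u).w]
      rfl
  have hc1 : c ≫ pullback.fst f T₀.hom = pullback.fst f' T'.hom ≫ g := by
    show (PicF.XTmap f' u ≫ j) ≫ pullback.fst f T₀.hom = _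
    rw [Category.assoc, bcIso_hom_fst, ← Category.assoc, FGA.XTmap_fst]
  exact (subPull_modIso_left ε (bcIso_hom_fst H T) (FGA.XTmap_fst f' u) (c := c) rfl hc1 K).trans
    (subPull_modIso_right ε (FGA.XTmap_fst f u₀) (bcIso_hom_fst H T') hcc hc1 K).symm

theorem isFlatOver_bcIso_iff (T : Over S')
    (M : (PicF.XT f ((Over.map φ).obj T)).Modules) [M.IsQuasicoherent] :
    FlatMod.IsFlatOver (PicF.XTproj f' T) ((Scheme.Modules.pullback (bcIso H T).hom).obj M) ↔
      FlatMod.IsFlatOver (PicF.XTproj f ((Over.map φ).obj T)) M := by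
  let j := (bcIso H T).hom
  have sq : IsPullback j (PicF.XTproj f' T) (PicF.XTproj f ((Over.map φ).obj T)) (𝟙 T.left) :=
    IsPullback.of_horiz_isIso ⟨(bcIso_hom_proj H T).trans (Category.comp_id _).symm⟩
  constructor
  · intro h x
    obtain ⟨x', rfl⟩ : ∃ x', j x' = x :=
      ⟨(inv j) x, by rw [← Scheme.Hom.comp_apply, IsIso.inv_hom_id]; rfl⟩
    have h'' := h x'
    rw [← bcIso_hom_proj H T] at h''
    exact (Flatmor4.isFlatOverAt_pullback_iff j (PicF.XTproj f ((Over.map φ).obj T)) M x'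
      (RingHom.Flat.of_bijective (ConcreteCategory.bijective_of_isIso (j.stalkMap x')))).2 h''
  · intro h
    exact FlatMorOne.isFlatOver_baseChange sq M h

variable (T : Over S')

/-- Families over `T` seen over `S` and over `S'` agree. -/
theorem bcSub_mem_iff (K : Subobject (FGA.ET f E ((Over.map φ).obj T))) :
    (Coh.IsCoh (cokernel (bcSub H ε T K).arrow) ∧
        FlatMod.IsFlatOver (PicF.XTproj f' T) (cokernel (bcSub H ε T K).arrow)) ↔
      (Coh.IsCoh (cokernel K.arrow) ∧
        FlatMod.IsFlatOver (PicF.XTproj f ((Over.map φ).obj T)) (cokernel K.arrow)) := by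
  obtain ⟨θ⟩ := exists_bcSub_cokernel_iso H ε T K
  let j := (bcIso H T).hom
  constructor
  · rintro ⟨hc, hfl⟩
    have h1 := FlatStrata.isCoh_pullback (inv j) hc
    let η : (Scheme.Modules.pullback (inv j)).obj (cokernel (bcSub H ε T K).arrow) ≅
        cokernel K.arrow :=
      (Scheme.Modules.pullback (inv j)).mapIso θ.symm ≪≫
        canP (IsIso.inv_hom_id j) (cokernel K.arrow) ≪≫
        (Scheme.Modules.pullbackId _).app _
    have := h1.1
    have := hc.1
    have hK := QCohMod.isCoh_of_iso η h1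
    have := hK.1
    exact ⟨hK, (isFlatOver_bcIso_iff H T _).1
      fun x => (FlatMorOne.isFlatOverAt_congr _ θ x).2 (hfl x)⟩
  · rintro ⟨hc, hfl⟩
    have := hc.1
    have h1 := FlatStrata.isCoh_pullback j hc
    exact ⟨QCohMod.isCoh_of_iso θ h1,
      fun x => (FlatMorOne.isFlatOverAt_congr _ θ x).1 ((isFlatOver_bcIso_iff H T _).2 hfl x)⟩

end BaseChange

end Groth.Quot
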