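import Groth.Agent.Quot.PushBC
import Groth.Agent.Quot.TwistBC
import Groth.Agent.FlatStrata.ProjSpace
import Groth.Agent.FlatStrata.Hilbert
import Groth.Agent.Ega2Proj.SpanOn
import Groth.Agent.CohCmpLib.PullOn
import Groth.Agent.FlatStrata.Model
import Groth.Agent.KTheory.RegSheaf
import Groth.Prelude.Def_KRR

/-!
# The base change map for high twists on projective space
-/

set_option autoImplicit false

universe u

open CategoryTheory Limits AlgebraicGeometry TopologicalSpace Opposite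
open scoped TensorProduct
open Groth.CohBase hiding res res_res res_self
open Groth.QCohMod (res res_res res_self res_app sectionsAlg)
open Groth.PicAux (pullSec pullSec_map pullSec_comp res_pullSec)

namespace Groth.Quot

/-- The base change map on pulled back sections. -/
theorem bcMap_pullSec (n : ℕ) {S T : Scheme.{u}} (φ : T ⟶ S)
    (hsq : KRR.projSpaceMap n φ ≫ KRR.pr n S = KRR.pr n T ≫ φ) (F : (KRR.PY n S).Modules)
    (V : S.Opens) (s : Γ(F, KRR.pr n S ⁻¹ᵁ V))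
    (hle : KRR.pr n T ⁻¹ᵁ (φ ⁻¹ᵁ V) ≤ KRR.projSpaceMap n φ ⁻¹ᵁ (KRR.pr n S ⁻¹ᵁ V)) :
    (KRR.bcMap n φ hsq F).app (φ ⁻¹ᵁ V) (pullSec φ ((Scheme.Modules.pushforward (KRR.pr n S)).obj F)
        (s : Γ((Scheme.Modules.pushforward (KRR.pr n S)).obj F, V))) =
      (res ((Scheme.Modules.pullback (KRR.projSpaceMap n φ)).obj F) hle
          (pullSec (KRR.projSpaceMap n φ) F s) :
        Γ((Scheme.Modules.pullback (KRR.projSpaceMap n φ)).obj F,
          KRR.pr n T ⁻¹ᵁ (φ ⁻¹ᵁ V))) := by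
  let π := KRR.pr n S
  let π₁ := KRR.pr n T
  let ψ := KRR.projSpaceMap n φ
  let M := (Scheme.Modules.pushforward π).obj F
  let P := (Scheme.Modules.pullback ψ).obj F
  let cu := (Scheme.Modules.pullbackPushforwardAdjunction π).counit.app F
  let s' : Γ(M, V) := s
  unfold KRR.bcMap
  rw [Adjunction.homEquiv_unit]
  change ((Scheme.Modules.pullback ψ).map cu).app (π₁ ⁻¹ᵁ (φ ⁻¹ᵁ V))
    (((Scheme.Modules.pullbackComp ψ π).inv.app M).app (π₁ ⁻¹ᵁ (φ ⁻¹ᵁ V))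
      (((Scheme.Modules.pullbackCongr hsq.symm).hom.app M).app (π₁ ⁻¹ᵁ (φ ⁻¹ᵁ V))
        (((Scheme.Modules.pullbackComp π₁ φ).hom.app M).app (π₁ ⁻¹ᵁ (φ ⁻¹ᵁ V))
          (pullSec π₁ _ (pullSec φ M s'))))) = _
  have e1 := pullSec_comp π₁ φ M s'
  have e2 := CohCmpLib.pullbackCongr_pullSec hsq.symm M s'
  have e3 : ((Scheme.Modules.pullbackComp ψ π).inv.app M).app (ψ ⁻¹ᵁ (π ⁻¹ᵁ V))
      (pullSec (ψ ≫ π) M s') = pullSec ψ _ (pullSec π M s') := by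
    rw [← pullSec_comp ψ π M s']
    exact congr(($(Iso.hom_inv_id_app (Scheme.Modules.pullbackComp ψ π) M)).app _
      (pullSec ψ _ (pullSec π M s')))
  refine (congrArg (fun v : Γ((Scheme.Modules.pullback (π₁ ≫ φ)).obj M, π₁ ⁻¹ᵁ (φ ⁻¹ᵁ V)) =>
    ((Scheme.Modules.pullback ψ).map cu).app (π₁ ⁻¹ᵁ (φ ⁻¹ᵁ V))
      (((Scheme.Modules.pullbackComp ψ π).inv.app M).app (π₁ ⁻¹ᵁ (φ ⁻¹ᵁ V))
        (((Scheme.Modules.pullbackCongr hsq.symm).hom.app M).app (π₁ ⁻¹ᵁ (φ ⁻¹ᵁ V)) v))) e1).trans ?_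
  refine (congrArg (fun v : Γ((Scheme.Modules.pullback (ψ ≫ π)).obj M, π₁ ⁻¹ᵁ (φ ⁻¹ᵁ V)) =>
    ((Scheme.Modules.pullback ψ).map cu).app (π₁ ⁻¹ᵁ (φ ⁻¹ᵁ V))
      (((Scheme.Modules.pullbackComp ψ π).inv.app M).app (π₁ ⁻¹ᵁ (φ ⁻¹ᵁ V)) v)) e2).trans ?_
  have hle' : π₁ ⁻¹ᵁ (φ ⁻¹ᵁ V) ≤ (ψ ≫ π) ⁻¹ᵁ V := hle
  refine (congrArg (((Scheme.Modules.pullback ψ).map cu).app (π₁ ⁻¹ᵁ (φ ⁻¹ᵁ V)))
    ((res_app ((Scheme.Modules.pullbackComp ψ π).inv.app M) hle' _).symm.trans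
      (congrArg (res _ hle) e3))).trans ?_
  refine (res_app ((Scheme.Modules.pullback ψ).map cu) hle _).symm.trans ?_
  refine congrArg (res P hle) ?_
  refine (pullSec_map ψ cu (pullSec π M s')).trans ?_
  exact congrArg (pullSec ψ F) (Ega2Proj.counit_pullSec π F V s)


/-- Projective space is flat over its base. -/
theorem flat_toBase (n : ℕ) (S : Scheme.{u}) : Flat (CohB1.ProjSpaceOver.toBase n S) := by
  have : Smooth (CohB1.ProjSpace.toSpec n (ULift.{u} ℤ)) :=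
    Misc13.ProjFactor.smooth_projSpace_toSpec n
  exact MorphismProperty.of_isPullback (IsPullback.of_hasPullback _ _)
    (inferInstanceAs (Flat (CohB1.ProjSpace.toSpec n (ULift.{u} ℤ))))

/-- The base change map is an isomorphism for high twists. -/
theorem exists_bcMap_isIso (n : ℕ) {S T : Scheme.{u}} [IsNoetherian S] [IsNoetherian T] (φ : T ⟶ S)
    (hsq : KRR.projSpaceMap n φ ≫ KRR.pr n S = KRR.pr n T ≫ φ)
    (F : (KRR.PY n S).Modules) (hF : Coh.IsCoh F) :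
    ∃ r₀ : ℤ, ∀ r : ℤ, r₀ ≤ r → IsIso (KRR.bcMap n φ hsq (KRR.twF n S r F)) := by
  classical
  let π : CohB1.ProjSpaceOver n S ⟶ S := KRR.pr n S
  let π₁ : CohB1.ProjSpaceOver n T ⟶ T := KRR.pr n T
  let ψ : CohB1.ProjSpaceOver n T ⟶ CohB1.ProjSpaceOver n S := KRR.projSpaceMap n φ
  have H : IsPullback ψ π₁ π φ := FlatStrata.isPullback_projMap n φ
  have : IsProper π := Groth.Variety2.isProper_projSpaceOver_toBase n S
  have : IsProper π₁ := Groth.Variety2.isProper_projSpaceOver_toBase n T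
  have : Flat π := flat_toBase n S
  let L := Twist.twistOver n S 1
  have hLi : PicF.IsInvertible L := KTheory.RegSheaf.isInvertible_twistOver n S 1
  have := hF.1
  have : IsLocallyNoetherian (KRR.PY n S) := LocallyOfFiniteType.isLocallyNoetherian π
  have hsel : ∀ t : T, ∃ (V : S.Opens) (W : T.Opens), IsAffineOpen V ∧ IsAffineOpen W ∧
      t ∈ W ∧ W ≤ φ ⁻¹ᵁ V := fun t => by
    obtain ⟨V, hV, htV⟩ := QCohMod.exists_affine_mem (φ t)
    obtain ⟨W, hW, htW, e⟩ := exists_isAffineOpen_mem_and_subset (U := φ ⁻¹ᵁ V) (x := t) htV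
    exact ⟨V, W, hV, hW, htW, e⟩
  choose V W hV hW htW eW using hsel
  have key : ∀ t : T, ∃ N : ℕ, ∀ d : ℕ, N ≤ d → ∀ e' : π₁ ⁻¹ᵁ W t ≤ ψ ⁻¹ᵁ (π ⁻¹ᵁ V t),
      letI : Algebra Γ(S, V t) Γ(T, W t) := sectionsAlg φ (eW t)
      letI : ((π ⁻¹ᵁ V t : (CohB1.ProjSpaceOver n S).Opens) : Scheme.{u}).Over
        (Spec (CommRingCat.of Γ(S, V t))) := ⟨preimageToSpec π⟩
      letI : ((π₁ ⁻¹ᵁ W t : (CohB1.ProjSpaceOver n T).Opens) : Scheme.{u}).Over
        (Spec (CommRingCat.of Γ(T, W t))) := ⟨preimageToSpec π₁⟩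
      ∀ hb : IsBC (A := Γ(S, V t)) (A' := Γ(T, W t)) (ψ.resLE (π ⁻¹ᵁ V t) (π₁ ⁻¹ᵁ W t) e'),
        FlatStrata.BCBij hb ((KRR.twF n S (d : ℤ) F).restrict (π ⁻¹ᵁ V t).ι) := by
    intro t
    let U := π ⁻¹ᵁ V t
    let U' := π₁ ⁻¹ᵁ W t
    let : Algebra Γ(S, V t) Γ(T, W t) := sectionsAlg φ (eW t)
    let : (U : Scheme.{u}).Over (Spec (CommRingCat.of Γ(S, V t))) := ⟨preimageToSpec π⟩
    let : (U' : Scheme.{u}).Over (Spec (CommRingCat.of Γ(T, W t))) := ⟨preimageToSpec π₁⟩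
    have : IsNoetherianRing Γ(S, V t) := IsLocallyNoetherian.component_noetherian ⟨V t, hV t⟩
    have : IsNoetherianRing Γ(T, W t) := IsLocallyNoetherian.component_noetherian ⟨W t, hW t⟩
    have : IsProper ((U : Scheme.{u}) ↘ Spec (CommRingCat.of Γ(S, V t))) :=
      MorphismProperty.of_isPullback (isPullback_preimageToSpec π (hV t)) ‹IsProper π›
    have : Flat ((U : Scheme.{u}) ↘ Spec (CommRingCat.of Γ(S, V t))) :=
      MorphismProperty.of_isPullback (isPullback_preimageToSpec π (hV t)) ‹Flat π›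
    have e₀ : U' ≤ ψ ⁻¹ᵁ U :=
      (π₁.preimage_mono (eW t)).trans (CohCmp.sqLE π φ π₁ ψ H.w (V t))
    have hb₀ : IsBC (A := Γ(S, V t)) (A' := Γ(T, W t)) (ψ.resLE U U' e₀) :=
      CohCmpLib.isBC_resLE H (hV t) (hW t) (eW t) e₀
    have hL : CohB1.IsAmple (L.restrict U.ι) :=
      (FlatStrata.isRelAmple_twistOne n S).2 ⟨V t, hV t⟩
    obtain ⟨N, hN⟩ := evBij_of_flat hb₀ hL (G := F.restrict U.ι) (CohFin.isCoh_restrict hF U)
    refine ⟨N, fun d hd e' hb => ?_⟩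
    obtain ⟨eT⟩ := Agent.S2427.nonempty_tensorPow_twistOver n S d
    let e : KRR.twF n S (d : ℤ) F ≅ FlatStrata.tw F L d :=
      (PicAux.exists_braiding (Twist.twistOver n S (d : ℤ)) F).choose ≪≫
        PicGrp.tensorModIso (Iso.refl F) eT.symm
    exact (hN d hd).of_iso hb ((FlatStrata.nonempty_restrict_tw F L U d).some.symm ≪≫
      (Scheme.Modules.restrictFunctor U.ι).mapIso e.symm)
  choose N hN using key
  obtain ⟨s, hs⟩ := isCompact_univ.elim_finite_subcover (fun t : T => (W t : Set T))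
    (fun t => (W t).2) fun t _ => Set.mem_iUnion.2 ⟨t, htW t⟩
  refine ⟨(s.sup N : ℕ), fun r hr => ?_⟩
  obtain ⟨d, rfl⟩ : ∃ d : ℕ, r = d := ⟨r.toNat, by omega⟩
  have hT := PicAux.isQCoh_of_isInvertible (KTheory.RegSheaf.isInvertible_twistOver n S (d : ℤ))
  have : (KRR.twF n S (d : ℤ) F).IsQuasicoherent := QCohMod.isQCoh_tensorMod
  refine isIso_of_bcBij H (KRR.twF n S (d : ℤ) F) (KRR.bcMap n φ hsq _)
    (fun V s hle => bcMap_pullSec n φ hsq _ V s hle) fun x => ?_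
  obtain ⟨t, ht, hxt⟩ := Set.mem_iUnion₂.1 (hs (Set.mem_univ x))
  refine ⟨V t, W t, hV t, hW t, eW t,
    (π₁.preimage_mono (eW t)).trans (CohCmp.sqLE π φ π₁ ψ H.w (V t)), hxt, fun hb => ?_⟩
  exact hN t d ((Finset.le_sup ht).trans (by omega)) _ hb

end Groth.Quot
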