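import Groth.Agent.Quot.FibreGen
import Groth.Agent.FlatStrata.Hilbert
import Groth.Agent.FlatStrata.Twist
import Groth.Agent.FlatStrata.ProjSpace
import Groth.Agent.FlatTwist.Relative
import Groth.Agent.HilbStab.BC.Euler
import Groth.Agent.PnCoh.OverAffine
import Groth.Agent.KTheory.RegSheaf

/-!
# Flat families of regular sheaves on projective space
-/

set_option autoImplicit false

universe u

open CategoryTheory Limits AlgebraicGeometry TopologicalSpace Opposite
open Groth.CohBase hiding res res_res res_self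
open Groth.PicAux
open Groth.Variety2.Reg (DetByGlobal fT)
open Groth.QCohMod (res_app)

namespace Groth.Quot

/-- Generation by global sections descends along an isomorphism of schemes. -/
theorem detByGlobal_of_pullback_iso {X Z : Scheme.{u}} (q : X ≅ Z) (E : Z.Modules)
    (h : DetByGlobal ((Scheme.Modules.pullback q.hom).obj E)) : DetByGlobal E := by
  intro N φ ψ he
  have hr := (h.of_iso ((Scheme.Modules.restrictFunctorIsoPullback q.hom).app E).symm)
    ((Scheme.Modules.restrictFunctor q.hom).map φ) ((Scheme.Modules.restrictFunctor q.hom).map ψ)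
    fun t => ?_
  · ext U x
    have hU : q.hom ''ᵁ (q.hom ⁻¹ᵁ U) = U := by
      rw [Scheme.Hom.image_preimage_eq_opensRange_inf, Scheme.Hom.opensRange_of_isIso, top_inf_eq]
    have h1 := congr(($hr).app (q.hom ⁻¹ᵁ U) (res E hU.le x))
    change φ.app (q.hom ''ᵁ (q.hom ⁻¹ᵁ U)) (res E hU.le x) =
      ψ.app (q.hom ''ᵁ (q.hom ⁻¹ᵁ U)) (res E hU.le x) at h1
    have h2 : res N hU.le (φ.app U x) = res N hU.le (ψ.app U x) :=
      (res_app φ hU.le x).trans (h1.trans (res_app ψ hU.le x).symm)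
    have h3 := congrArg (res N hU.ge) h2
    rwa [res_res, res_res, res_self, res_self] at h3
  · have hT : q.hom ''ᵁ (⊤ : X.Opens) = ⊤ := by
      rw [Scheme.Hom.image_top_eq_opensRange, Scheme.Hom.opensRange_of_isIso]
    change φ.app (q.hom ''ᵁ ⊤) (t : Γ(E, q.hom ''ᵁ ⊤)) = ψ.app (q.hom ''ᵁ ⊤) (t : Γ(E, q.hom ''ᵁ ⊤))
    have ht : (t : Γ(E, q.hom ''ᵁ ⊤)) =
        res E (le_top : q.hom ''ᵁ ⊤ ≤ ⊤) (res E hT.ge (t : Γ(E, q.hom ''ᵁ ⊤))) := by
      rw [res_res, res_self]
    rw [ht]
    exact (res_app φ _ _).symm.trans ((congrArg _ (he _)).trans (res_app ψ _ _))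

variable (n : ℕ) {S : Scheme.{u}} (Q : (CohB1.ProjSpaceOver n S).Modules)

/-- A fibre of projective space is the projective space of the residue field, compatibly with the
twisting sheaves. -/
theorem exists_fibre_iso (y : S) :
    ∃ q : CohB1.ProjSpace n (S.residueField y) ≅ (CohB1.ProjSpaceOver.toBase n S).fiber y,
      q.hom ≫ (CohB1.ProjSpaceOver.toBase n S).fiberToSpecResidueField y =
        CohB1.ProjSpace.toSpec n (S.residueField y) ∧
      ∀ a : ℤ, Nonempty ((Scheme.Modules.pullback q.hom).obj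
        (CohIII.fiberMod (CohB1.ProjSpaceOver.toBase n S) (CohB1.tensorMod Q (Twist.twistOver n S a)) y) ≅
          fT ((Scheme.Modules.pullback q.hom).obj
            (CohIII.fiberMod (CohB1.ProjSpaceOver.toBase n S) Q y)) a) := by
  let π := CohB1.ProjSpaceOver.toBase n S
  let κ := S.residueField y
  let g := (PnCoh.overIso n κ).hom ≫ FGA.projMap n (S.fromSpecResidueField y)
  have hq₀ : IsPullback g (CohB1.ProjSpace.toSpec n κ) π (S.fromSpecResidueField y) := by
    refine (FlatStrata.isPullback_projMap n (S.fromSpecResidueField y)).of_iso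
      (PnCoh.overIso n κ).symm (Iso.refl _) (Iso.refl _) (Iso.refl _) ?_ ?_ ?_ ?_ <;>
        simp [π, g, Iso.eq_inv_comp] <;>
        exact PnCoh.overIso_hom_toBase n κ
  have sq : IsPullback (π.fiberι y) (π.fiberToSpecResidueField y) π (S.fromSpecResidueField y) :=
    IsPullback.of_hasPullback _ _
  let q := IsPullback.isoIsPullback _ _ hq₀ sq
  refine ⟨q, IsPullback.isoIsPullback_hom_snd _ _ hq₀ sq, fun a => ?_⟩
  let T := Twist.twistOver n S a
  obtain ⟨θ₁, -⟩ := exists_pullback_tensorMod (π.fiberι y) Q T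
  obtain ⟨θ₂, -⟩ := exists_pullback_tensorMod q.hom (CohIII.fiberMod π Q y)
    ((Scheme.Modules.pullback (π.fiberι y)).obj T)
  obtain ⟨τ₁⟩ := FlatStrata.nonempty_pullback_projMap_twist n (S.fromSpecResidueField y) a
  obtain ⟨τ₂⟩ := PnCoh.nonempty_pullback_overIso_twist n κ a
  exact ⟨(Scheme.Modules.pullback q.hom).mapIso θ₁ ≪≫ θ₂ ≪≫ PicGrp.tensorModIso (Iso.refl _)
    ((Scheme.Modules.pullbackComp q.hom (π.fiberι y)).app T ≪≫
      (Scheme.Modules.pullbackCongr (IsPullback.isoIsPullback_hom_fst _ _ hq₀ sq)).app T ≪≫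
      ((Scheme.Modules.pullbackComp _ _).app T).symm ≪≫
      (Scheme.Modules.pullback _).mapIso τ₁ ≪≫ τ₂)⟩

variable {Q}

/-- Twists beyond the regularity of a fibre are acyclic and globally generated on it. -/
theorem fibre_facts (hQ : Coh.IsCoh Q) (y : S) (m : ℤ)
    (hreg : ∀ i : ℕ, 1 ≤ i → i ≤ n → Subsingleton
      (CohIII.fiberH (CohB1.ProjSpaceOver.toBase n S) (CohB1.tensorMod Q (Twist.twistOver n S (m - i))) y i))
    (d : ℤ) :
    (∀ i : ℕ, 1 ≤ i → m - i ≤ d → Subsingleton
      (CohIII.fiberH (CohB1.ProjSpaceOver.toBase n S) (CohB1.tensorMod Q (Twist.twistOver n S d)) y i)) ∧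
    (m ≤ d → DetByGlobal
      (CohIII.fiberMod (CohB1.ProjSpaceOver.toBase n S) (CohB1.tensorMod Q (Twist.twistOver n S d)) y)) := by
  let π := CohB1.ProjSpaceOver.toBase n S
  let κ := S.residueField y
  let : (π.fiber y).Over (Spec (CommRingCat.of κ)) := ⟨π.fiberToSpecResidueField y⟩
  let PK := CohB1.ProjSpace n κ
  let : PK.Over (Spec (CommRingCat.of κ)) := ⟨CohB1.ProjSpace.toSpec n κ⟩
  obtain ⟨q, hq, he⟩ := exists_fibre_iso n Q y
  let F₀ := (Scheme.Modules.pullback q.hom).obj (CohIII.fiberMod π Q y)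
  have hF₀ : Coh.IsCoh F₀ := FlatStrata.isCoh_pullback _ (FlatStrata.isCoh_pullback _ hQ)
  have := hF₀.1
  have hbc : IsBC (A := κ) (A' := κ) q.hom := by
    change IsPullback q.hom _ _ (Spec.map (CommRingCat.ofHom (algebraMap κ κ)))
    rw [Algebra.algebraMap_self, CommRingCat.ofHom_id, Spec.map_id]
    exact IsPullback.of_horiz_isIso ⟨hq.trans (Category.comp_id _).symm⟩
  have : IsProper π := Groth.Variety2.isProper_projSpaceOver_toBase n S
  have : IsProper (π.fiber y ↘ Spec (CommRingCat.of κ)) :=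
    MorphismProperty.of_isPullback (IsPullback.of_hasPullback π (S.fromSpecResidueField y))
      ‹IsProper π›
  have := CohFin.compactSpace_of_proper (π.fiber y ↘ Spec (CommRingCat.of κ))
  have := CohFin.isSeparated_of_proper (π.fiber y ↘ Spec (CommRingCat.of κ))
  have htr : ∀ (a : ℤ) (i : ℕ),
      Subsingleton (CohIII.fiberH π (CohB1.tensorMod Q (Twist.twistOver n S a)) y i) ↔
        Subsingleton (Coh.HH PK (fT F₀ a) i) := fun a i => by
    have := hQ.1
    have := isQCoh_of_isInvertible (KTheory.RegSheaf.isInvertible_twistOver n S a)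
    have : (CohB1.tensorMod Q (Twist.twistOver n S a)).IsQuasicoherent :=
      QCohMod.isQCoh_tensorMod
    have : (CohIII.fiberMod π (CohB1.tensorMod Q (Twist.twistOver n S a)) y).IsQuasicoherent :=
      QCohMod.isQCoh_pullback_obj _ _
    rw [← HilbStab.BC.subsingleton_HH_baseChange_iff hbc _ i]
    obtain ⟨e⟩ := he a
    exact ⟨fun h => @Equiv.subsingleton _ _ (haIsoEquiv (PK ↘ Spec (CommRingCat.of κ)) e i).symm.toEquiv h,
      fun h => @Equiv.subsingleton _ _ (haIsoEquiv (PK ↘ Spec (CommRingCat.of κ)) e i).toEquiv h⟩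
  have hm : Curv2.IsMRegular κ n F₀ m := fun i hi hn => (htr _ i).1 (hreg i hi hn)
  refine ⟨fun i hi hd => (htr d i).2 (Variety2.Reg.vanish_of_mReg F₀ hm hi hd), fun hd => ?_⟩
  obtain ⟨e⟩ := he d
  exact detByGlobal_of_pullback_iso q _
    ((Variety2.Reg.detByGlobal_of_mReg F₀ hF₀ hm hd).of_iso e.symm)

end Groth.Quot

namespace Groth.Quot

variable (n : ℕ) {S : Scheme.{u}} [IsLocallyNoetherian S] {Q : (CohB1.ProjSpaceOver n S).Modules}

/-- High twists of a flat family of `m`-regular sheaves. -/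
theorem twist_facts (hQ : Coh.IsCoh Q) (hfl : FlatMod.IsFlatOver (CohB1.ProjSpaceOver.toBase n S) Q)
    (m : ℤ) (hreg : ∀ (y : S) (i : ℕ), 1 ≤ i → i ≤ n → Subsingleton
      (CohIII.fiberH (CohB1.ProjSpaceOver.toBase n S) (CohB1.tensorMod Q (Twist.twistOver n S (m - i))) y i))
    (d : ℤ) (hd : m ≤ d) :
    FlatMod.IsFinLocFree ((Coh.push (CohB1.ProjSpaceOver.toBase n S)).obj
        (CohB1.tensorMod Q (Twist.twistOver n S d))) ∧
      (∀ i : ℕ, 1 ≤ i → IsZero ((Coh.RpushAb (CohB1.ProjSpaceOver.toBase n S) i).obj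
        (Coh.toAb (CohB1.tensorMod Q (Twist.twistOver n S d))))) ∧
      Epi ((Scheme.Modules.pullbackPushforwardAdjunction (CohB1.ProjSpaceOver.toBase n S)).counit.app
        (CohB1.tensorMod Q (Twist.twistOver n S d))) := by
  let π := CohB1.ProjSpaceOver.toBase n S
  have : IsProper π := Groth.Variety2.isProper_projSpaceOver_toBase n S
  have hT := KTheory.RegSheaf.isInvertible_twistOver n S d
  have : IsLocallyNoetherian (CohB1.ProjSpaceOver n S) :=
    LocallyOfFiniteType.isLocallyNoetherian π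
  let M := CohB1.tensorMod Q (Twist.twistOver n S d)
  have hM : Coh.IsCoh M := RefRank.isCoh_tensorMod hQ (Inter.isCoh_of_isInvertible hT)
  have := hQ.1
  have hMfl : FlatMod.IsFlatOver π M := FlatTwist.isFlatOver_tensorMod hT hfl
  have hf := fun y => fibre_facts n hQ y m (hreg y) d
  have hv : ∀ (y : S) (i : ℕ), 1 ≤ i → Subsingleton (CohIII.fiberH π M y i) :=
    fun y i hi => (hf y).1 i hi (by omega)
  exact ⟨isFinLocFree_push_of_fibres π hv hM hMfl,
    fun i hi => isZero_RpushAb_of_fibres π hv hM hMfl i hi,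
    epi_counit_of_fibres π hv hM hMfl fun y => (hf y).2 hd⟩

end Groth.Quot
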