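import Groth.Agent.Quot.Relations
import Groth.Agent.PnCoh.SectionsExact

/-!
# Families of quotients are generated by their relations
-/

set_option autoImplicit false

universe u

open CategoryTheory Limits AlgebraicGeometry TopologicalSpace
open Groth.PicAux (isEquivalence_tensorRightMod_of_isInvertible isInvertible_pullback)
open Groth.ThetaAlg (smulEnd)

namespace Groth.Quot

variable {X S : Scheme.{u}} (f : X ⟶ S) {E L Lm : X.Modules} {N : ℕ} (v : Fin N → (Lm ⟶ E))
  (hL : PicF.IsInvertible L) (ε : (DCoh.tensorRightMod L).obj Lm ≅ Coh.structureModule X)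

/-- The twist of `E_T`. -/
noncomputable abbrev twE (E L : X.Modules) (T : Over S) : (PicF.XT f T).Modules :=
  (DCoh.tensorRightMod (FGA.ET f L T)).obj (FGA.ET f E T)

/-- The twisted sections of `E_T`. -/
noncomputable def eGen (T : Over S) (l : Fin N) :
    Γ((Scheme.Modules.pushforward (PicF.XTproj f T)).obj (twE f E L T), (⊤ : T.left.Opens)) :=
  twSec (epsT f ε T) ((Scheme.Modules.pullback (pullback.fst f T.hom)).map (v l))

/-- The twisted sections generate the twist of `E_T`. -/
def IsSpanning (T : Over S) : Prop :=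
  ∀ x : Γ((Scheme.Modules.pushforward (PicF.XTproj f T)).obj (twE f E L T), (⊤ : T.left.Opens)),
    ∃ a : Fin N → Γ(T.left, ⊤), ∑ l, a l • eGen f v ε T l = x

variable {T : Over S} (K : Subobject (FGA.ET f E T))

/-- The twisted projection on sections over the base. -/
noncomputable def projSec {F : (PicF.XT f T).Modules} (p : FGA.ET f E T ⟶ F) :
    Γ((Scheme.Modules.pushforward (PicF.XTproj f T)).obj (twE f E L T), (⊤ : T.left.Opens)) ⟶
      Γ((Scheme.Modules.pushforward (PicF.XTproj f T)).obj
        ((DCoh.tensorRightMod (FGA.ET f L T)).obj F), (⊤ : T.left.Opens)) :=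
  ((Scheme.Modules.pushforward (PicF.XTproj f T)).map
    ((DCoh.tensorRightMod (FGA.ET f L T)).map p)).app ⊤

theorem projSec_sum {F : (PicF.XT f T).Modules} (p : FGA.ET f E T ⟶ F)
    (a : Fin N → Γ(T.left, ⊤)) :
    projSec f p (∑ l, a l • eGen f v ε T l) =
      ∑ l, a l • (show Γ((Scheme.Modules.pushforward (PicF.XTproj f T)).obj
        ((DCoh.tensorRightMod (FGA.ET f L T)).obj F), (⊤ : T.left.Opens)) from
          twSec (epsT f ε T) ((Scheme.Modules.pullback (pullback.fst f T.hom)).map (v l) ≫ p)) := by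
  rw [map_sum]
  refine Finset.sum_congr rfl fun l _ => ?_
  refine (Scheme.Modules.Hom.app_smul _ _ _).trans ?_
  rw [twSec_comp]
  rfl

theorem projSec_π (a : Fin N → Γ(T.left, ⊤)) :
    projSec f (cokernel.π K.arrow) (∑ l, a l • eGen f v ε T l) = relMap f v ε K a := by
  rw [projSec_sum, relMap, Fintype.linearCombination_apply]
  rfl

include hL in
/-- The twisted sections generate a twisted quotient with `H¹`-acyclic twisted kernel. -/
theorem relMap_surjective [IsAffine T.left] (hgen : IsSpanning f (L := L) v ε T)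
    (h1 : Subsingleton (Coh.HH (PicF.XT f T)
      ((DCoh.tensorRightMod (FGA.ET f L T)).obj (K : (PicF.XT f T).Modules)) 1)) :
    Function.Surjective (relMap f v ε K) := by
  let TT := DCoh.tensorRightMod (FGA.ET f L T)
  have := isEquivalence_tensorRightMod_of_isInvertible
    (isInvertible_pullback (pullback.fst f T.hom) hL)
  have : TT.Additive := DCoh.additive_tensorRightMod _
  let D : ShortComplex (PicF.XT f T).Modules :=
    ShortComplex.mk K.arrow (cokernel.π K.arrow) (cokernel.condition _)
  have hD : D.ShortExact :=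
    { exact := ShortComplex.exact_of_g_is_cokernel _ (cokernelIsCokernel K.arrow) }
  have hDT := hD.map_of_exact TT
  let q := TT.map (cokernel.π K.arrow)
  have : Epi q := inferInstance
  let e : TT.obj (K : (PicF.XT f T).Modules) ≅ kernel q :=
    IsLimit.conePointUniqueUpToIso hDT.fIsKernel (limit.isLimit (parallelPair q 0))
  have hH : Subsingleton (Coh.HH (PicF.XT f T) (kernel q) 1) :=
    PnCoh.subsingleton_HH_of_iso (PicF.XTproj f T ≫ T.left.isoSpec.hom) e h1
  intro y
  obtain ⟨x, hx⟩ := (PnCoh.exact_app_top_of_subsingleton (PicF.XTproj f T ≫ T.left.isoSpec.hom)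
    (ShortComplex.mk q (0 : TT.obj (cokernel K.arrow) ⟶ TT.obj (cokernel K.arrow)) comp_zero)
    ((ShortComplex.exact_iff_epi _ rfl).2 ‹Epi q›) hH y).1 rfl
  obtain ⟨a, ha⟩ := hgen x
  refine ⟨a, ?_⟩
  rw [← projSec_π, ha]
  exact hx

include hL in
/-- A submodule with globally generated twist is generated by its relations. -/
theorem spanSub_eq (hgen : IsSpanning f (L := L) v ε T)
    (h0 : Groth.Variety2.Reg.DetByGlobal
      ((DCoh.tensorRightMod (FGA.ET f L T)).obj (K : (PicF.XT f T).Modules)))
    {q : ℕ} (r : Fin q → Fin N → Γ(T.left, ⊤))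
    (hr : Submodule.span Γ(T.left, ⊤) (Set.range r) = Rel f v ε K) :
    spanSub f v T r = K := by
  refine le_antisymm ((spanSub_le_iff f v r K).2 fun j =>
    (mem_rel_iff f v hL ε K (r j)).1 (hr.le (Submodule.subset_span ⟨j, rfl⟩))) ?_
  rw [le_iff_arrow_comp_eq_zero]
  let TT := DCoh.tensorRightMod (FGA.ET f L T)
  have := isEquivalence_tensorRightMod_of_isInvertible
    (isInvertible_pullback (pullback.fst f T.hom) hL)
  have : TT.Additive := DCoh.additive_tensorRightMod _
  let p := cokernel.π (spanSub f v T r).arrow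
  rw [← TT.map_eq_zero_iff]
  refine h0 _ _ fun t => ?_
  obtain ⟨a, ha⟩ := hgen ((TT.map K.arrow).app ⊤ t)
  have hK : relMap f v ε K a = 0 := by
    rw [← projSec_π, ha]
    have h : (TT.map K.arrow ≫ TT.map (cokernel.π K.arrow)).app ⊤ t = 0 := by
      rw [← TT.map_comp, cokernel.condition, TT.map_zero]
      rfl
    exact h
  have hrel : a ∈ Rel f v ε (spanSub f v T r) := by
    have hle : Submodule.span Γ(T.left, ⊤) (Set.range r) ≤ Rel f v ε (spanSub f v T r) :=
      Submodule.span_le.2 fun _ ⟨j, hj⟩ =>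
        hj ▸ (mem_rel_iff f v hL ε _ _).2 ((spanSub_le_iff f v r _).1 le_rfl j)
    exact hle (hr.ge hK)
  have h : projSec f p (∑ l, a l • eGen f v ε T l) = 0 := (projSec_π f v ε _ a).trans hrel
  rw [ha] at h
  rw [TT.map_comp]
  exact h.trans rfl

end Groth.Quot
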