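import Groth.Agent.FlatStrata.Vanish
import Groth.Agent.CohBase.FibreConsequences
import Groth.Agent.CohBase.RelAmpleVanish
import Groth.Agent.SiteCohomology.SchemeModules
import Groth.Agent.Variety2.Reg.Gen
import Groth.Agent.FBaseGeom.FibreNonzero
import Groth.Agent.Ega2Proj.SpanOn
import Groth.Agent.QCohMod.Coherent

/-!
# Flat coherent modules with acyclic, globally generated fibres
-/

set_option autoImplicit false

universe u

open CategoryTheory Limits AlgebraicGeometry TopologicalSpace Opposite
open Groth.CohBase hiding res res_res res_self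
open Groth.PicAux
open Groth.QCohMod (res_app)
open Groth.Variety2.Reg (DetByGlobal)

namespace Groth.Quot

variable {X Y : Scheme.{u}} (f : X ⟶ Y) [IsProper f] [IsLocallyNoetherian Y] {M : X.Modules}

/-- Higher cohomology over the preimage of an affine open vanishes if it vanishes on the fibres. -/
theorem subsingleton_HH_preimage (hM : Coh.IsCoh M) (hfl : FlatMod.IsFlatOver f M) {V : Y.Opens}
    (hV : IsAffineOpen V) (p : ℕ) (h : ∀ y ∈ V, Subsingleton (CohIII.fiberH f M y p)) :
    Subsingleton (Coh.HH (f ⁻¹ᵁ V : X.Opens) (M.restrict (f ⁻¹ᵁ V).ι) p) := by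
  have := hM.1
  obtain ⟨L, hL⟩ := exists_isModel f M hV hM hfl
  have := hL.subsingleton_Hk hV p h
  obtain ⟨e⟩ := hL.sections p
  obtain ⟨e'⟩ := exists_Rpush_linEquiv f (M := M) p hV
  exact (e'.symm.trans e).toEquiv.subsingleton

variable (hv : ∀ (y : Y) (i : ℕ), 1 ≤ i → Subsingleton (CohIII.fiberH f M y i))
include hv

/-- Acyclic fibres give vanishing higher direct images. -/
theorem isZero_Rpush_of_fibres (hM : Coh.IsCoh M) (hfl : FlatMod.IsFlatOver f M) (p : ℕ)
    (hp : 1 ≤ p) : IsZero ((Coh.Rpush f p).obj M) := by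
  have := hM.1
  have := isQCoh_Rpush f (M := M) p
  choose W hW hxW _ using fun x : Y =>
    exists_isAffineOpen_mem_and_subset (x := x) (U := (⊤ : Y.Opens)) trivial
  refine isZero_of_sections_cover _ W hW (eq_top_iff.2 fun x _ => Opens.mem_iSup.2 ⟨x, hxW x⟩)
    fun x => ?_
  obtain ⟨e⟩ := exists_Rpush_linEquiv f (M := M) p (hW x)
  have := subsingleton_HH_preimage f hM hfl (hW x) p fun y _ => hv y p hp
  exact e.toEquiv.subsingleton

/-- The same for the underlying abelian sheaves. -/
theorem isZero_RpushAb_of_fibres (hM : Coh.IsCoh M) (hfl : FlatMod.IsFlatOver f M) (p : ℕ)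
    (hp : 1 ≤ p) : IsZero ((Coh.RpushAb f p).obj (Coh.toAb M)) := by
  obtain ⟨e⟩ := nonempty_toAb_Rpush_iso f p (M := M)
  exact IsZero.of_iso ((toAbF Y).map_isZero (isZero_Rpush_of_fibres f hv hM hfl p hp)) e.symm

/-- Acyclic fibres give a finite locally free direct image. -/
theorem isFinLocFree_push_of_fibres (hM : Coh.IsCoh M) (hfl : FlatMod.IsFlatOver f M) :
    FlatMod.IsFinLocFree ((Coh.push f).obj M) := by
  intro y
  obtain ⟨V, hV, hyV, -⟩ :=
    exists_isAffineOpen_mem_and_subset (x := y) (U := (⊤ : Y.Opens)) trivial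
  obtain ⟨L, hL⟩ := exists_isModel f M hV hM hfl
  have := hL.flat
  have hH : ∀ j : ℤ, 1 ≤ j → Subsingleton (CxRank.Hk L j) := by
    intro j hj
    obtain ⟨q, rfl⟩ : ∃ q : ℕ, j = q := ⟨j.toNat, by omega⟩
    exact hL.subsingleton_Hk hV q fun z _ => hv z q (by omega)
  obtain ⟨b, hb⟩ := hL.bdd
  have hQ := CxRank.flat_Qc_of_flat_Hk L b hb 1 fun j hj =>
    have := hH j hj
    inferInstance
  obtain ⟨O, hyO, ⟨e⟩⟩ := (hL.exists_iso_free hV hM 0 hL.flat_Qc_zero (hQ 1 le_rfl)).2 y hyV
  exact ⟨O, _, hyO, ⟨(Scheme.Modules.restrictFunctor O.ι).mapIso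
    ((Coh.push f).rightDerivedZeroIsoSelf.app M).symm ≪≫ e⟩⟩

/-- The sections over the preimage of an affine open span those of the fibres. -/
theorem bcLin_fibre_surjective (hM : Coh.IsCoh M) (hfl : FlatMod.IsFlatOver f M) {V : Y.Opens}
    (hV : IsAffineOpen V) (y : Y) (hy : y ∈ V) :
    letI : ((f ⁻¹ᵁ V : X.Opens) : Scheme.{u}).Over (Spec (CommRingCat.of Γ(Y, V))) :=
      ⟨preimageToSpec f⟩
    letI : (f.fiber y).Over (Spec (CommRingCat.of (Y.residueField y))) :=
      ⟨f.fiberToSpecResidueField y⟩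
    letI := (Y.evaluation V y hy).hom.toAlgebra
    ∀ hsq : IsBC (A := Γ(Y, V)) (A' := Y.residueField y) (fibreToPreimage f y hy),
      Function.Surjective (FlatStrata.bcLin hsq (M.restrict (f ⁻¹ᵁ V).ι) ⊤) := by
  let : ((f ⁻¹ᵁ V : X.Opens) : Scheme.{u}).Over (Spec (CommRingCat.of Γ(Y, V))) :=
    ⟨preimageToSpec f⟩
  let : (f.fiber y).Over (Spec (CommRingCat.of (Y.residueField y))) :=
    ⟨f.fiberToSpecResidueField y⟩
  let := (Y.evaluation V y hy).hom.toAlgebra
  have := hM.1
  have : IsLocallyNoetherian X := LocallyOfFiniteType.isLocallyNoetherian f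
  have : IsProper (((f ⁻¹ᵁ V : X.Opens) : Scheme.{u}) ↘ Spec (CommRingCat.of Γ(Y, V))) :=
    MorphismProperty.of_isPullback (isPullback_preimageToSpec f hV) ‹IsProper f›
  have := CohFin.compactSpace_of_proper
    (((f ⁻¹ᵁ V : X.Opens) : Scheme.{u}) ↘ Spec (CommRingCat.of Γ(Y, V)))
  have := CohFin.isSeparated_of_proper
    (((f ⁻¹ᵁ V : X.Opens) : Scheme.{u}) ↘ Spec (CommRingCat.of Γ(Y, V)))
  have : (M.restrict (f ⁻¹ᵁ V).ι).IsQuasicoherent := (CohFin.isCoh_restrict hM _).1
  intro hsq
  exact (FlatStrata.bcBij_of_vanish hsq _ (isFlatOver_restrict_preimage f hV M hfl) fun p hp =>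
    subsingleton_HH_preimage f hM hfl hV p fun z _ => hv z p hp).2

/-- Acyclic globally generated fibres make the counit an epimorphism. -/
theorem epi_counit_of_fibres (hM : Coh.IsCoh M) (hfl : FlatMod.IsFlatOver f M)
    (hg : ∀ y : Y, DetByGlobal (CohIII.fiberMod f M y)) :
    Epi ((Scheme.Modules.pullbackPushforwardAdjunction f).counit.app M) := by
  have := hM.1
  let cu : (Scheme.Modules.pullback f).obj ((Scheme.Modules.pushforward f).obj M) ⟶ M :=
    (Scheme.Modules.pullbackPushforwardAdjunction f).counit.app M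
  have : ((Scheme.Modules.pushforward f).obj M).IsQuasicoherent := QCohMod.isQCoh_pushforward M f
  have : ((Scheme.Modules.pullback f).obj
      ((Scheme.Modules.pushforward f).obj M)).IsQuasicoherent := QCohMod.isQCoh_pullback_obj _ _
  let C := cokernel cu
  let π := cokernel.π cu
  have hC : Coh.IsCoh C := QCohMod.isCoh_cokernel cu hM
  have := hC.1
  -- the fibres of the cokernel vanish
  have hfib : ∀ y : Y, IsZero (CohIII.fiberMod f C y) := by
    intro y
    obtain ⟨V, hV, hy, -⟩ :=
      exists_isAffineOpen_mem_and_subset (x := y) (U := (⊤ : Y.Opens)) trivial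
    let U := f ⁻¹ᵁ V
    let : (U : Scheme.{u}).Over (Spec (CommRingCat.of Γ(Y, V))) := ⟨preimageToSpec f⟩
    let : (f.fiber y).Over (Spec (CommRingCat.of (Y.residueField y))) :=
      ⟨f.fiberToSpecResidueField y⟩
    let := (Y.evaluation V y hy).hom.toAlgebra
    let j := fibreToPreimage f y hy
    let πU : M.restrict U.ι ⟶ C.restrict U.ι := (Scheme.Modules.restrictFunctor U.ι).map π
    have hker : ∀ s : Γ(M.restrict U.ι, (⊤ : (U : Scheme.{u}).Opens)), πU.app ⊤ s = 0 := by
      intro s
      have hs : ∀ t : Γ(M, U), π.app U t = 0 := fun t => by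
        rw [← Ega2Proj.counit_pullSec f M V t]
        exact congr(($(cokernel.condition cu)).app (f ⁻¹ᵁ V) _)
      change π.app (U.ι ''ᵁ ⊤) (s : Γ(M, U.ι ''ᵁ ⊤)) = 0
      have hres : (s : Γ(M, U.ι ''ᵁ ⊤)) =
          res M U.ι_image_top.le (res M U.ι_image_top.ge (s : Γ(M, U.ι ''ᵁ ⊤))) := by
        rw [res_res, res_self]
      refine (congrArg _ hres).trans ?_
      refine (res_app π U.ι_image_top.le _).symm.trans ?_
      exact (congrArg _ (hs _)).trans (map_zero _)
    have hzero : (Scheme.Modules.pullback j).map πU = 0 := by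
      refine (hg y).of_iso (fibreModIso f M y hy).symm _ _ fun t => ?_
      obtain ⟨z, hz⟩ := bcLin_fibre_surjective f hv hM hfl hV y hy (isPullback_fibreToPreimage f hV y hy) t
      rw [Scheme.Modules.Hom.zero_app]
      change _ = (0 : Γ((Scheme.Modules.pullback j).obj (C.restrict U.ι), ⊤))
      subst hz
      induction z using TensorProduct.induction_on with
      | zero => rw [map_zero]; exact map_zero _
      | tmul b s =>
        rw [FlatStrata.bcLin_tmul]
        refine (((Scheme.Modules.pullback j).map πU).app_smul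
          (toSec (Y.residueField y) (⊤ : (f.fiber y).Opens) b) _).trans ?_
        have hz : ((Scheme.Modules.pullback j).map πU).app ⊤
            (show Γ((Scheme.Modules.pullback j).obj (M.restrict U.ι), j ⁻¹ᵁ ⊤) from
              pullSec j (M.restrict U.ι) (show Γ(M.restrict U.ι, ⊤) from s)) =
            (0 : Γ((Scheme.Modules.pullback j).obj (C.restrict U.ι), (⊤ : (f.fiber y).Opens))) := by
          refine (pullSec_map j πU _).trans ((congrArg _ (hker s)).trans ?_)
          exact (map_zero (((Scheme.Modules.pullbackPushforwardAdjunction j).unit.app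
            (C.restrict U.ι)).app ⊤).hom)
        exact (congrArg (fun v : Γ((Scheme.Modules.pullback j).obj (C.restrict U.ι),
          (⊤ : (f.fiber y).Opens)) => toSec (Y.residueField y) (⊤ : (f.fiber y).Opens) b • v)
            hz).trans (smul_zero _)
      | add p q hp hq => rw [map_add]; exact (map_add _ _ _).trans (by rw [hp, hq, add_zero])
    have : Epi πU := (Scheme.Modules.restrictFunctor U.ι).map_epi π
    refine IsZero.of_iso ?_ (fibreModIso f C y hy).symm
    exact IsZero.of_epi_eq_zero _ hzero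
  have hC0 : IsZero C := by
    refine (QCohMod.isZero_iff_stalk C).2 fun z => ?_
    suffices Subsingleton (C.presheaf.stalk z) from @AddCommGrpCat.isZero_of_subsingleton _ this
    by_contra hne
    have : Nontrivial (C.presheaf.stalk z) := not_subsingleton_iff_nontrivial.1 hne
    obtain ⟨w, hw⟩ : z ∈ Set.range (f.fiberι (f z)) := by rw [f.range_fiberι]; rfl
    have hred : FBaseGeom.RedNonzero f C z := by
      rw [FBaseGeom.redNonzero_iff, Submodule.Quotient.nontrivial_iff]
      have := QCohMod.finite_stalk C hC.2 z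
      intro h
      refine top_ne_bot (α := Submodule (X.presheaf.stalk z) (C.presheaf.stalk z))
        (Submodule.eq_bot_of_le_smul_of_le_jacobson_bot _ _ Module.Finite.fg_top h.ge ?_)
      rw [IsLocalRing.jacobson_eq_maximalIdeal ⊥ bot_ne_top]
      exact IsLocalRing.map_maximalIdeal_le (f.stalkMap z).hom
    rw [← hw, ← FBaseGeom.nontrivial_fibre_iff] at hred
    have h0 := (QCohMod.isZero_iff_stalk _).1 (hfib (f z)) w
    exact @not_subsingleton _ hred (AddCommGrpCat.subsingleton_of_isZero h0)
  exact Preadditive.epi_of_cokernel_zero (hC0.eq_zero_of_tgt π)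

end Groth.Quot
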