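import Groth.Agent.Quot.SquareBC
import Groth.Agent.Quot.FibreGen
import Groth.Agent.GrassRep.Locus
import Groth.Agent.LocFree.Basic
import Groth.Agent.KTheory.LocFree

/-!
# The vanishing locus of sections of a flat family with locally free direct image
-/

set_option autoImplicit false

universe u

open CategoryTheory Limits AlgebraicGeometry TopologicalSpace Opposite
open Groth.QCohMod (res res_res res_self res_app sectionsAlg)
open Groth.PicAux (pullSec pullSec_map pullSec_comp res_pullSec)
open Groth.CohBase hiding res res_res res_self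

namespace Groth.Quot

/-- The direct image of `M` is finite locally free and its formation commutes with every base
change. -/
structure IsPushGood {X S : Scheme.{u}} (f : X ⟶ S) (M : X.Modules) : Prop where
  finLocFree : FlatMod.IsFinLocFree ((Scheme.Modules.pushforward f).obj M)
  bc : ∀ {X' T : Scheme.{u}} {g : X' ⟶ X} {f' : X' ⟶ T} {φ : T ⟶ S} (H : IsPullback g f' f φ),
    IsIso (bcSq H.w M)

/-- Flat coherent modules with acyclic fibres over a Noetherian base are good. -/
theorem isPushGood_of_fibres {X S : Scheme.{u}} (f : X ⟶ S) [IsProper f] [IsLocallyNoetherian S]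
    {M : X.Modules} (hM : Coh.IsCoh M) (hfl : FlatMod.IsFlatOver f M)
    (hv : ∀ (y : S) (i : ℕ), 1 ≤ i → Subsingleton (CohIII.fiberH f M y i)) : IsPushGood f M := by
  refine ⟨isFinLocFree_push_of_fibres f hv hM hfl, fun {X' T g f' φ} H => ?_⟩
  have := hM.1
  have : IsLocallyNoetherian X := LocallyOfFiniteType.isLocallyNoetherian f
  have : IsProper f' := MorphismProperty.of_isPullback H ‹IsProper f›
  refine isIso_of_bcBij H M _ (bcSq_pullSec H.w M) fun t => ?_
  obtain ⟨V, hV, htV⟩ := QCohMod.exists_affine_mem (φ t)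
  obtain ⟨W, hW, htW, e⟩ := exists_isAffineOpen_mem_and_subset (U := φ ⁻¹ᵁ V) (x := t) htV
  refine ⟨V, W, hV, hW, e, (f'.preimage_mono e).trans (preimage_sq_le H.w V), htW, ?_⟩
  let := sectionsAlg φ e
  let : ((f' ⁻¹ᵁ W : X'.Opens) : Scheme.{u}).Over (Spec (CommRingCat.of Γ(T, W))) :=
    ⟨preimageToSpec f'⟩
  intro hsq
  let : ((f ⁻¹ᵁ V : X.Opens) : Scheme.{u}).Over (Spec (CommRingCat.of Γ(S, V))) :=
    ⟨preimageToSpec f⟩
  have : IsProper (((f ⁻¹ᵁ V : X.Opens) : Scheme.{u}) ↘ Spec (CommRingCat.of Γ(S, V))) :=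
    MorphismProperty.of_isPullback (isPullback_preimageToSpec f hV) ‹IsProper f›
  have := CohFin.compactSpace_of_proper
    (((f ⁻¹ᵁ V : X.Opens) : Scheme.{u}) ↘ Spec (CommRingCat.of Γ(S, V)))
  have := CohFin.isSeparated_of_proper
    (((f ⁻¹ᵁ V : X.Opens) : Scheme.{u}) ↘ Spec (CommRingCat.of Γ(S, V)))
  have : (M.restrict (f ⁻¹ᵁ V).ι).IsQuasicoherent := (CohFin.isCoh_restrict hM _).1
  exact FlatStrata.bcBij_of_vanish hsq _ (isFlatOver_restrict_preimage f hV M hfl) fun p hp =>
    subsingleton_HH_preimage f hM hfl hV p fun z _ => hv z p hp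

/-- The pullback of a morphism out of a free module vanishes iff the pullbacks of the images of the
basis do. -/
theorem pullback_map_desc_eq_zero_iff {T T' : Scheme.{u}} (h : T' ⟶ T) {Q : T.Modules} {N : ℕ}
    (t : Fin N → Γ(Q, (⊤ : T.Opens))) :
    (Scheme.Modules.pullback h).map
        (Sigma.desc (fun j => PicAux.homOfSection (t j)) : FlatMod.freeMod T N ⟶ Q) = 0 ↔
      ∀ j, pullSec h Q (t j) = 0 := by
  let ψ : FlatMod.freeMod T N ⟶ Q := Sigma.desc fun j => PicAux.homOfSection (t j)
  let adj := Scheme.Modules.pullbackPushforwardAdjunction h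
  have h1 : adj.homEquiv _ _ ((Scheme.Modules.pullback h).map ψ) = ψ ≫ adj.unit.app Q := by
    rw [Adjunction.homEquiv_unit]
    exact (adj.unit.naturality ψ).symm
  rw [← (adj.homEquiv _ _).injective.eq_iff, h1, show adj.homEquiv _ _ (0 : _ ⟶ _) = 0 by
    rw [Adjunction.homEquiv_unit, Functor.map_zero, comp_zero]]
  constructor
  · intro h0 j
    have h2 := congr(($(congrArg (Sigma.ι (fun _ : Fin N => Coh.structureModule T) j ≫ ·) h0)).app ⊤
      (PicAux.oneSec T ⊤))
    simp only [ψ, Sigma.ι_desc_assoc, comp_zero] at h2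
    rw [Scheme.Modules.Hom.comp_app, ConcreteCategory.comp_apply, PicAux.homOfSection_one] at h2
    exact h2
  · intro h0
    refine Sigma.hom_ext _ _ fun j => ?_
    rw [comp_zero]
    simp only [ψ, Sigma.ι_desc_assoc]
    apply Scheme.Modules.hom_ext
    intro U
    ext r
    refine (PicAux.hom_structure_apply (PicAux.homOfSection (t j) ≫ adj.unit.app Q) U r).trans ?_
    refine smul_eq_zero_of_right _ ?_
    rw [Scheme.Modules.Hom.comp_app, ConcreteCategory.comp_apply, PicAux.homOfSection_one]
    exact (congrArg _ (h0 j)).trans (map_zero _)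

/-- The vanishing locus of finitely many sections of a good family is a closed subscheme. -/
theorem exists_sections_vanishing_locus {X S : Scheme.{u}} {f : X ⟶ S} {M : X.Modules}
    (hM : IsPushGood f M) {X' T : Scheme.{u}} {g : X' ⟶ X} {f' : X' ⟶ T} {φ : T ⟶ S}
    (H : IsPullback g f' f φ) {N : ℕ}
    (s : Fin N → Γ((Scheme.Modules.pullback g).obj M, (⊤ : X'.Opens))) :
    ∃ (Z : Scheme.{u}) (c : Z ⟶ T), IsClosedImmersion c ∧
      ∀ {T' X'' : Scheme.{u}} (h : T' ⟶ T) {k : X'' ⟶ X'} {f'' : X'' ⟶ T'}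
        (_ : IsPullback k f'' f' h),
        (∀ j, pullSec k _ (s j) = 0) ↔ ∃ z, z ≫ c = h := by
  let P := (Scheme.Modules.pushforward f).obj M
  let Q := (Scheme.Modules.pullback φ).obj P
  have := hM.bc H
  have hQ : FlatMod.IsFinLocFree Q := LocFree.isFinLocFree_pullback φ hM.finLocFree
  have hb : Function.Bijective ((bcSq H.w M).app (⊤ : T.Opens)) :=
    ConcreteCategory.bijective_of_isIso _
  choose t ht using fun j => hb.2
    (show Γ((Scheme.Modules.pushforward f').obj ((Scheme.Modules.pullback g).obj M), (⊤ : T.Opens))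
      from s j)
  have : (FlatMod.freeMod T N).IsQuasicoherent :=
    KTheory.LocFree.isQCoh (LocFree.isFinLocFree_freeMod T N)
  obtain ⟨Z, c, hc, hZ⟩ := GrassRep.exists_vanishing_locus hQ
    (Sigma.desc (fun j => PicAux.homOfSection (t j)) : FlatMod.freeMod T N ⟶ Q)
  refine ⟨Z, c, hc, fun {T' X''} h {k f''} H' => ?_⟩
  rw [← hZ T' h, pullback_map_desc_eq_zero_iff]
  have H'' : IsPullback (k ≫ g) f'' f (h ≫ φ) := H'.paste_horiz H
  have := hM.bc H''
  have hb' : Function.Bijective ((bcSq H''.w M).app (⊤ : T'.Opens)) :=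
    ConcreteCategory.bijective_of_isIso _
  let α := (Scheme.Modules.pullbackComp h φ).hom.app P
  let β := (Scheme.Modules.pullbackComp k g).hom.app M
  have hα : Function.Injective (α.app (⊤ : T'.Opens)) :=
    (ConcreteCategory.bijective_of_isIso (α.app (⊤ : T'.Opens))).1
  have hβ : Function.Injective (β.app (⊤ : X''.Opens)) :=
    (ConcreteCategory.bijective_of_isIso (β.app (⊤ : X''.Opens))).1
  have key : ∀ j, (bcSq H''.w M).app (⊤ : T'.Opens) (α.app ⊤ (pullSec h Q (t j))) =
      (show Γ((Scheme.Modules.pushforward f'').obj ((Scheme.Modules.pullback (k ≫ g)).obj M),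
        (⊤ : T'.Opens)) from β.app ⊤ (pullSec k _ (s j))) := fun j => by
    refine (bcSq_comp_app H.w H'.w H''.w M ⊤ (t j) le_rfl).trans ?_
    refine (res_self _ _).trans ?_
    exact congrArg (fun z : Γ((Scheme.Modules.pullback g).obj M, (⊤ : X'.Opens)) =>
      β.app ⊤ (pullSec k _ z)) (ht j)
  refine forall_congr' fun j => ⟨fun h0 => ?_, fun h0 => ?_⟩
  · refine (injective_iff_map_eq_zero _).1 hα _ ((injective_iff_map_eq_zero _).1 hb'.1 _ ?_)
    exact (key j).trans ((congrArg _ h0).trans (map_zero _))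
  · refine (injective_iff_map_eq_zero _).1 hβ _ ?_
    exact (key j).symm.trans ((congrArg _ ((congrArg _ h0).trans (map_zero _))).trans (map_zero _))

end Groth.Quot
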