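import Groth.Agent.Quot.Span
import Groth.Agent.Quot.SecVanish
import Groth.Agent.OmegaSheaf.AffineHom
import Groth.Agent.LocFree.Affine
import Groth.Agent.LocFree.ExtPullback
import Groth.Agent.Ega2Proj.SpanOn

/-!
# The relations among twisted sections in a family of quotients
-/

set_option autoImplicit false
set_option linter.style.haveILetI false

universe u

open CategoryTheory Limits AlgebraicGeometry TopologicalSpace TensorProduct
open Groth.PicAux (isEquivalence_tensorRightMod_of_isInvertible isInvertible_pullback homOfSection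
  oneSec homOfSection_one hom_structure_ext pullSec pullUnit resX resX_self pullSec_map)
open Groth.ThetaAlg (smulEnd smulEnd_app smulEnd_comm)
open Groth.QCohMod (res res_self)

namespace Groth.Quot

section Algebra

variable {A B : Type u} [CommRing A] [CommRing B] [Algebra A B] {M M' : Type u} [AddCommGroup M]
  [AddCommGroup M'] [Module A M] [Module A M'] [Module B M'] [IsScalarTower A B M'] {N : ℕ}

/-- The relations of a base changed surjection are spanned by the base changed relations. -/
theorem mem_span_of_isBaseChange {ι : M →ₗ[A] M'} (h : IsBaseChange B ι)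
    (φ : (Fin N → A) →ₗ[A] M) (hφ : Function.Surjective φ) (r' : Fin N → B)
    (h0 : ∑ l, r' l • ι (φ (Pi.single l 1)) = 0) :
    r' ∈ Submodule.span B ((fun r l => algebraMap A B (r l)) '' (LinearMap.ker φ : Set (Fin N → A))) := by
  classical
  let z : B ⊗[A] (Fin N → A) := ∑ l, r' l ⊗ₜ Pi.single l 1
  have hz : φ.lTensor B z = 0 := by
    refine h.equiv.injective ?_
    rw [map_zero]
    simp only [z, map_sum, LinearMap.lTensor_tmul, IsBaseChange.equiv_tmul]
    exact h0
  obtain ⟨y, hy⟩ := ((lTensor_exact B (LinearMap.exact_subtype_ker_map φ) hφ) z).1 hz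
  let ψ : B ⊗[A] (Fin N → A) →ₗ[A] (Fin N → B) :=
    TensorProduct.lift (LinearMap.mk₂ A (fun b r l => r l • b)
      (fun b b' r => funext fun l => smul_add _ _ _) (fun a b r => funext fun l => smul_comm _ _ _)
      (fun b r r' => funext fun l => add_smul _ _ _) (fun a b r => funext fun l => smul_assoc a _ _))
  have hψ : ψ z = r' := by
    funext m
    simp [ψ, z, map_sum, Finset.sum_apply, Pi.single_apply]
  rw [← hψ, ← hy]
  clear hy
  induction y using TensorProduct.induction_on with
  | zero => simp
  | tmul b k =>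
    have : ψ (b ⊗ₜ (k : Fin N → A)) = b • fun l => algebraMap A B ((k : Fin N → A) l) := by
      funext l
      simp [ψ, Algebra.smul_def, mul_comm]
    rw [LinearMap.lTensor_tmul, Submodule.subtype_apply, this]
    exact Submodule.smul_mem _ _ (Submodule.subset_span ⟨_, k.2, rfl⟩)
  | add p q hp hq => rw [map_add, map_add]; exact add_mem hp hq

end Algebra

section Criterion

variable {Y : Scheme.{u}} {L M F : Y.Modules}

/-- Combinations of morphisms out of the dual twist vanish iff those of the sections do. -/
theorem sum_smul_eq_zero_iff (hL : PicF.IsInvertible L)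
    (ε : (DCoh.tensorRightMod L).obj M ≅ Coh.structureModule Y) {n : ℕ}
    (b : Fin n → Γ(Y, ⊤)) (w : Fin n → (M ⟶ F)) :
    ∑ l, smulEnd _ (b l) ≫ w l = 0 ↔ ∑ l, b l • twSec ε (w l) = 0 := by
  let T := DCoh.tensorRightMod L
  have := isEquivalence_tensorRightMod_of_isInvertible hL
  have : T.Additive := DCoh.additive_tensorRightMod _
  rw [← T.map_eq_zero_iff (X := M) (Y := F), Functor.map_sum, ← cancel_epi ε.inv, comp_zero,
    Preadditive.comp_sum]
  have hl : ∀ l, ε.inv ≫ T.map (smulEnd _ (b l) ≫ w l) = homOfSection (b l • twSec ε (w l)) := by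
    intro l
    rw [homOfSection_smul', Functor.map_comp, tensor_smulEnd]
    refine ((Category.assoc _ _ _).symm.trans
      (congrArg (· ≫ _) (smulEnd_comm ε.inv (b l)).symm)).trans ((Category.assoc _ _ _).trans ?_)
    congr 1
    exact hom_structure_ext (by rw [homOfSection_one]; rfl)
  rw [Finset.sum_congr rfl fun l _ => hl l]
  have hsum : ∑ l, homOfSection (b l • twSec ε (w l)) =
      homOfSection (∑ l, b l • twSec ε (w l)) := by
    refine hom_structure_ext ?_
    rw [homOfSection_one]
    change evalOne _ (∑ l, homOfSection (b l • twSec ε (w l))) = _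
    rw [map_sum]
    exact Finset.sum_congr rfl fun l _ => homOfSection_one _
  rw [hsum]
  constructor
  · intro h
    have h1 := congr(($h).app ⊤ (oneSec Y ⊤))
    rw [homOfSection_one] at h1
    exact h1
  · intro h
    refine hom_structure_ext ?_
    rw [homOfSection_one]
    exact h

/-- Sections of twists are natural. -/
theorem twSec_comp (ε : (DCoh.tensorRightMod L).obj M ≅ Coh.structureModule Y) {F' : Y.Modules}
    (w : M ⟶ F) (p : F ⟶ F') :
    twSec ε (w ≫ p) = ((DCoh.tensorRightMod L).map p).app ⊤ (twSec ε w) := by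
  rw [twSec, twSec, Functor.map_comp, ← Category.assoc]
  rfl

/-- A module generated by its sections over the preimage of an affine base has its morphisms
determined by global sections. -/
theorem detByGlobal_of_epi_counit {S : Scheme.{u}} [IsAffine S] (f : Y ⟶ S) [QuasiCompact f]
    [QuasiSeparated f] [M.IsQuasicoherent]
    (h : Epi ((Scheme.Modules.pullbackPushforwardAdjunction f).counit.app M)) :
    Groth.Variety2.Reg.DetByGlobal M := by
  intro Z φ ψ hs
  let adj := Scheme.Modules.pullbackPushforwardAdjunction f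
  have : ((Scheme.Modules.pushforward f).obj M).IsQuasicoherent := QCohMod.isQCoh_pushforward M f
  have h1 : (Scheme.Modules.pushforward f).map φ = (Scheme.Modules.pushforward f).map ψ :=
    OmegaSheaf.hom_ext_of_top fun m => hs m
  refine (cancel_epi (adj.counit.app M)).1 ?_
  refine ((adj.counit.naturality φ).symm.trans ?_).trans (adj.counit.naturality ψ)
  simp only [Functor.comp_map, h1]

end Criterion

variable {X S : Scheme.{u}} (f : X ⟶ S) {E L Lm : X.Modules} {N : ℕ} (v : Fin N → (Lm ⟶ E))
  (hL : PicF.IsInvertible L) (ε : (DCoh.tensorRightMod L).obj Lm ≅ Coh.structureModule X)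

/-- The base change of the pairing of a twist with its dual. -/
noncomputable def epsT (T : Over S) :
    (DCoh.tensorRightMod (FGA.ET f L T)).obj (FGA.ET f Lm T) ≅ Coh.structureModule (PicF.XT f T) :=
  ((pullTensorNat (pullback.fst f T.hom) L).app Lm).symm ≪≫
    (Scheme.Modules.pullback (pullback.fst f T.hom)).mapIso ε ≪≫
    @asIso _ _ _ _ (pullUnit (pullback.fst f T.hom)) (PicAux.isIso_pullUnit _)

variable {T : Over S} (K : Subobject (FGA.ET f E T))

/-- The twist of the quotient. -/
noncomputable abbrev twQ (L : X.Modules) {T : Over S} (K : Subobject (FGA.ET f E T)) :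
    (PicF.XT f T).Modules :=
  (DCoh.tensorRightMod (FGA.ET f L T)).obj (cokernel K.arrow)

/-- The images of the twisted sections in the twisted quotient. -/
noncomputable def relGen (l : Fin N) :
    Γ((Scheme.Modules.pushforward (PicF.XTproj f T)).obj (twQ f L K), (⊤ : T.left.Opens)) :=
  twSec (epsT f ε T) ((Scheme.Modules.pullback (pullback.fst f T.hom)).map (v l) ≫
    cokernel.π K.arrow)

/-- The linear map of the twisted sections. -/
noncomputable def relMap : (Fin N → Γ(T.left, ⊤)) →ₗ[Γ(T.left, ⊤)]
    Γ((Scheme.Modules.pushforward (PicF.XTproj f T)).obj (twQ f L K), (⊤ : T.left.Opens)) :=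
  Fintype.linearCombination Γ(T.left, ⊤) (relGen f v ε K)

/-- The relations among the twisted sections in a quotient. -/
noncomputable abbrev Rel : Submodule Γ(T.left, ⊤) (Fin N → Γ(T.left, ⊤)) :=
  LinearMap.ker (relMap f v ε K)

include hL in
theorem mem_rel_iff (r : Fin N → Γ(T.left, ⊤)) :
    r ∈ Rel f v ε K ↔ comb f v T r ≫ cokernel.π K.arrow = 0 := by
  rw [comb, Preadditive.sum_comp]
  simp only [Category.assoc]
  refine Iff.trans ?_ (sum_smul_eq_zero_iff (isInvertible_pullback _ hL) (epsT f ε T)
    (fun l => fn f T (r l))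
    (fun l => (Scheme.Modules.pullback (pullback.fst f T.hom)).map (v l) ≫
      cokernel.π K.arrow)).symm
  rw [LinearMap.mem_ker, relMap, Fintype.linearCombination_apply]
  exact Iff.rfl

include hL in
/-- Relations in a pulled back quotient, on pulled back sections. -/
theorem mem_rel_quotPull_iff {T' : Over S} (g : T' ⟶ T) (r' : Fin N → Γ(T'.left, ⊤)) :
    r' ∈ Rel f v ε (FGA.quotPull f E g K) ↔
      ∑ l, fn f T' (r' l) • (show Γ((Scheme.Modules.pullback (PicF.XTmap f g)).obj (twQ f L K),
        (⊤ : (PicF.XT f T').Opens)) from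
          pullSec (PicF.XTmap f g) _ (show Γ(twQ f L K, (⊤ : (PicF.XT f T).Opens)) from
            relGen f v ε K l)) = 0 := by
  obtain ⟨θ, hθ⟩ := exists_quotPull_cokernel_iso f g K
  rw [mem_rel_iff f v hL ε]
  refine Iff.trans ?_ (sum_smul_map_eq_zero_iff (PicF.XTmap f g) (isInvertible_pullback _ hL)
    (epsT f ε T) (fun l => fn f T' (r' l))
    (fun l => (Scheme.Modules.pullback (pullback.fst f T.hom)).map (v l) ≫ cokernel.π K.arrow))
  rw [← cancel_epi (FGA.ETiso f Lm g).hom, comp_zero, ← cancel_mono θ.inv, zero_comp, comb,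
    Preadditive.sum_comp, Preadditive.comp_sum, Preadditive.sum_comp]
  refine Eq.congr_left (Finset.sum_congr rfl fun l _ => ?_)
  simp only [Category.assoc, Functor.map_comp]
  rw [← reassoc_of% (smulEnd_comm (FGA.ETiso f Lm g).hom (fn f T' (r' l)))]
  congr 1
  rw [← reassoc_of% (Flatmor4.map_pullback_XTmap f (v l) g), ← reassoc_of% hθ, Iso.hom_inv_id,
    Category.comp_id]

include hL in
/-- Relations pull back to relations. -/
theorem map_mem_rel {T' : Over S} (g : T' ⟶ T) {r : Fin N → Γ(T.left, ⊤)}
    (hr : r ∈ Rel f v ε K) :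
    (fun l => g.left.appTop (r l)) ∈ Rel f v ε (FGA.quotPull f E g K) := by
  rw [mem_rel_iff f v hL ε] at hr ⊢
  obtain ⟨θ, hθ⟩ := exists_quotPull_cokernel_iso f g K
  rw [← cancel_epi (FGA.ETiso f Lm g).hom, comp_zero, ← Category.assoc, ← comb_map, Category.assoc,
    ← hθ, ← Category.assoc, ← Functor.map_comp, hr]
  have := FlatStrata.additive_pullback (PicF.XTmap f g)
  rw [Functor.map_zero, zero_comp]

include hL in
/-- Surjectivity and base change of the relations over affine bases. -/
theorem rel_quotPull {T' : Over S} (g : T' ⟶ T) [IsAffine T.left] [IsAffine T'.left]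
    [(twQ f L K).IsQuasicoherent] [IsProper f]
    (hG : IsIso (bcSq (isPullback_XTmap f g).w (twQ f L K)))
    (hs : Function.Surjective (relMap f v ε K)) :
    Rel f v ε (FGA.quotPull f E g K) =
      Submodule.span Γ(T'.left, ⊤)
        ((fun r l => g.left.appTop (r l)) '' (Rel f v ε K : Set (Fin N → Γ(T.left, ⊤)))) := by
  refine le_antisymm (fun r' hr' => ?_) (Submodule.span_le.2 ?_)
  swap
  · rintro _ ⟨r, hr, rfl⟩
    exact map_mem_rel f v hL ε K g hr
  let P := (Scheme.Modules.pushforward (PicF.XTproj f T)).obj (twQ f L K)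
  have : P.IsQuasicoherent := QCohMod.isQCoh_pushforward _ _
  have e : (⊤ : T'.left.Opens) ≤ g.left ⁻¹ᵁ (⊤ : T.left.Opens) := le_top
  letI := Groth.QCohMod.sectionsAlg g.left e
  letI : Module Γ(T.left, ⊤) Γ((Scheme.Modules.pullback g.left).obj P, (⊤ : T'.left.Opens)) :=
    Module.compHom _ (g.left.appLE ⊤ ⊤ e).hom
  haveI : IsScalarTower Γ(T.left, ⊤) Γ(T'.left, ⊤)
      Γ((Scheme.Modules.pullback g.left).obj P, (⊤ : T'.left.Opens)) :=
    IsScalarTower.of_algebraMap_smul fun _ _ => rfl
  have hb := LocFree.isBaseChange_pullSecₗ g.left P e (isAffineOpen_top _) (isAffineOpen_top _)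
  have halg : ∀ a, algebraMap Γ(T.left, ⊤) Γ(T'.left, ⊤) a = g.left.appTop a := fun a => by
    change g.left.appLE ⊤ ⊤ e a = _
    rw [Scheme.Hom.appLE]
    exact (congrArg (fun h => (T'.left.presheaf.map h) (g.left.app ⊤ a)) (Subsingleton.elim _ (𝟙 _))).trans
      (by rw [CategoryTheory.Functor.map_id]; rfl)
  have key := mem_span_of_isBaseChange hb (relMap f v ε K) hs r' ?_
  · simpa only [halg] using key
  refine (ConcreteCategory.bijective_of_isIso
    ((bcSq (isPullback_XTmap f g).w (twQ f L K)).app (⊤ : T'.left.Opens))).1 ?_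
  rw [map_sum, map_zero]
  refine Eq.trans (Finset.sum_congr rfl fun l _ => ?_) ((mem_rel_quotPull_iff f v hL ε K g r').1 hr')
  have h1 : relMap f v ε K (Pi.single l 1) = relGen f v ε K l := by
    rw [relMap, Fintype.linearCombination_apply_single, one_smul]
  rw [h1]
  refine (Scheme.Modules.Hom.app_smul _ _ _).trans ?_
  congr 1
  have h2 := bcSq_pullSec (isPullback_XTmap f g).w (twQ f L K) ⊤ (relGen f v ε K l)
    (preimage_sq_le (isPullback_XTmap f g).w ⊤)
  exact ((congrArg _ (res_self _ _)).trans h2).trans (res_self _ _)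

end Groth.Quot
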