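import Groth.Agent.Quot.Generated
import Groth.Agent.Quot.FibreGen
import Groth.Agent.FlatStrata.Criterion
import Groth.Agent.FlatCxBase.FlatAlg
import Groth.Agent.FlatTwist.Relative

/-!
# Families of quotients with acyclic globally generated fibres
-/

set_option autoImplicit false

universe u

open CategoryTheory Limits AlgebraicGeometry TopologicalSpace
open Groth.PicAux (isInvertible_pullback)
open Groth.Variety2.Reg (DetByGlobal)

namespace Groth.Quot

/-- The first term of a short exact sequence with flat middle and right terms is flat. -/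
theorem isFlatOver_of_shortExact {X S : Scheme.{u}} (f : X ⟶ S) (D : ShortComplex X.Modules)
    (hD : D.ShortExact) [D.X₁.IsQuasicoherent] [D.X₂.IsQuasicoherent] [D.X₃.IsQuasicoherent]
    (h₂ : FlatMod.IsFlatOver f D.X₂) (h₃ : FlatMod.IsFlatOver f D.X₃) :
    FlatMod.IsFlatOver f D.X₁ := by
  rw [Flatmor4.isFlatOver_iff_affine f] at h₂ h₃ ⊢
  intro U V e hU hV
  let _ := Flatmor4.sectionModule f D.X₁ e
  let _ := Flatmor4.sectionModule f D.X₂ e
  let _ := Flatmor4.sectionModule f D.X₃ e
  have := h₂ U V e hU hV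
  have := h₃ U V e hU hV
  have := hD.mono_f
  have := hD.epi_g
  let a : Γ(D.X₁, U) →ₗ[Γ(S, V)] Γ(D.X₂, U) :=
    { toFun := fun x => D.f.app U x
      map_add' := map_add _
      map_smul' := fun r x => Scheme.Modules.Hom.app_smul D.f _ x }
  let b : Γ(D.X₂, U) →ₗ[Γ(S, V)] Γ(D.X₃, U) :=
    { toFun := fun x => D.g.app U x
      map_add' := map_add _
      map_smul' := fun r x => Scheme.Modules.Hom.app_smul D.g _ x }
  exact FlatCxBase.flat_of_exact_flat_left (f := a) (g := b)
    (QCohMod.app_injective_of_mono D.f U) (QCohMod.app_surjective_of_epi D.g hU) fun x =>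
      ⟨fun h => QCohMod.exists_app_eq_of_exact hD.exact hU x h,
        fun ⟨y, hy⟩ => hy ▸ congr(($(D.zero)).app U y)⟩

variable {X S : Scheme.{u}} (f : X ⟶ S) [IsProper f] {E L Lm : X.Modules} {N : ℕ}
  (v : Fin N → (Lm ⟶ E)) (hL : PicF.IsInvertible L)
  (ε : (DCoh.tensorRightMod L).obj Lm ≅ Coh.structureModule X)

/-- The twisted fibres of the quotient are acyclic, those of the kernel moreover generated. -/
structure IsRegular (L : X.Modules) {T : Over S} (K : Subobject (FGA.ET f E T)) : Prop where
  quot : ∀ (y : T.left) (i : ℕ), 1 ≤ i →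
    Subsingleton (CohIII.fiberH (PicF.XTproj f T) (twQ f L K) y i)
  ker : ∀ (y : T.left) (i : ℕ), 1 ≤ i → Subsingleton (CohIII.fiberH (PicF.XTproj f T)
    ((DCoh.tensorRightMod (FGA.ET f L T)).obj (K : (PicF.XT f T).Modules)) y i)
  gen : ∀ y : T.left, DetByGlobal (CohIII.fiberMod (PicF.XTproj f T)
    ((DCoh.tensorRightMod (FGA.ET f L T)).obj (K : (PicF.XT f T).Modules)) y)

section

variable {T : Over S} [IsLocallyNoetherian T.left] (hE : Coh.IsCoh E)
  (K : FGA.QuotSet f E T)

include hL hE in
/-- The twisted kernel of a family over a flat `E_T` is coherent and flat. -/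
theorem twKer_mem (hEfl : FlatMod.IsFlatOver (PicF.XTproj f T) (FGA.ET f E T)) :
    Coh.IsCoh ((DCoh.tensorRightMod (FGA.ET f L T)).obj (K.1 : (PicF.XT f T).Modules)) ∧
      FlatMod.IsFlatOver (PicF.XTproj f T)
        ((DCoh.tensorRightMod (FGA.ET f L T)).obj (K.1 : (PicF.XT f T).Modules)) := by
  have : IsLocallyNoetherian (PicF.XT f T) :=
    LocallyOfFiniteType.isLocallyNoetherian (PicF.XTproj f T)
  have hET : Coh.IsCoh (FGA.ET f E T) := FlatStrata.isCoh_pullback _ hE
  have := hET.1
  have := K.2.1.1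
  have hk : Coh.IsCoh (K.1 : (PicF.XT f T).Modules) := by
    let D : ShortComplex (PicF.XT f T).Modules :=
      ShortComplex.mk K.1.arrow (cokernel.π K.1.arrow) (cokernel.condition _)
    have hex : D.Exact := ShortComplex.exact_of_g_is_cokernel _ (cokernelIsCokernel K.1.arrow)
    have hk : Coh.IsCoh (kernel (cokernel.π K.1.arrow)) := QCohMod.isCoh_kernel _ hET
    exact QCohMod.isCoh_of_iso (IsLimit.conePointUniqueUpToIso hex.fIsKernel
      (limit.isLimit (parallelPair (cokernel.π K.1.arrow) 0))).symm hk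
  have := hk.1
  let D : ShortComplex (PicF.XT f T).Modules :=
    ShortComplex.mk K.1.arrow (cokernel.π K.1.arrow) (cokernel.condition _)
  have hD : D.ShortExact :=
    { exact := ShortComplex.exact_of_g_is_cokernel _ (cokernelIsCokernel K.1.arrow) }
  have hT := isInvertible_pullback (pullback.fst f T.hom) hL
  have hfl : FlatMod.IsFlatOver (PicF.XTproj f T) (K.1 : (PicF.XT f T).Modules) :=
    @isFlatOver_of_shortExact _ _ (PicF.XTproj f T) D hD ‹_› ‹_› ‹_› hEfl K.2.2
  exact ⟨RefRank.isCoh_tensorMod hk (Inter.isCoh_of_isInvertible hT),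
    FlatTwist.isFlatOver_tensorMod hT hfl⟩

include hL in
/-- The twisted quotient of a regular family is good. -/
theorem isPushGood_twQ (hreg : IsRegular f L K.1) :
    IsPushGood (PicF.XTproj f T) (twQ f L K.1) := by
  have := K.2.1.1
  have hT := isInvertible_pullback (pullback.fst f T.hom) hL
  exact isPushGood_of_fibres (PicF.XTproj f T)
    (RefRank.isCoh_tensorMod K.2.1 (Inter.isCoh_of_isInvertible hT))
    (FlatTwist.isFlatOver_tensorMod hT K.2.2) hreg.quot

end

section Affine

variable (A : CommRingCat.{u}) [IsNoetherianRing A] (t : Spec A ⟶ S)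

include hL in
/-- Regular families over affine bases: surjectivity, projectivity and generation. -/
theorem regular_facts (hE : Coh.IsCoh E)
    (hEfl : FlatMod.IsFlatOver (PicF.XTproj f (Over.mk t)) (FGA.ET f E (Over.mk t)))
    (hgen : IsSpanning f (L := L) v ε (Over.mk t)) (K : FGA.QuotSet f E (Over.mk t))
    (hreg : IsRegular f L K.1) :
    Function.Surjective (relMap f v ε K.1) ∧
    (∀ {q : ℕ} (r : Fin q → Fin N → Γ(Spec A, ⊤)),
      Submodule.span Γ(Spec A, ⊤) (Set.range r) = Rel f v ε K.1 →
        spanSub f v (Over.mk t) r = K.1) := by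
  have : IsNoetherianRing (CommRingCat.of A) := ‹IsNoetherianRing A›
  have : IsAffine (Over.mk t).left := inferInstanceAs (IsAffine (Spec A))
  have : IsLocallyNoetherian (Over.mk t).left := inferInstanceAs (IsLocallyNoetherian (Spec A))
  obtain ⟨hc, hfl⟩ := twKer_mem f hL hE K hEfl
  refine ⟨relMap_surjective f v hL ε K.1 hgen ?_, fun r hr => spanSub_eq f v hL ε K.1 hgen ?_ r hr⟩
  · let : (PicF.XT f (Over.mk t)).Over (Spec (CommRingCat.of A)) := ⟨PicF.XTproj f (Over.mk t)⟩
    have : IsProper (PicF.XT f (Over.mk t) ↘ Spec (CommRingCat.of A)) :=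
      inferInstanceAs (IsProper (PicF.XTproj f (Over.mk t)))
    exact FlatStrata.subsingleton_HH_of_fibres _ hc hfl 1 fun y => hreg.ker y 1 le_rfl
  · have := hc.1
    exact detByGlobal_of_epi_counit (PicF.XTproj f (Over.mk t))
      (epi_counit_of_fibres (PicF.XTproj f (Over.mk t)) hreg.ker hc hfl hreg.gen)

end Affine

end Groth.Quot
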