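import Groth.Agent.FlatStrata.Canonical
import Groth.Agent.FlatStrata.Sections
import Groth.Agent.CohBase.FibreBC
import Groth.Agent.CohCmpLib.GenBC
import Groth.Agent.OmegaSheaf.IsoLocal
import Groth.Agent.QCohMod.PullbackSections
import Groth.Agent.PicAux.PushPull

/-!
# The base change map of direct images on global sections of affine charts
-/

set_option autoImplicit false

universe u

open CategoryTheory Limits AlgebraicGeometry TopologicalSpace Opposite
open scoped TensorProduct
open Groth.CohBase hiding res res_res res_self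
open Groth.QCohMod (res res_res res_self res_app sectionsAlg pullSecTensor pullSecTensor_tmul
  pullSecTensor_bijective)
open Groth.PicAux (pullSec pullSec_map res_pullSec)

namespace Groth.Quot

variable {X S X' T : Scheme.{u}} {f : X ⟶ S} {φ : T ⟶ S} {f' : X' ⟶ T} {g : X' ⟶ X}
  [QuasiCompact f] [QuasiSeparated f] [QuasiCompact f'] [QuasiSeparated f']

/-- A morphism sending pulled back sections to pulled back sections is an isomorphism as soon as
base change of global sections is bijective on affine charts. -/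
theorem isIso_of_bcBij (H : IsPullback g f' f φ) (F : X.Modules) [F.IsQuasicoherent]
    (bc : (Scheme.Modules.pullback φ).obj ((Scheme.Modules.pushforward f).obj F) ⟶
      (Scheme.Modules.pushforward f').obj ((Scheme.Modules.pullback g).obj F))
    (hbc : ∀ (V : S.Opens) (s : Γ(F, f ⁻¹ᵁ V)) (hle : f' ⁻¹ᵁ (φ ⁻¹ᵁ V) ≤ g ⁻¹ᵁ (f ⁻¹ᵁ V)),
      bc.app (φ ⁻¹ᵁ V) (pullSec φ ((Scheme.Modules.pushforward f).obj F)
        (s : Γ((Scheme.Modules.pushforward f).obj F, V))) =
      (res ((Scheme.Modules.pullback g).obj F) hle (pullSec g F s) :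
        Γ((Scheme.Modules.pullback g).obj F, f' ⁻¹ᵁ (φ ⁻¹ᵁ V))))
    (hcov : ∀ t : T, ∃ (V : S.Opens) (W : T.Opens) (_ : IsAffineOpen V) (_ : IsAffineOpen W)
      (e : W ≤ φ ⁻¹ᵁ V) (e' : f' ⁻¹ᵁ W ≤ g ⁻¹ᵁ (f ⁻¹ᵁ V)), t ∈ W ∧
      letI : Algebra Γ(S, V) Γ(T, W) := sectionsAlg φ e
      letI : ((f ⁻¹ᵁ V : X.Opens) : Scheme.{u}).Over (Spec (CommRingCat.of Γ(S, V))) :=
        ⟨preimageToSpec f⟩
      letI : ((f' ⁻¹ᵁ W : X'.Opens) : Scheme.{u}).Over (Spec (CommRingCat.of Γ(T, W))) :=
        ⟨preimageToSpec f'⟩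
      ∀ hsq : IsBC (A := Γ(S, V)) (A' := Γ(T, W)) (g.resLE (f ⁻¹ᵁ V) (f' ⁻¹ᵁ W) e'),
        FlatStrata.BCBij hsq (F.restrict (f ⁻¹ᵁ V).ι)) :
    IsIso bc := by
  have : ((Scheme.Modules.pushforward f).obj F).IsQuasicoherent := QCohMod.isQCoh_pushforward F f
  have : ((Scheme.Modules.pullback φ).obj ((Scheme.Modules.pushforward f).obj F)).IsQuasicoherent :=
    QCohMod.isQCoh_pullback_obj _ _
  have : ((Scheme.Modules.pullback g).obj F).IsQuasicoherent := QCohMod.isQCoh_pullback_obj _ _
  have : ((Scheme.Modules.pushforward f').obj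
      ((Scheme.Modules.pullback g).obj F)).IsQuasicoherent := QCohMod.isQCoh_pushforward _ f'
  refine Groth.OmegaSheaf.isIso_of_affine_cover _ fun y => ?_
  obtain ⟨V, W, hV, hW, e, e', hy, hb⟩ := hcov y
  refine ⟨W, hW, hy, ?_⟩
  letI : Algebra Γ(S, V) Γ(T, W) := sectionsAlg φ e
  letI : ((f ⁻¹ᵁ V : X.Opens) : Scheme.{u}).Over (Spec (CommRingCat.of Γ(S, V))) :=
    ⟨preimageToSpec f⟩
  letI : ((f' ⁻¹ᵁ W : X'.Opens) : Scheme.{u}).Over (Spec (CommRingCat.of Γ(T, W))) :=
    ⟨preimageToSpec f'⟩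
  let U := f ⁻¹ᵁ V
  let U' := f' ⁻¹ᵁ W
  let r := g.resLE U U' e'
  have hsq : IsBC (A := Γ(S, V)) (A' := Γ(T, W)) r :=
    CohCmpLib.isBC_resLE H hV hW e e'
  let M := (Scheme.Modules.pushforward f).obj F
  let G := (Scheme.Modules.pullback g).obj F
  let iso := CohPull.pullOnIso g U U' e' F
  let toTop : Γ(M, V) ≃ₗ[Γ(S, V)] secA Γ(S, V) (F.restrict U.ι) ⊤ :=
    { toFun := fun s => (res F U.ι_image_top.le (show Γ(F, U) from s) : Γ(F, U.ι ''ᵁ ⊤))
      map_add' := fun a b => map_add (F.presheaf.map (homOfLE U.ι_image_top.le).op).hom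
        (show Γ(F, U) from a) (show Γ(F, U) from b)
      map_smul' := fun a s => by
        refine Eq.trans (QCohMod.res_smul F U.ι_image_top.le (f.app V a) (show Γ(F, U) from s)) ?_
        change _ = (show Γ(F.restrict U.ι, (⊤ : U.toScheme.Opens)) from
          QCohMod.resFun _ le_rfl (Coh.toGlobal (preimageToSpec f (V := V)) a) •
            (show Γ(F.restrict U.ι, (⊤ : U.toScheme.Opens)) from _))
        rw [QCohMod.resFun_self, FlatStrata.toGlobal_preimageToSpec]
        refine Eq.trans ?_ (PicAux.restrict_smul U ⊤ _ _).symm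
        refine congrArg (fun r : Γ(X, U.ι ''ᵁ ⊤) =>
          r • res F U.ι_image_top.le (show Γ(F, U) from s)) ?_
        rw [Scheme.Opens.topIso_inv]
        rfl
      invFun := fun s => res F U.ι_image_top.ge (show Γ(F, U.ι ''ᵁ ⊤) from s)
      left_inv := fun s => (res_res F _ _ _).trans (res_self F _)
      right_inv := fun s => (res_res F _ _ _).trans (res_self F _) }
  let Ψ : Γ(T, W) ⊗[Γ(S, V)] Γ(M, V) → Γ((Scheme.Modules.pushforward f').obj G, W) := fun z =>
    (res G U'.ι_image_top.ge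
      (iso.hom.app ⊤ (show Γ((Scheme.Modules.pullback r).obj (F.restrict U.ι), (⊤ : U'.toScheme.Opens))
        from FlatStrata.bcLin hsq (F.restrict U.ι) ⊤ (toTop.lTensor Γ(T, W) z))) : Γ(G, U'))
  have hΨ : Function.Bijective Ψ := by
    refine Function.Bijective.comp ?_ (Function.Bijective.comp ?_
      (Function.Bijective.comp (hb hsq) (toTop.lTensor Γ(T, W)).bijective))
    · exact ⟨fun a b h => (res_self G a).symm.trans ((res_res G U'.ι_image_top.ge U'.ι_image_top.le a).symm.trans
        ((congrArg (res G U'.ι_image_top.le) h).trans ((res_res G _ _ b).trans (res_self G b)))),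
        fun b => ⟨res G U'.ι_image_top.le b, (res_res G _ _ b).trans (res_self G b)⟩⟩
    · exact (ConcreteCategory.bijective_of_isIso (iso.hom.app ⊤))
  have key : ∀ z, bc.app W (pullSecTensor φ M e z) = Ψ z := by
    intro z
    induction z using TensorProduct.induction_on with
    | zero =>
      simp only [map_zero, Ψ]
      exact ((congrArg _ (map_zero (iso.hom.app ⊤).hom)).trans (map_zero _)).symm
    | add a b ha hb =>
      simp only [map_add, Ψ] at ha hb ⊢
      rw [ha, hb]
      exact ((congrArg _ (map_add (iso.hom.app ⊤).hom _ _)).trans (map_add _ _ _)).symm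
    | tmul a s =>
      have h0 : iso.hom.app ⊤ (show Γ((Scheme.Modules.pullback r).obj (F.restrict U.ι),
          (⊤ : U'.toScheme.Opens)) from pullSec r (F.restrict U.ι)
            (res F U.ι_image_top.le (show Γ(F, U) from s) : Γ(F, U.ι ''ᵁ ⊤))) =
          (res G ((U'.ι_image_top.le).trans e') (pullSec g F (show Γ(F, U) from s)) :
            Γ(G, U'.ι ''ᵁ ⊤)) :=
        CohCmpLib.pullOnIso_pullSec g U U' e' F (show Γ(F, U) from s) ⊤ U.ι_image_top.le _
      have hle : f' ⁻¹ᵁ (φ ⁻¹ᵁ V) ≤ g ⁻¹ᵁ (f ⁻¹ᵁ V) := CohCmp.sqLE f φ f' g H.w V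
      refine ((congrArg (bc.app W) (pullSecTensor_tmul φ M e a s)).trans (bc.app_smul a _)).trans ?_
      refine (congrArg (a • ·) ((res_app bc e _).symm.trans
        (congrArg _ (hbc V (show Γ(F, f ⁻¹ᵁ V) from s) hle)))).trans ?_
      let c : Γ(U'.toScheme, (⊤ : U'.toScheme.Opens)) := toSec Γ(T, W) (⊤ : U'.toScheme.Opens) a
      let x : Γ((Scheme.Modules.pullback r).obj (F.restrict U.ι), (⊤ : U'.toScheme.Opens)) :=
        pullSec r (F.restrict U.ι)
          (res F U.ι_image_top.le (show Γ(F, U) from s) : Γ(F, U.ι ''ᵁ ⊤))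
      refine Eq.trans ?_ (show res G U'.ι_image_top.ge (iso.hom.app ⊤ (c • x)) = Ψ (a ⊗ₜ s) from
        Eq.refl _)
      have h1 : iso.hom.app ⊤ (c • x) =
          (show Γ(G.restrict U'.ι, (⊤ : U'.toScheme.Opens)) from c •
            (show Γ(G.restrict U'.ι, (⊤ : U'.toScheme.Opens)) from
              (res G ((U'.ι_image_top.le).trans e') (pullSec g F (show Γ(F, U) from s)) :
                Γ(G, U'.ι ''ᵁ ⊤)))) :=
        (iso.hom.app_smul c x).trans (congrArg (c • ·) h0)
      refine Eq.trans ?_ (congrArg (res G U'.ι_image_top.ge) h1).symm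
      have h2 : (show Γ(G.restrict U'.ι, (⊤ : U'.toScheme.Opens)) from c •
            (show Γ(G.restrict U'.ι, (⊤ : U'.toScheme.Opens)) from
              (res G ((U'.ι_image_top.le).trans e') (pullSec g F (show Γ(F, U) from s)) :
                Γ(G, U'.ι ''ᵁ ⊤)))) =
          ((QCohMod.resFun X' U'.ι_image_top.le (f'.app W a)) •
            (res G ((U'.ι_image_top.le).trans e') (pullSec g F (show Γ(F, U) from s)) :
                Γ(G, U'.ι ''ᵁ ⊤))) := by
        refine (PicAux.restrict_smul U' ⊤ _ _).trans ?_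
        refine congrArg (fun q : Γ(X', U'.ι ''ᵁ ⊤) => q •
          (res G ((U'.ι_image_top.le).trans e') (pullSec g F (show Γ(F, U) from s)) :
            Γ(G, U'.ι ''ᵁ ⊤))) ?_
        change QCohMod.resFun _ le_rfl (Coh.toGlobal (preimageToSpec f' (V := W)) a) = _
        rw [QCohMod.resFun_self, FlatStrata.toGlobal_preimageToSpec, Scheme.Opens.topIso_inv]
        rfl
      refine Eq.trans ?_ (congrArg (res G U'.ι_image_top.ge) h2).symm
      refine Eq.trans ?_ (QCohMod.res_smul G U'.ι_image_top.ge _ _).symm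
      rw [QCohMod.resFun_resFun, QCohMod.resFun_self, res_res]
      exact congrArg (f'.app W a • ·) (res_res G hle (f'.preimage_mono e) _)
  exact (Function.Bijective.of_comp_iff _ (pullSecTensor_bijective φ M e hV hW)).1
    ((show (bc.app W : _ → _) ∘ pullSecTensor φ M e = Ψ from funext key) ▸ hΨ)

end Groth.Quot
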