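import Groth.Agent.Quot.PushBC
import Groth.Agent.CohCmpLib.PullOn

/-!
# The base change map of a square on pulled back sections
-/

set_option autoImplicit false

universe u

open CategoryTheory Limits AlgebraicGeometry TopologicalSpace Opposite
open Groth.QCohMod (res res_res res_self res_app)
open Groth.PicAux (pullSec pullSec_map pullSec_comp res_pullSec)

namespace Groth.Quot

variable {X S X' T : Scheme.{u}} {f : X ⟶ S} {φ : T ⟶ S} {f' : X' ⟶ T} {g : X' ⟶ X}

/-- The base change map `φ^* f_* F ⟶ f'_* g^* F` of a commutative square. -/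
noncomputable def bcSq (w : g ≫ f = f' ≫ φ) (F : X.Modules) :
    (Scheme.Modules.pullback φ).obj ((Scheme.Modules.pushforward f).obj F) ⟶
      (Scheme.Modules.pushforward f').obj ((Scheme.Modules.pullback g).obj F) :=
  ((Scheme.Modules.pullbackPushforwardAdjunction φ).homEquiv _ _).symm
    ((Scheme.Modules.pushforward f).map ((Scheme.Modules.pullbackPushforwardAdjunction g).unit.app F) ≫
      (Scheme.Modules.pushforwardComp g f).hom.app _ ≫
      (Scheme.Modules.pushforwardCongr w).hom.app _ ≫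
      (Scheme.Modules.pushforwardComp f' φ).inv.app _)

theorem preimage_sq_le (w : g ≫ f = f' ≫ φ) (V : S.Opens) :
    f' ⁻¹ᵁ (φ ⁻¹ᵁ V) ≤ g ⁻¹ᵁ (f ⁻¹ᵁ V) := by
  rw [← Scheme.Hom.comp_preimage, ← Scheme.Hom.comp_preimage, w]

/-- The base change map on pulled back sections. -/
theorem bcSq_pullSec (w : g ≫ f = f' ≫ φ) (F : X.Modules) (V : S.Opens) (s : Γ(F, f ⁻¹ᵁ V))
    (hle : f' ⁻¹ᵁ (φ ⁻¹ᵁ V) ≤ g ⁻¹ᵁ (f ⁻¹ᵁ V)) :
    (bcSq w F).app (φ ⁻¹ᵁ V) (pullSec φ ((Scheme.Modules.pushforward f).obj F)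
        (s : Γ((Scheme.Modules.pushforward f).obj F, V))) =
      (res ((Scheme.Modules.pullback g).obj F) hle (pullSec g F s) :
        Γ((Scheme.Modules.pullback g).obj F, f' ⁻¹ᵁ (φ ⁻¹ᵁ V))) := by
  have h := ((Scheme.Modules.pullbackPushforwardAdjunction φ).homEquiv _ _).apply_symm_apply
    ((Scheme.Modules.pushforward f).map ((Scheme.Modules.pullbackPushforwardAdjunction g).unit.app F) ≫
      (Scheme.Modules.pushforwardComp g f).hom.app _ ≫
      (Scheme.Modules.pushforwardCongr w).hom.app _ ≫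
      (Scheme.Modules.pushforwardComp f' φ).inv.app _)
  rw [Adjunction.homEquiv_unit] at h
  refine (congr(($h).app V (s : Γ((Scheme.Modules.pushforward f).obj F, V)))).trans ?_
  rfl

variable {T' X'' : Scheme.{u}} {h : T' ⟶ T} {f'' : X'' ⟶ T'} {k : X'' ⟶ X'}

/-- The base change maps of composable squares, on sections. -/
theorem bcSq_comp_app (w : g ≫ f = f' ≫ φ) (w' : k ≫ f' = f'' ≫ h)
    (w'' : (k ≫ g) ≫ f = f'' ≫ h ≫ φ) (F : X.Modules) (W : T.Opens)
    (t : Γ((Scheme.Modules.pullback φ).obj ((Scheme.Modules.pushforward f).obj F), W))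
    (hle : f'' ⁻¹ᵁ (h ⁻¹ᵁ W) ≤ k ⁻¹ᵁ (f' ⁻¹ᵁ W)) :
    (bcSq w'' F).app (h ⁻¹ᵁ W)
        (((Scheme.Modules.pullbackComp h φ).hom.app _).app (h ⁻¹ᵁ W) (pullSec h _ t)) =
      (res ((Scheme.Modules.pullback (k ≫ g)).obj F) hle
        (((Scheme.Modules.pullbackComp k g).hom.app F).app (k ⁻¹ᵁ (f' ⁻¹ᵁ W))
          (pullSec k _ (show Γ((Scheme.Modules.pullback g).obj F, f' ⁻¹ᵁ W) from
            (bcSq w F).app W t))) :
        Γ((Scheme.Modules.pullback (k ≫ g)).obj F, f'' ⁻¹ᵁ (h ⁻¹ᵁ W))) := by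
  let M := (Scheme.Modules.pushforward f).obj F
  let A : (Scheme.Modules.pullback φ).obj M ⟶ (Scheme.Modules.pushforward h).obj
      ((Scheme.Modules.pushforward f'').obj ((Scheme.Modules.pullback (k ≫ g)).obj F)) :=
    (Scheme.Modules.pullbackPushforwardAdjunction h).unit.app _ ≫
      (Scheme.Modules.pushforward h).map ((Scheme.Modules.pullbackComp h φ).hom.app M ≫ bcSq w'' F)
  let B : (Scheme.Modules.pullback φ).obj M ⟶ (Scheme.Modules.pushforward h).obj
      ((Scheme.Modules.pushforward f'').obj ((Scheme.Modules.pullback (k ≫ g)).obj F)) :=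
    bcSq w F ≫ (Scheme.Modules.pushforward f').map
        ((Scheme.Modules.pullbackPushforwardAdjunction k).unit.app _ ≫
          (Scheme.Modules.pushforward k).map ((Scheme.Modules.pullbackComp k g).hom.app F)) ≫
      (Scheme.Modules.pushforwardComp k f').hom.app _ ≫
      (Scheme.Modules.pushforwardCongr w').hom.app _ ≫
      (Scheme.Modules.pushforwardComp f'' h).inv.app _
  suffices hAB : A = B from congr(($hAB).app W t)
  refine ((Scheme.Modules.pullbackPushforwardAdjunction φ).homEquiv _ _).injective ?_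
  ext V s
  simp only [Adjunction.homEquiv_unit]
  let s' : Γ(F, f ⁻¹ᵁ V) := s
  have hA : A.app (φ ⁻¹ᵁ V) (pullSec φ M (s' : Γ(M, V))) =
      (res ((Scheme.Modules.pullback (k ≫ g)).obj F) (preimage_sq_le w'' V)
        (pullSec (k ≫ g) F s') : Γ((Scheme.Modules.pullback (k ≫ g)).obj F,
          f'' ⁻¹ᵁ (h ⁻¹ᵁ (φ ⁻¹ᵁ V)))) :=
    (congrArg ((bcSq w'' F).app (h ⁻¹ᵁ (φ ⁻¹ᵁ V))) (pullSec_comp h φ M (s' : Γ(M, V)))).trans
      (bcSq_pullSec w'' F V s' (preimage_sq_le w'' V))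
  have hB : B.app (φ ⁻¹ᵁ V) (pullSec φ M (s' : Γ(M, V))) =
      (res ((Scheme.Modules.pullback (k ≫ g)).obj F) (preimage_sq_le w'' V)
        (pullSec (k ≫ g) F s') : Γ((Scheme.Modules.pullback (k ≫ g)).obj F,
          f'' ⁻¹ᵁ (h ⁻¹ᵁ (φ ⁻¹ᵁ V)))) := by
    refine (congrArg (fun z : Γ((Scheme.Modules.pullback g).obj F, f' ⁻¹ᵁ (φ ⁻¹ᵁ V)) =>
      (res ((Scheme.Modules.pullback (k ≫ g)).obj F) (preimage_sq_le w' (φ ⁻¹ᵁ V))
        (((Scheme.Modules.pullbackComp k g).hom.app F).app (k ⁻¹ᵁ (f' ⁻¹ᵁ (φ ⁻¹ᵁ V)))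
          (pullSec k _ z)))) (bcSq_pullSec w F V s' (preimage_sq_le w V))).trans ?_
    refine (congrArg (fun z : Γ((Scheme.Modules.pullback k).obj ((Scheme.Modules.pullback g).obj F),
        k ⁻¹ᵁ (f' ⁻¹ᵁ (φ ⁻¹ᵁ V))) =>
      res ((Scheme.Modules.pullback (k ≫ g)).obj F) (preimage_sq_le w' (φ ⁻¹ᵁ V))
        (((Scheme.Modules.pullbackComp k g).hom.app F).app (k ⁻¹ᵁ (f' ⁻¹ᵁ (φ ⁻¹ᵁ V))) z))
      (res_pullSec k _ (preimage_sq_le w V) (pullSec g F s')).symm).trans ?_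
    refine (congrArg (res _ _) ((res_app ((Scheme.Modules.pullbackComp k g).hom.app F)
      (k.preimage_mono (preimage_sq_le w V)) _).symm.trans
      (congrArg (res _ _) (pullSec_comp k g F s')))).trans ?_
    exact res_res _ _ _ _
  exact hA.trans hB.symm

end Groth.Quot
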