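import Groth.Agent.CohBase.CxModel
import Groth.Agent.FlatStrata.ClosedImm
import Groth.Agent.FlatStrata.Chart
import Groth.Agent.OmegaSheaf.ExactLocal
import Groth.Agent.QCohMod.Category

/-!
# Base change of short exact sequences with flat quotient
-/

set_option autoImplicit false

universe u

open CategoryTheory Limits AlgebraicGeometry TopologicalSpace Opposite TensorProduct
open Groth.CohBase hiding res res_res res_self

namespace Groth.Quot

section Affine

variable (A B : Type u) [CommRing A] [CommRing B] [Algebra A B] {X X' : Scheme.{u}}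
  [X.Over (Spec (CommRingCat.of A))] [X'.Over (Spec (CommRingCat.of B))] {g : X' ⟶ X}

/-- The linear map on sections of a morphism of modules. -/
noncomputable def secAMap {M N : X.Modules} (φ : M ⟶ N) (W : X.Opens) :
    secA A M W →ₗ[A] secA A N W where
  toFun s := φ.app W (show Γ(M, W) from s)
  map_add' _ _ := map_add (φ.app W).hom _ _
  map_smul' r s := Scheme.Modules.Hom.app_smul φ (toSec A W r) (show Γ(M, W) from s)

/-- The inverse image of a short exact sequence with flat quotient stays exact on the left. -/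
theorem mono_pullback_affine (hsq : IsBC (A := A) (A' := B) g) (S : ShortComplex X.Modules)
    (hS : S.ShortExact) [S.X₁.IsQuasicoherent] [S.X₂.IsQuasicoherent] [S.X₃.IsQuasicoherent]
    (hC : FlatMod.IsFlatOver (X ↘ Spec (CommRingCat.of A)) S.X₃) :
    Mono ((Scheme.Modules.pullback g).map S.f) := by
  have := isAffineHom_of_bc hsq
  have := QCohMod.isQCoh_pullback_obj g S.X₁
  have := QCohMod.isQCoh_pullback_obj g S.X₂
  refine Groth.OmegaSheaf.mono_of_affine_cover _ fun x => ?_
  obtain ⟨U, hU, hx⟩ := QCohMod.exists_affine_mem (g.base x)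
  refine ⟨g ⁻¹ᵁ U, hU.preimage g, hx, (injective_iff_map_eq_zero _).2 fun t ht => ?_⟩
  have := hS.mono_f
  have := hS.epi_g
  have := flat_secA A S.X₃ hC hU
  let a := secAMap A S.f U
  let b := secAMap A S.g U
  have hinj : Function.Injective a := QCohMod.app_injective_of_mono S.f U
  have hsurj : Function.Surjective b := QCohMod.app_surjective_of_epi S.g hU
  have hex : Function.Exact a b := fun s =>
    ⟨fun h => QCohMod.exists_app_eq_of_exact hS.exact hU (show Γ(S.X₂, U) from s) h,
      fun ⟨r, hr⟩ => by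
        subst hr
        exact congr(($(S.zero)).app U (show Γ(S.X₁, U) from r))⟩
  have hi := LinearMap.lTensor_injective_of_exact_of_flat b hsurj a hinj hex B
  obtain ⟨z, hz⟩ := (FlatStrata.bcLin_affine_bijective hsq S.X₁ hU).2
    (show secA B ((Scheme.Modules.pullback g).obj S.X₁) (g ⁻¹ᵁ U) from t)
  have key : ∀ z : B ⊗[A] secA A S.X₁ U,
      ((Scheme.Modules.pullback g).map S.f).app (g ⁻¹ᵁ U)
        (show Γ((Scheme.Modules.pullback g).obj S.X₁, g ⁻¹ᵁ U) from
          FlatStrata.bcLin hsq S.X₁ U z) =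
      (show Γ((Scheme.Modules.pullback g).obj S.X₂, g ⁻¹ᵁ U) from
        FlatStrata.bcLin hsq S.X₂ U (a.lTensor B z)) := fun z => by
    induction z using TensorProduct.induction_on with
    | zero =>
      exact ((congrArg _ (map_zero (FlatStrata.bcLin hsq S.X₁ U))).trans (map_zero _)).trans
        ((congrArg _ (map_zero (a.lTensor B))).trans (map_zero (FlatStrata.bcLin hsq S.X₂ U))).symm
    | tmul c s => exact FlatStrata.bcLin_map hsq S.f U c s
    | add p q hp hq =>
      exact ((congrArg _ (map_add (FlatStrata.bcLin hsq S.X₁ U) p q)).trans (map_add _ _ _)).trans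
        ((congrArg₂ (· + ·) hp hq).trans ((map_add (FlatStrata.bcLin hsq S.X₂ U) _ _).symm.trans
          (congrArg _ (map_add (a.lTensor B) p q).symm)))
  have h0 : a.lTensor B z = 0 := by
    refine (FlatStrata.bcLin_affine_bijective hsq S.X₂ hU).1 ?_
    rw [map_zero]
    exact (key z).symm.trans ((congrArg _ (hz : _ = _)).trans ht)
  have hz0 : z = 0 := hi (h0.trans (map_zero _).symm)
  exact (hz.symm.trans (congrArg _ hz0)).trans (map_zero _)

end Affine

/-- A morphism is a monomorphism if its restrictions to an open cover are. -/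
theorem mono_of_restrict {X : Scheme.{u}} {M N : X.Modules} [M.IsQuasicoherent] [N.IsQuasicoherent]
    (φ : M ⟶ N) (h : ∀ x : X, ∃ U : X.Opens, x ∈ U ∧
      Mono ((Scheme.Modules.restrictFunctor U.ι).map φ)) : Mono φ := by
  refine Groth.OmegaSheaf.mono_of_affine_cover φ fun x => ?_
  obtain ⟨U, hx, hm⟩ := h x
  obtain ⟨V, hV, hxV, hVU⟩ := exists_isAffineOpen_mem_and_subset (x := x) (U := U) hx
  refine ⟨V, hV, hxV, ?_⟩
  have hi : Function.Injective (φ.app (U.ι ''ᵁ (U.ι ⁻¹ᵁ V))) :=
    QCohMod.app_injective_of_mono ((Scheme.Modules.restrictFunctor U.ι).map φ) (U.ι ⁻¹ᵁ V)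
  rwa [Scheme.Hom.image_preimage_eq_opensRange_inf, Scheme.Opens.opensRange_ι,
    inf_eq_right.mpr (show V ≤ U from hVU)] at hi

variable {X S X' S' : Scheme.{u}} {f : X ⟶ S} {f' : X' ⟶ S'} {g : X' ⟶ X} {h : S' ⟶ S}

/-- Base change of a short exact sequence with flat quotient is short exact. -/
theorem mono_pullback_of_flat (H : IsPullback g f' f h) (D : ShortComplex X.Modules)
    (hD : D.ShortExact) [D.X₁.IsQuasicoherent] [D.X₂.IsQuasicoherent] [D.X₃.IsQuasicoherent]
    (hC : FlatMod.IsFlatOver f D.X₃) : Mono ((Scheme.Modules.pullback g).map D.f) := by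
  have := QCohMod.isQCoh_pullback_obj g D.X₁
  have := QCohMod.isQCoh_pullback_obj g D.X₂
  refine mono_of_restrict _ fun x => ?_
  obtain ⟨W, hW, hxW⟩ := QCohMod.exists_affine_mem (h.base (f'.base x))
  obtain ⟨W', hW', hxW', e⟩ :=
    exists_isAffineOpen_mem_and_subset (x := f'.base x) (U := h ⁻¹ᵁ W) hxW
  let : ((f ⁻¹ᵁ W : X.Opens) : Scheme.{u}).Over (Spec (CommRingCat.of Γ(S, W))) :=
    ⟨preimageToSpec f⟩
  let : ((f' ⁻¹ᵁ W' : X'.Opens) : Scheme.{u}).Over (Spec (CommRingCat.of Γ(S', W'))) :=
    ⟨preimageToSpec f'⟩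
  let := (h.appLE W W' e).hom.toAlgebra
  let U := f ⁻¹ᵁ W
  let U' := f' ⁻¹ᵁ W'
  have hA := isPullback_preimageToSpec f hW
  have hB := isPullback_preimageToSpec f' hW'
  have hcomp := hB.paste_horiz H
  have hs : Spec.map (CommRingCat.ofHom (algebraMap Γ(S, W) Γ(S', W'))) ≫ hW.fromSpec =
      hW'.fromSpec ≫ h := IsAffineOpen.SpecMap_appLE_fromSpec h hW hW' e
  rw [← hs] at hcomp
  have hw : (U'.ι ≫ g) ≫ f = (preimageToSpec f' (V := W') ≫
      Spec.map (CommRingCat.ofHom (algebraMap Γ(S, W) Γ(S', W')))) ≫ hW.fromSpec := by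
    rw [Category.assoc, Category.assoc]; exact (Category.assoc _ _ _).symm.trans hcomp.w
  let r := hA.lift (U'.ι ≫ g) _ hw
  have hbc : IsBC (A := Γ(S, W)) (A' := Γ(S', W')) r :=
    IsPullback.of_right (by rw [hA.lift_fst]; exact hcomp) (hA.lift_snd _ _ _) hA
  let R := Scheme.Modules.restrictFunctor U.ι
  have : (R.obj D.X₁).IsQuasicoherent := inferInstanceAs ((D.X₁.restrict U.ι).IsQuasicoherent)
  have : (R.obj D.X₂).IsQuasicoherent := inferInstanceAs ((D.X₂.restrict U.ι).IsQuasicoherent)
  have : (R.obj D.X₃).IsQuasicoherent := inferInstanceAs ((D.X₃.restrict U.ι).IsQuasicoherent)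
  have : (D.map R).X₁.IsQuasicoherent := ‹(R.obj D.X₁).IsQuasicoherent›
  have : (D.map R).X₂.IsQuasicoherent := ‹(R.obj D.X₂).IsQuasicoherent›
  have : (D.map R).X₃.IsQuasicoherent := ‹(R.obj D.X₃).IsQuasicoherent›
  have := hD.mono_f
  have := hD.epi_g
  have : Mono (R.map D.f) := Groth.OmegaSheaf.mono_of_affine_cover _ fun z => by
    obtain ⟨V, hV, hz⟩ := QCohMod.exists_affine_mem z
    exact ⟨V, hV, hz, QCohMod.app_injective_of_mono D.f (U.ι ''ᵁ V)⟩
  have hDR : (D.map R).ShortExact :=
    { exact := hD.exact.map_of_epi_of_preservesCokernel R inferInstance inferInstance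
      mono_f := ‹Mono (R.map D.f)›
      epi_g := inferInstanceAs (Epi (R.map D.g)) }
  have hm : Mono ((Scheme.Modules.pullback r).map (R.map D.f)) :=
    mono_pullback_affine _ _ hbc (D.map R) hDR
      ((FlatStrata.isFlatOver_chart_iff f D.X₃ hW).2 fun y _ => hC y)
  refine ⟨U', hxW', ?_⟩
  let ν : Scheme.Modules.pullback g ⋙ Scheme.Modules.restrictFunctor U'.ι ≅
      R ⋙ Scheme.Modules.pullback r :=
    Functor.isoWhiskerLeft _ (Scheme.Modules.restrictFunctorIsoPullback U'.ι) ≪≫
      Scheme.Modules.pullbackComp U'.ι g ≪≫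
      (Scheme.Modules.pullbackCongr (hA.lift_fst _ _ _)).symm ≪≫
      (Scheme.Modules.pullbackComp r U.ι).symm ≪≫
      (Functor.isoWhiskerRight (Scheme.Modules.restrictFunctorIsoPullback U.ι) _).symm
  have h2 := ν.hom.naturality D.f
  rw [Functor.comp_map, Functor.comp_map] at h2
  have h3 : Mono ((Scheme.Modules.restrictFunctor U'.ι).map ((Scheme.Modules.pullback g).map D.f) ≫
      ν.hom.app D.X₂) := by rw [h2]; infer_instance
  exact mono_of_mono _ (ν.hom.app D.X₂)

/-- Base change of a short exact sequence with flat quotient is short exact. -/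
theorem shortExact_pullback_of_flat (H : IsPullback g f' f h) (D : ShortComplex X.Modules)
    (hD : D.ShortExact) [D.X₁.IsQuasicoherent] [D.X₂.IsQuasicoherent] [D.X₃.IsQuasicoherent]
    (hC : FlatMod.IsFlatOver f D.X₃) :
    (D.map (Scheme.Modules.pullback g)).ShortExact := by
  have := hD.epi_g
  have : PreservesColimitsOfSize.{0, 0} (Scheme.Modules.pullback g) :=
    (Scheme.Modules.pullbackPushforwardAdjunction g).leftAdjoint_preservesColimits
  exact { exact := hD.exact.map_of_epi_of_preservesCokernel _ inferInstance inferInstance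
          mono_f := mono_pullback_of_flat H D hD hC
          epi_g := inferInstanceAs (Epi ((Scheme.Modules.pullback g).map D.g)) }

end Groth.Quot
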