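import Groth.Prelude.Def_Pic13
import Groth.Agent.ThetaAlg.Cart
import Groth.Agent.FlatStrata.Twist
import Groth.Agent.QCohMod.Coherent

/-!
# Cokernels of morphisms in a finitely spanned space of homomorphisms form a bounded family
-/

set_option autoImplicit false

universe u

open CategoryTheory Limits AlgebraicGeometry
open Groth.PicAux Groth.ThetaAlg

namespace Groth.Quot

variable (k : Type u) [Field k] (X : Scheme.{u}) [X.Over (Spec (CommRingCat.of k))]

/-- A scalar as a global function. -/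
noncomputable def constFun (a : k) : Γ(X, ⊤) :=
  (X ↘ Spec (CommRingCat.of k)).appTop ((Scheme.ΓSpecIso (CommRingCat.of k)).inv a)

variable {k X}

/-- If every morphism `A ⟶ B` is a linear combination of finitely many, the cokernels of all of
them form a bounded family. -/
theorem isBounded_cokernels {A B : X.Modules} (hA : Coh.IsCoh A) (hB : Coh.IsCoh B) {r : ℕ}
    (ψ : Fin r → (A ⟶ B))
    (hψ : ∀ φ : A ⟶ B, ∃ c : Fin r → k, φ = ∑ l, smulEnd A (constFun k X (c l)) ≫ ψ l)
    (P : X.Modules → Prop) (hP : ∀ F, P F → ∃ φ : A ⟶ B, Nonempty (F ≅ cokernel φ)) :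
    Pic13.IsBounded k X P := by
  let R := MvPolynomial (ULift.{u} (Fin r)) k
  let T := Spec (CommRingCat.of R)
  let q : T ⟶ Spec (CommRingCat.of k) := Spec.map (CommRingCat.ofHom (algebraMap k R))
  have hq : LocallyOfFiniteType q := by
    change LocallyOfFiniteType (Spec.map (CommRingCat.ofHom (algebraMap k R)))
    rw [HasRingHomProperty.Spec_iff (P := @LocallyOfFiniteType)]
    exact RingHom.finiteType_algebraMap.2 inferInstance
  let p₁ : Pic13.prodK k X q ⟶ X := pullback.fst _ _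
  let p₂ : Pic13.prodK k X q ⟶ T := pullback.snd _ _
  let G := Scheme.Modules.pullback p₁
  let x : Fin r → Γ(Pic13.prodK k X q, ⊤) := fun l =>
    p₂.appTop ((Scheme.ΓSpecIso (CommRingCat.of R)).inv (MvPolynomial.X ⟨l⟩))
  let Φ : G.obj A ⟶ G.obj B := ∑ l, smulEnd (G.obj A) (x l) ≫ G.map (ψ l)
  have := (FlatStrata.isCoh_pullback p₁ hA).1
  refine ⟨T, q, hq, inferInstance, cokernel Φ,
    QCohMod.isCoh_cokernel Φ (FlatStrata.isCoh_pullback p₁ hB), fun F hF => ?_⟩
  obtain ⟨φ, ⟨e⟩⟩ := hP F hF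
  obtain ⟨c, rfl⟩ := hψ φ
  let ev : R →+* k := MvPolynomial.eval fun l => c l.down
  let t : Spec (CommRingCat.of k) ⟶ T := Spec.map (CommRingCat.ofHom ev)
  have ht : t ≫ q = 𝟙 _ := by
    rw [← Spec.map_comp, ← CommRingCat.ofHom_comp]
    have : ev.comp (algebraMap k R) = RingHom.id k := RingHom.ext fun a => by simp [ev, R]
    rw [this]
    exact Spec.map_id _
  refine ⟨t, ht, ⟨?_ ≪≫ e.symm⟩⟩
  let s := Pic13.sliceAt k X q t ht
  have hs : s ≫ p₁ = 𝟙 X := pullback.lift_fst _ _ _
  have hs₂ : s ≫ p₂ = (X ↘ Spec (CommRingCat.of k)) ≫ t := pullback.lift_snd _ _ _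
  let Sl := Scheme.Modules.pullback s
  let ν : G ⋙ Sl ≅ 𝟭 X.Modules := Scheme.Modules.pullbackComp s p₁ ≪≫
    Scheme.Modules.pullbackCongr hs ≪≫ Scheme.Modules.pullbackId X
  have hx : ∀ l, s.appTop (x l) = constFun k X (c l) := fun l => by
    have h1 : s.appTop (x l) = (s ≫ p₂).appTop
        ((Scheme.ΓSpecIso (CommRingCat.of R)).inv (MvPolynomial.X ⟨l⟩)) := by
      rw [Scheme.Hom.comp_appTop]; rfl
    rw [h1, hs₂, Scheme.Hom.comp_appTop, ConcreteCategory.comp_apply, constFun]
    congr 1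
    have h2 := congr($(Scheme.ΓSpecIso_inv_naturality (CommRingCat.ofHom ev)) (MvPolynomial.X ⟨l⟩))
    rw [ConcreteCategory.comp_apply, ConcreteCategory.comp_apply] at h2
    refine h2.symm.trans ?_
    simp [ev, R]
  have w : Sl.map Φ ≫ (ν.app B).hom = (ν.app A).hom ≫ ∑ l, smulEnd A (constFun k X (c l)) ≫ ψ l := by
    simp only [Φ, Functor.map_sum, Preadditive.sum_comp, Preadditive.comp_sum]
    refine Finset.sum_congr rfl fun l _ => ?_
    rw [Functor.map_comp, pullback_map_smulEnd, hx, Category.assoc,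
      show Sl.map (G.map (ψ l)) ≫ (ν.app B).hom = (ν.app A).hom ≫ ψ l from ν.hom.naturality (ψ l),
      ← Category.assoc, smulEnd_comm, Category.assoc]
    rfl
  exact PreservesCokernel.iso Sl Φ ≪≫ cokernel.mapIso _ _ (ν.app A) (ν.app B) w

end Groth.Quot
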