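import Groth.Agent.QCohMod.Killed
import Groth.Agent.QCohMod.Coherent
import Groth.Agent.QCohMod.Stalk

/-!
# Epimorphisms onto direct images along closed immersions
-/

set_option autoImplicit false

universe u

open CategoryTheory Limits AlgebraicGeometry

namespace Groth.Quot

/-- Along a closed immersion the adjunct of an epimorphism is an epimorphism. -/
theorem epi_adjunct_of_epi {Z Y : Scheme.{u}} (i : Z ⟶ Y) [IsClosedImmersion i] {A : Y.Modules}
    [A.IsQuasicoherent] {F : Z.Modules} [F.IsQuasicoherent]
    (v : A ⟶ (Scheme.Modules.pushforward i).obj F)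
    [Epi (((Scheme.Modules.pullbackPushforwardAdjunction i).homEquiv A F).symm v)] : Epi v := by
  let adj := Scheme.Modules.pullbackPushforwardAdjunction i
  let G := Scheme.Modules.pullback i
  have : ((Scheme.Modules.pushforward i).obj F).IsQuasicoherent := QCohMod.isQCoh_pushforward _ i
  have : (cokernel v).IsQuasicoherent := inferInstance
  have hk := QCohMod.killed_of_epi (cokernel.π v) (QCohMod.killed_pushforward i F)
  have := (QCohMod.isIso_unit_closedImmersion_iff i (cokernel v)).mpr hk
  have := QCohMod.isIso_counit_closedImmersion i F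
  have hepi : Epi (G.map v) := by
    have h : (adj.homEquiv A F).symm v = G.map v ≫ adj.counit.app F := Adjunction.homEquiv_counit _ _ _ _
    have : Epi (G.map v ≫ adj.counit.app F) := h ▸ ‹Epi _›
    have h2 : G.map v = (G.map v ≫ adj.counit.app F) ≫ inv (adj.counit.app F) := by simp
    rw [h2]
    infer_instance
  have hz : IsZero (G.obj (cokernel v)) :=
    (isZero_cokernel_of_epi (G.map v)).of_iso (PreservesCokernel.iso G v)
  refine Preadditive.epi_of_cokernel_zero ?_
  have : adj.unit.app (cokernel v) = 0 := Functor.map_isZero (Scheme.Modules.pushforward i) hz |>.eq_of_tgt _ _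
  rw [← cancel_mono (adj.unit.app (cokernel v)), this, comp_zero, comp_zero]

end Groth.Quot
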