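import Groth.Agent.Quot.QuotScheme
import Groth.Agent.Quot.IdealDict
import Groth.Agent.Quot.HomVanish
import Groth.Agent.Chow.Segre
import Groth.Agent.S3218
import Mathlib.AlgebraicGeometry.Morphisms.IsIso

/-!
# Nested pairs of closed subschemes of projective space
-/

set_option autoImplicit false
set_option linter.style.haveILetI false

universe u

open CategoryTheory Limits AlgebraicGeometry TopologicalSpace

noncomputable section

namespace Groth.Quot

/-- A scheme with pairwise disjoint opens covering it is their coproduct. -/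
theorem exists_sigma_iso {ι : Type u} {Y : Scheme.{u}} (P : ι → Scheme.{u}) (j : ∀ a, P a ⟶ Y)
    [∀ a, IsOpenImmersion (j a)]
    (hdisj : ∀ a b, a ≠ b → Disjoint (Set.range (j a)) (Set.range (j b)))
    (hcov : ∀ y : Y, ∃ a, y ∈ Set.range (j a)) :
    ∃ e : (∐ P) ≅ Y, ∀ a, Sigma.ι P a ≫ e.hom = j a := by
  have h1 : IsOpenImmersion (Sigma.desc j) :=
    isOpenImmersion_sigmaDesc _ j fun a b hab => hdisj a b hab
  have : IsIso (Sigma.desc j) := (isIso_iff_isOpenImmersion_and_surjective _).2 ⟨h1, ⟨fun y => by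
    obtain ⟨a, x, hx⟩ := hcov y
    refine ⟨Sigma.ι P a x, ?_⟩
    rw [← Scheme.Hom.comp_apply, Sigma.ι_desc]
    exact hx⟩⟩
  exact ⟨asIso (Sigma.desc j), fun a => Sigma.ι_desc _ _⟩

variable {S : Scheme.{u}}

/-- Closed subschemes of products of disjoint unions of projective schemes are such unions. -/
theorem exists_decomp_closed_product {H₀ : Over S} {ι : Type u} (P : ι → Scheme.{u})
    (e : (∐ P) ≅ H₀.left) (m : ι → ℕ) (c : ∀ a, P a ⟶ CohB1.ProjSpaceOver (m a) S)
    (hc : ∀ a, IsClosedImmersion (c a) ∧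
      c a ≫ CohB1.ProjSpaceOver.toBase (m a) S = Sigma.ι P a ≫ e.hom ≫ H₀.hom)
    (H : Over S) (z : H.left ⟶ pullback H₀.hom H₀.hom) [IsClosedImmersion z]
    (hz : z ≫ pullback.fst H₀.hom H₀.hom ≫ H₀.hom = H.hom) :
    ∃ (ι' : Type u) (P' : ι' → Scheme.{u}) (e' : (∐ P') ≅ H.left) (m' : ι' → ℕ)
      (c' : ∀ a, P' a ⟶ CohB1.ProjSpaceOver (m' a) S),
      ∀ a, IsClosedImmersion (c' a) ∧
        c' a ≫ CohB1.ProjSpaceOver.toBase (m' a) S = Sigma.ι P' a ≫ e'.hom ≫ H.hom := by
  let ja : ∀ a, P a ⟶ H₀.left := fun a => Sigma.ι P a ≫ e.hom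
  have hja : ∀ a, ja a ≫ H₀.hom = c a ≫ CohB1.ProjSpaceOver.toBase (m a) S := fun a =>
    (Category.assoc _ _ _).trans (hc a).2.symm
  let π : ∀ a, P a ⟶ S := fun a => c a ≫ CohB1.ProjSpaceOver.toBase (m a) S
  let J : ∀ ab : ι × ι, pullback (π ab.1) (π ab.2) ⟶ pullback H₀.hom H₀.hom := fun ab =>
    pullback.map _ _ _ _ (ja ab.1) (ja ab.2) (𝟙 S)
      ((Category.comp_id _).trans (hja ab.1).symm) ((Category.comp_id _).trans (hja ab.2).symm)
  let P' : ι × ι → Scheme.{u} := fun ab => pullback z (J ab)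
  let j' : ∀ ab, P' ab ⟶ H.left := fun ab => pullback.fst z (J ab)
  have hrange : ∀ ab, Set.range (j' ab) =
      (pullback.fst H₀.hom H₀.hom ∘ z) ⁻¹' Set.range (ja ab.1) ∩
        (pullback.snd H₀.hom H₀.hom ∘ z) ⁻¹' Set.range (ja ab.2) := fun ab => by
    rw [Scheme.Pullback.range_fst, Scheme.Pullback.range_map, Set.preimage_inter]
    rfl
  have hd : ∀ a b, a ≠ b → Disjoint (Set.range (ja a)) (Set.range (ja b)) := fun a b hab => by
    rw [Set.disjoint_left]
    rintro _ ⟨x, rfl⟩ ⟨y, hy⟩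
    have h2 : Sigma.ι P b y = Sigma.ι P a x :=
      e.hom.isOpenEmbedding.injective hy
    exact Set.disjoint_left.1 (TopologicalSpace.Opens.coe_disjoint.2
      (disjoint_opensRange_sigmaι P a b hab)) ⟨x, rfl⟩ ⟨y, h2⟩
  have hcov₀ : ∀ y : H₀.left, ∃ a, y ∈ Set.range (ja a) := fun y => by
    obtain ⟨x, hx⟩ := (sigmaOpenCover P).covers (e.inv y)
    refine ⟨_, x, ?_⟩
    change e.hom ((Sigma.ι P _) x) = y
    rw [show (Sigma.ι P _) x = e.inv y from hx, ← Scheme.Hom.comp_apply, e.inv_hom_id]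
    rfl
  obtain ⟨e', he'⟩ := exists_sigma_iso P' j' (fun ab cd hne => by
    rw [hrange, hrange, Set.disjoint_left]
    rintro y ⟨h1, h2⟩ ⟨h3, h4⟩
    have e1 : ab.1 = cd.1 := by_contra fun hh => Set.disjoint_left.1 (hd _ _ hh) h1 h3
    have e2 : ab.2 = cd.2 := by_contra fun hh => Set.disjoint_left.1 (hd _ _ hh) h2 h4
    exact hne (Prod.ext e1 e2)) fun y => by
      obtain ⟨a, ha⟩ := hcov₀ (pullback.fst H₀.hom H₀.hom (z y))
      obtain ⟨b, hb⟩ := hcov₀ (pullback.snd H₀.hom H₀.hom (z y))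
      exact ⟨(a, b), by rw [hrange]; exact ⟨ha, hb⟩⟩
  choose σ hσ hσw using fun ab : ι × ι => Groth.Chow.exists_segre_over S (m ab.1) (m ab.2)
  let cc : ∀ ab : ι × ι, pullback (π ab.1) (π ab.2) ⟶
      pullback (CohB1.ProjSpaceOver.toBase (m ab.1) S) (CohB1.ProjSpaceOver.toBase (m ab.2) S) :=
    fun ab => pullback.map _ _ _ _ (c ab.1) (c ab.2) (𝟙 S) (Category.comp_id _) (Category.comp_id _)
  have hcc : ∀ ab, IsClosedImmersion (cc ab) := fun ab =>
    MorphismProperty.pullbackMap (P := @IsClosedImmersion) (hc ab.1).1 (hc ab.2).1 rfl rfl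
  refine ⟨ι × ι, P', e', fun ab => m ab.1 * m ab.2 + m ab.1 + m ab.2,
    fun ab => pullback.snd z (J ab) ≫ cc ab ≫ σ ab, fun ab => ⟨?_, ?_⟩⟩
  · have := hcc ab
    have := hσ ab
    infer_instance
  · rw [← Category.assoc (Sigma.ι P' ab), he' ab, Category.assoc, Category.assoc, hσw]
    have h2 : cc ab ≫ pullback.fst (CohB1.ProjSpaceOver.toBase (m ab.1) S)
        (CohB1.ProjSpaceOver.toBase (m ab.2) S) = pullback.fst _ _ ≫ c ab.1 :=
      pullback.lift_fst _ _ _
    have h3 : J ab ≫ pullback.fst H₀.hom H₀.hom = pullback.fst _ _ ≫ ja ab.1 :=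
      pullback.lift_fst _ _ _
    rw [reassoc_of% h2, ← hja ab.1, ← reassoc_of% h3, ← pullback.condition_assoc, hz]

/-- Inclusions of closed subschemes through the submodules. -/
theorem subI_le_iff {Y : Scheme.{u}} {M : Y.Modules} (e : M ≅ Coh.structureModule Y)
    {I J : Y.IdealSheafData} : subI e I ≤ subI e J ↔ I ≤ J := by
  constructor
  · intro h U s hs
    rw [← mem_subI_iff e J U s]
    have h0 := (le_iff_arrow_comp_eq_zero _ _).1 h
    obtain ⟨t, ht⟩ := exists_arrow_app_eq (subI e I) (e.inv.app U.1 s) ((mem_subI_iff e I U s).2 hs)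
    rw [Mem, ← ht]
    exact congr(($h0).app U.1 t)
  · intro h
    rw [le_iff_arrow_comp_eq_zero]
    obtain ⟨θ, hθ⟩ := exists_subI_cokernel_iso e J
    rw [← cancel_mono θ.hom, Category.assoc, hθ, zero_comp]
    let f := Scheme.IdealSheafData.inclusion h
    have hf : f ≫ I.subschemeι = J.subschemeι := Scheme.IdealSheafData.inclusion_subschemeι h
    apply Scheme.Modules.hom_ext
    intro W
    ext t
    have h1 : I.subschemeι.app W (e.hom.app W ((subI e I).arrow.app W t)) = 0 :=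
      congr(($(kernelSubobject_arrow_comp (e.hom ≫ CohBase.unitPush I.subschemeι))).app W t)
    change J.subschemeι.app W (e.hom.app W ((subI e I).arrow.app W t)) = 0
    have h2 := Scheme.Hom.congr_app hf.symm W
    rw [h2, Scheme.Hom.comp_app]
    exact (congrArg (fun x => (J.subscheme.presheaf.map _) ((f.app _) x)) h1).trans
      ((congrArg _ (map_zero _)).trans (map_zero _))

end Groth.Quot
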