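import Groth.Agent.GrassRep.Basic

/-!
# Points of the free Grassmannian as submodules of coordinate vectors
-/

set_option autoImplicit false

universe u

open TensorProduct Module Groth.GrassRep

noncomputable section

namespace Groth.Quot

variable {R A B : Type u} [CommRing R] [CommRing A] [Algebra R A] [CommRing B] [Algebra R B]
  {N k : ℕ}

variable (R A N) in
/-- Vectors with coefficients in an algebra. -/
def vec : A ⊗[R] (Fin N → R) ≃ₗ[A] (Fin N → A) := TensorProduct.piScalarRight R A A (Fin N)

lemma vec_iota (f : A →ₐ[R] B) (z : A ⊗[R] (Fin N → R)) :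
    vec R B N (iota f z) = fun l => f (vec R A N z l) := by
  induction z using TensorProduct.induction_on with
  | zero => simp [funext_iff]
  | tmul a m =>
    funext l
    simp [vec, TensorProduct.piScalarRightHom, TensorProduct.piScalarRightHomBil, Algebra.smul_def]
  | add x y hx hy =>
    funext l
    simp [map_add, hx, hy]

/-- A point of the free Grassmannian as a submodule of vectors. -/
def Nvec (N₀ : Grassmannian A (A ⊗[R] (Fin N → R)) k) : Submodule A (Fin N → A) :=
  N₀.toSubmodule.map (vec R A N).toLinearMap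

lemma Nvec_map (f : A →ₐ[R] B) (N₀ : Grassmannian A (A ⊗[R] (Fin N → R)) k) :
    Nvec (Grassmannian.map f N₀) =
      Submodule.span B ((fun r l => f (r l)) '' (Nvec N₀ : Set (Fin N → A))) := by
  rw [Nvec, map_eq_span, Submodule.map_span]
  congr 1
  ext r
  constructor
  · rintro ⟨_, ⟨z, hz, rfl⟩, rfl⟩
    exact ⟨vec R A N z, ⟨z, hz, rfl⟩, (vec_iota f z).symm⟩
  · rintro ⟨_, ⟨z, hz, rfl⟩, rfl⟩
    exact ⟨iota f z, ⟨z, hz, rfl⟩, vec_iota f z⟩

lemma Nvec_injective :
    Function.Injective (Nvec : Grassmannian A (A ⊗[R] (Fin N → R)) k → Submodule A (Fin N → A)) :=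
  fun _ _ h => Grassmannian.ext (Submodule.map_injective_of_injective (vec R A N).injective h)

/-- The quotient of vectors by a point of the Grassmannian. -/
def quotVecEquiv (N₀ : Grassmannian A (A ⊗[R] (Fin N → R)) k) :
    ((A ⊗[R] (Fin N → R)) ⧸ N₀.toSubmodule) ≃ₗ[A] ((Fin N → A) ⧸ Nvec N₀) :=
  Submodule.Quotient.equiv _ _ (vec R A N) rfl

lemma fg_Nvec (N₀ : Grassmannian A (A ⊗[R] (Fin N → R)) k) : (Nvec N₀).FG := by
  have : Module.Projective A ((A ⊗[R] (Fin N → R)) ⧸ N₀.toSubmodule) := N₀.projective_quotient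
  have : Module.Projective A ((Fin N → A) ⧸ Nvec N₀) := Module.Projective.of_equiv (quotVecEquiv N₀)
  have := Module.finitePresentation_of_projective A ((Fin N → A) ⧸ Nvec N₀)
  have h := Module.FinitePresentation.fg_ker (Nvec N₀).mkQ (Submodule.mkQ_surjective _)
  rwa [Submodule.ker_mkQ] at h

/-- Comparable points of the Grassmannian are equal. -/
lemma eq_of_Nvec_le [Nontrivial A] {N₁ N₂ : Grassmannian A (A ⊗[R] (Fin N → R)) k}
    (h : Nvec N₁ ≤ Nvec N₂) : N₁ = N₂ := by
  have h' : N₁.toSubmodule ≤ N₂.toSubmodule := fun z hz => by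
    obtain ⟨z', hz', he⟩ := h (Submodule.mem_map_of_mem hz)
    rwa [(vec R A N).injective he] at hz'
  have := N₁.projective_quotient
  have := N₂.projective_quotient
  have := N₁.finite_quotient
  have hb := Module.bijective_of_surjective_of_rankAtStalk_eq
    (φ := Submodule.factor h') (Submodule.factor_surjective h') fun m _ => by
      rw [N₁.rankAtStalk_eq, N₂.rankAtStalk_eq]
  refine Grassmannian.ext (le_antisymm h' fun z hz => ?_)
  rw [← Submodule.Quotient.mk_eq_zero]
  refine hb.1 ?_
  rw [map_zero, Submodule.factor, Submodule.mapQ_apply]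
  exact (Submodule.Quotient.mk_eq_zero _).2 hz

/-- Submodules of vectors with projective quotient of rank `k` are points. -/
lemma exists_Nvec_eq (R' : Submodule A (Fin N → A)) [Module.Finite A ((Fin N → A) ⧸ R')]
    [Module.Projective A ((Fin N → A) ⧸ R')]
    (hr : ∀ p, Module.rankAtStalk (R := A) ((Fin N → A) ⧸ R') p = k) :
    ∃ N₀ : Grassmannian A (A ⊗[R] (Fin N → R)) k, Nvec N₀ = R' := by
  let P := R'.comap (vec R A N).toLinearMap
  have hP : P.map (vec R A N).toLinearMap = R' :=
    Submodule.map_comap_eq_of_surjective (vec R A N).surjective R'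
  let e : ((A ⊗[R] (Fin N → R)) ⧸ P) ≃ₗ[A] ((Fin N → A) ⧸ R') :=
    Submodule.Quotient.equiv _ _ (vec R A N) hP
  exact ⟨{ toSubmodule := P
           finite_quotient := Module.Finite.equiv e.symm
           projective_quotient := Module.Projective.of_equiv e.symm
           rankAtStalk_eq := fun p => by rw [Module.rankAtStalk_eq_of_equiv e, hr] }, hP⟩

end Groth.Quot
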