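import Groth.Agent.Quot.Functor
import Groth.Agent.Quot.Bounded
import Groth.Agent.Quot.TwistBC
import Groth.Agent.FlatStrata.Model
import Groth.Agent.Flatmor4.FpqcSubterminal

/-!
# Submodules generated by twisted sections
-/

set_option autoImplicit false

universe u

open CategoryTheory Limits AlgebraicGeometry TopologicalSpace
open Groth.PicAux (isEquivalence_tensorRightMod_of_isInvertible isInvertible_pullback homOfSection oneSec homOfSection_one hom_structure_ext pullSec pullUnit resX
  resX_self pullSec_map)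
open Groth.ThetaAlg (smulEnd smulEnd_app smulEnd_comm)

namespace Groth.Quot

variable {X S : Scheme.{u}} (f : X ⟶ S) {E Lm : X.Modules} {N : ℕ} (v : Fin N → (Lm ⟶ E))

/-- Functions on the base as functions on `X_T`. -/
noncomputable def fn (T : Over S) : Γ(T.left, ⊤) →+* Γ(PicF.XT f T, ⊤) :=
  (PicF.XTproj f T).appTop.hom

theorem XTmap_appTop_fn {T T' : Over S} (g : T' ⟶ T) (a : Γ(T.left, ⊤)) :
    (PicF.XTmap f g).appTop (fn f T a) = fn f T' (g.left.appTop a) := by
  have h := congrArg (fun m : PicF.XT f T' ⟶ T.left => m.appTop) (isPullback_XTmap f g).w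
  simp only [Scheme.Hom.comp_appTop] at h
  exact ConcreteCategory.congr_hom h a

/-- The combination of the twisted sections with the given coefficients. -/
noncomputable def comb (T : Over S) (r : Fin N → Γ(T.left, ⊤)) :
    FGA.ET f Lm T ⟶ FGA.ET f E T :=
  ∑ l, smulEnd _ (fn f T (r l)) ≫ (Scheme.Modules.pullback (pullback.fst f T.hom)).map (v l)

/-- Combinations pull back to combinations. -/
theorem comb_map {T T' : Over S} (g : T' ⟶ T) (r : Fin N → Γ(T.left, ⊤)) :
    (Scheme.Modules.pullback (PicF.XTmap f g)).map (comb f v T r) ≫ (FGA.ETiso f E g).hom =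
      (FGA.ETiso f Lm g).hom ≫ comb f v T' (fun l => g.left.appTop (r l)) := by
  have := FlatStrata.additive_pullback (PicF.XTmap f g)
  rw [comb, comb, Functor.map_sum, Preadditive.sum_comp, Preadditive.comp_sum]
  refine Finset.sum_congr rfl fun l _ => ?_
  rw [Functor.map_comp, Category.assoc, Groth.Flatmor4.map_pullback_XTmap f (v l) g,
    Groth.ThetaAlg.pullback_map_smulEnd, XTmap_appTop_fn, ← Category.assoc, ← Category.assoc,
    smulEnd_comm]

theorem comb_sum_smul {T : Over S} {ι : Type*} (s : Finset ι) (c : ι → Γ(T.left, ⊤))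
    (r : ι → Fin N → Γ(T.left, ⊤)) :
    comb f v T (∑ j ∈ s, c j • r j) = ∑ j ∈ s, smulEnd _ (fn f T (c j)) ≫ comb f v T (r j) := by
  have hz : ∀ {Y : Scheme.{u}} (M : Y.Modules), smulEnd M 0 = 0 := fun M =>
    add_eq_left.1 ((smulEnd_add M 0 0).symm.trans (by rw [add_zero]))
  classical
  induction s using Finset.induction_on with
  | empty =>
    simp only [Finset.sum_empty, comb]
    refine Finset.sum_eq_zero fun l _ => ?_
    rw [Pi.zero_apply, map_zero, hz, zero_comp]
  | insert a s has ih =>
    rw [Finset.sum_insert has, Finset.sum_insert has, ← ih]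
    simp only [comb, Preadditive.comp_sum, ← Finset.sum_add_distrib]
    refine Finset.sum_congr rfl fun l _ => ?_
    rw [Pi.add_apply, Pi.smul_apply, smul_eq_mul, map_add, map_mul, smulEnd_add,
      Groth.ThetaAlg.smulEnd_mul, Preadditive.add_comp, Category.assoc]

/-- The submodule generated by finitely many combinations. -/
noncomputable def spanSub (T : Over S) {q : ℕ} (r : Fin q → Fin N → Γ(T.left, ⊤)) :
    Subobject (FGA.ET f E T) :=
  imageSubobject (Sigma.desc fun j => comb f v T (r j))

theorem spanSub_le_iff {T : Over S} {q : ℕ} (r : Fin q → Fin N → Γ(T.left, ⊤))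
    (K : Subobject (FGA.ET f E T)) :
    spanSub f v T r ≤ K ↔ ∀ j, comb f v T (r j) ≫ cokernel.π K.arrow = 0 := by
  constructor
  · intro h j
    have h0 := (le_iff_arrow_comp_eq_zero _ _).1 h
    have h1 := congrArg (factorThruImageSubobject (Sigma.desc fun j => comb f v T (r j)) ≫ ·) h0
    have h2 : (Sigma.desc fun j => comb f v T (r j)) ≫ cokernel.π K.arrow = 0 :=
      (congrArg (· ≫ cokernel.π K.arrow) (imageSubobject_arrow_comp _)).symm.trans
        ((Category.assoc _ _ _).trans (h1.trans comp_zero))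
    have h3 := congrArg (Sigma.ι (fun _ : Fin q => FGA.ET f Lm T) j ≫ ·) h2
    simpa using h3
  · intro h
    refine imageSubobject_le _ (Sigma.desc fun j => Abelian.monoLift K.arrow _ (h j)) ?_
    exact Sigma.hom_ext _ _ fun j => by simp

/-- Generated submodules only depend on the span. -/
theorem spanSub_le_spanSub {T : Over S} {q q' : ℕ} (r : Fin q → Fin N → Γ(T.left, ⊤))
    (r' : Fin q' → Fin N → Γ(T.left, ⊤))
    (h : ∀ j, r' j ∈ Submodule.span Γ(T.left, ⊤) (Set.range r)) :
    spanSub f v T r' ≤ spanSub f v T r := by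
  rw [spanSub_le_iff]
  intro j
  obtain ⟨c, hc⟩ := (Submodule.mem_span_range_iff_exists_fun _).1 (h j)
  have h0 := (spanSub_le_iff f v r _).1 le_rfl
  rw [← hc, comb_sum_smul, Preadditive.sum_comp]
  refine Finset.sum_eq_zero fun i _ => ?_
  rw [Category.assoc, h0 i, comp_zero]

/-- Generated submodules pull back to generated submodules. -/
theorem quotPull_spanSub {T T' : Over S} (g : T' ⟶ T) {q : ℕ}
    (r : Fin q → Fin N → Γ(T.left, ⊤)) :
    FGA.quotPull f E g (spanSub f v T r) = spanSub f v T' fun j l => g.left.appTop (r j l) := by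
  let G := Scheme.Modules.pullback (PicF.XTmap f g)
  have : PreservesColimitsOfSize.{0, 0} G :=
    (Scheme.Modules.pullbackPushforwardAdjunction (PicF.XTmap f g)).leftAdjoint_preservesColimits
  refine (imageSubobject_map_image G (Sigma.desc fun j => comb f v T (r j))
    (FGA.ETiso f E g).hom).trans ?_
  refine imageSubobject_eq_of_iso ((PreservesCoproduct.iso G fun _ : Fin q => FGA.ET f Lm T) ≪≫
    Sigma.mapIso fun _ => FGA.ETiso f Lm g) _ _ ?_
  rw [← cancel_epi (PreservesCoproduct.iso G fun _ : Fin q => FGA.ET f Lm T).inv, Iso.trans_hom,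
    Category.assoc, Iso.inv_hom_id_assoc, PreservesCoproduct.inv_hom]
  refine Sigma.hom_ext _ _ fun j => ?_
  simp only [Sigma.ι_mapIso_hom_assoc, Sigma.ι_desc, ι_comp_sigmaComparison_assoc,
    ← Functor.map_comp_assoc]
  exact (comb_map f v g (r j)).symm

/-- The quotient by a generated submodule is coherent. -/
theorem isCoh_cokernel_spanSub {T : Over S} {q : ℕ} (r : Fin q → Fin N → Γ(T.left, ⊤))
    (hE : Coh.IsCoh E) (hL : Coh.IsCoh Lm) : Coh.IsCoh (cokernel (spanSub f v T r).arrow) := by
  obtain ⟨θ, -⟩ := exists_cokernel_image_iso (Sigma.desc fun j => comb f v T (r j))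
  have := (FlatStrata.isCoh_pullback (pullback.fst f T.hom) hL).1
  have : (∐ fun _ : Fin q => FGA.ET f Lm T).IsQuasicoherent :=
    (PnCoh.isCoh_sigma _ fun _ : Fin q => FlatStrata.isCoh_pullback (pullback.fst f T.hom) hL).1
  exact QCohMod.isCoh_of_iso θ
    (QCohMod.isCoh_cokernel _ (FlatStrata.isCoh_pullback (pullback.fst f T.hom) hE))

section Vanishing

variable {Y Y' : Scheme.{u}} (g : Y' ⟶ Y) {L M F : Y.Modules}

/-- The section of the twist attached to a morphism out of the dual twist. -/
noncomputable def twSec (ε : (DCoh.tensorRightMod L).obj M ≅ Coh.structureModule Y) (w : M ⟶ F) :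
    Γ((DCoh.tensorRightMod L).obj F, (⊤ : Y.Opens)) :=
  (ε.inv ≫ (DCoh.tensorRightMod L).map w).app ⊤ (oneSec Y ⊤)

/-- Combinations of pulled back morphisms vanish iff the combinations of the sections do. -/
theorem sum_smul_map_eq_zero_iff (hL : PicF.IsInvertible L)
    (ε : (DCoh.tensorRightMod L).obj M ≅ Coh.structureModule Y) {n : ℕ}
    (b : Fin n → Γ(Y', ⊤)) (w : Fin n → (M ⟶ F)) :
    ∑ l, smulEnd _ (b l) ≫ (Scheme.Modules.pullback g).map (w l) = 0 ↔
      ∑ l, b l • (show Γ((Scheme.Modules.pullback g).obj ((DCoh.tensorRightMod L).obj F),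
        (⊤ : Y'.Opens)) from pullSec g _ (twSec ε (w l))) = 0 := by
  let G := Scheme.Modules.pullback g
  let T := DCoh.tensorRightMod L
  let T' := DCoh.tensorRightMod (G.obj L)
  have := isEquivalence_tensorRightMod_of_isInvertible (isInvertible_pullback g hL)
  have : T'.Additive := DCoh.additive_tensorRightMod _
  let θ := pullTensorNat g L
  have := PicAux.isIso_pullUnit g
  let a : Coh.structureModule Y' ≅ T'.obj (G.obj M) :=
    (asIso (pullUnit g)).symm ≪≫ (Scheme.Modules.pullback g).mapIso ε.symm ≪≫ θ.app M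
  rw [← T'.map_eq_zero_iff (X := G.obj M) (Y := G.obj F), Functor.map_sum,
    ← cancel_epi a.hom, comp_zero, Preadditive.comp_sum,
    ← cancel_mono (θ.inv.app F), zero_comp, Preadditive.sum_comp]
  let t : Fin n → Γ(G.obj (T.obj F), (⊤ : Y'.Opens)) := fun l =>
    pullSec g _ (twSec ε (w l))
  have hl : ∀ l, (a.hom ≫ T'.map (smulEnd _ (b l) ≫ G.map (w l))) ≫ θ.inv.app F =
      homOfSection (b l • t l) := by
    intro l
    have h1 : T'.map (G.map (w l)) ≫ θ.inv.app F = θ.inv.app M ≫ G.map (T.map (w l)) :=
      θ.inv.naturality (w l)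
    have h2 : ε.inv ≫ T.map (w l) = homOfSection (twSec ε (w l)) :=
      hom_structure_ext (by rw [homOfSection_one]; rfl)
    rw [homOfSection_smul', Functor.map_comp, tensor_smulEnd, Category.assoc, Category.assoc, h1,
      ← Category.assoc a.hom]
    refine (congrArg (· ≫ _) (smulEnd_comm a.hom (b l)).symm).trans ?_
    rw [Category.assoc]
    congr 1
    simp only [a, Iso.trans_hom, Iso.symm_hom, asIso_inv, Category.assoc, Iso.app_hom,
      Functor.mapIso_hom, Iso.hom_inv_id_app_assoc]
    rw [← Functor.map_comp, h2, IsIso.inv_comp_eq]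
    exact (Category.comp_id _).symm.trans
      (FlatStrata.pullUnit_homOfSection g (𝟙 _) (twSec ε (w l)) (t l) rfl)
  rw [Finset.sum_congr rfl fun l _ => hl l]
  have hsum : ∑ l, homOfSection (b l • t l) = homOfSection (∑ l, b l • t l) := by
    refine hom_structure_ext ?_
    rw [homOfSection_one]
    change evalOne _ (∑ l, homOfSection (b l • t l)) = _
    rw [map_sum]
    exact Finset.sum_congr rfl fun l _ => homOfSection_one _
  rw [hsum]
  constructor
  · intro h
    have h1 := congr(($h).app ⊤ (oneSec Y' ⊤))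
    rw [homOfSection_one] at h1
    exact h1
  · intro h
    refine hom_structure_ext ?_
    rw [homOfSection_one]
    exact h

end Vanishing

end Groth.Quot
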