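import Groth.Agent.Quot.SubGlue
import Groth.Agent.Quot.Span
import Groth.Agent.Quot.GrassVec
import Groth.Agent.GrassRep.Construct

/-!
# The tautological family on the Grassmannian
-/

set_option autoImplicit false

universe u

open CategoryTheory Limits AlgebraicGeometry TopologicalSpace
open Groth.GrassRep (Pt ptMap grass pts pts_natural exists_ptMap exists_cover)

noncomputable section

namespace Groth.Quot

variable {R : Type u} [CommRing R]

/-- Elements of an algebra as functions on its spectrum. -/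
def gA (A : CommAlgCat.{u} R) : A →+* Γ((Pt A).left, ⊤) :=
  (Scheme.ΓSpecIso (CommRingCat.of A)).inv.hom

lemma gA_bijective (A : CommAlgCat.{u} R) : Function.Bijective (gA A) :=
  ConcreteCategory.bijective_of_isIso (Scheme.ΓSpecIso (CommRingCat.of A)).inv

lemma gA_natural {A B : CommAlgCat.{u} R} (φ : A ⟶ B) (a : A) :
    (ptMap φ).left.appTop (gA A a) = gA B (φ.hom a) :=
  (ConcreteCategory.congr_hom
    (Scheme.ΓSpecIso_inv_naturality (CommRingCat.ofHom φ.hom.toRingHom)) a).symm

variable {X : Scheme.{u}} (f : X ⟶ Spec (CommRingCat.of R)) {E Lm : X.Modules} {N d : ℕ}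
  (v : Fin N → (Lm ⟶ E))

/-- The submodule generated by the combinations with given coefficient vectors. -/
def kSpan (A : CommAlgCat.{u} R) {q : ℕ} (w : Fin q → Fin N → A) :
    Subobject (FGA.ET f E (Pt A)) :=
  spanSub f v (Pt A) fun j l => gA A (w j l)

lemma quotPull_kSpan {A B : CommAlgCat.{u} R} (φ : A ⟶ B) {q : ℕ} (w : Fin q → Fin N → A) :
    FGA.quotPull f E (ptMap φ) (kSpan f v A w) = kSpan f v B fun j l => φ.hom (w j l) := by
  rw [kSpan, quotPull_spanSub]
  refine congrArg (spanSub f v (Pt B)) ?_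
  funext j l
  exact gA_natural φ _

lemma gA_mem_span {A : CommAlgCat.{u} R} {s : Set (Fin N → A)} {x : Fin N → A}
    (hx : x ∈ Submodule.span A s) :
    (fun l => gA A (x l)) ∈
      Submodule.span Γ((Pt A).left, ⊤) ((fun (r : Fin N → A) l => gA A (r l)) '' s) := by
  induction hx using Submodule.span_induction with
  | mem y hy => exact Submodule.subset_span ⟨y, hy, rfl⟩
  | zero =>
    convert Submodule.zero_mem _ using 1
    funext l
    simp
  | add y z _ _ hy hz =>
    convert Submodule.add_mem _ hy hz using 1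
    funext l
    simp
  | smul a y _ hy =>
    convert Submodule.smul_mem _ (gA A a) hy using 1
    funext l
    simp

lemma kSpan_le {A : CommAlgCat.{u} R} {q q' : ℕ} (w : Fin q → Fin N → A)
    (w' : Fin q' → Fin N → A) (h : ∀ j, w' j ∈ Submodule.span A (Set.range w)) :
    kSpan f v A w' ≤ kSpan f v A w := by
  refine spanSub_le_spanSub f v _ _ fun j => ?_
  have := gA_mem_span (h j)
  rwa [← Set.range_comp] at this

lemma kSpan_congr {A : CommAlgCat.{u} R} {q q' : ℕ} (w : Fin q → Fin N → A)
    (w' : Fin q' → Fin N → A)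
    (h : Submodule.span A (Set.range w) = Submodule.span A (Set.range w')) :
    kSpan f v A w = kSpan f v A w' :=
  le_antisymm (kSpan_le f v w' w fun j => h.le (Submodule.subset_span ⟨j, rfl⟩))
    (kSpan_le f v w w' fun j => h.ge (Submodule.subset_span ⟨j, rfl⟩))

/-- The submodule attached to a point of the Grassmannian. -/
def kOf (A : CommAlgCat.{u} R) (N₀ : Module.Grassmannian A (TensorProduct R A (Fin N → R)) d) :
    Subobject (FGA.ET f E (Pt A)) :=
  kSpan f v A (Submodule.fg_iff_exists_fin_generating_family.1 (fg_Nvec N₀)).choose_spec.choose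

lemma kOf_eq {A : CommAlgCat.{u} R} (N₀ : Module.Grassmannian A (TensorProduct R A (Fin N → R)) d)
    {q : ℕ} (w : Fin q → Fin N → A) (h : Submodule.span A (Set.range w) = Nvec N₀) :
    kOf f v A N₀ = kSpan f v A w :=
  kSpan_congr f v _ _
    ((Submodule.fg_iff_exists_fin_generating_family.1 (fg_Nvec N₀)).choose_spec.choose_spec.trans
      h.symm)

lemma quotPull_kOf {A B : CommAlgCat.{u} R} (φ : A ⟶ B)
    (N₀ : Module.Grassmannian A (TensorProduct R A (Fin N → R)) d) :
    FGA.quotPull f E (ptMap φ) (kOf f v A N₀) =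
      kOf f v B (Module.Grassmannian.map φ.hom N₀) := by
  obtain ⟨q, w, hw⟩ := Submodule.fg_iff_exists_fin_generating_family.1 (fg_Nvec N₀)
  rw [kOf_eq f v N₀ w hw, quotPull_kSpan]
  refine (kOf_eq f v _ _ ?_).symm
  rw [Nvec_map, ← hw]
  refine le_antisymm (Submodule.span_le.2 ?_) (Submodule.span_le.2 ?_)
  · rintro _ ⟨j, rfl⟩
    exact Submodule.subset_span ⟨w j, Submodule.subset_span ⟨j, rfl⟩, rfl⟩
  · rintro _ ⟨x, hx, rfl⟩
    rw [SetLike.mem_coe]
    induction hx using Submodule.span_induction with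
    | mem y hy =>
      obtain ⟨j, rfl⟩ := hy
      exact Submodule.subset_span ⟨j, rfl⟩
    | zero =>
      convert Submodule.zero_mem _ using 1
      funext l
      simp
    | add y z _ _ hy hz =>
      convert Submodule.add_mem _ hy hz using 1
      funext l
      simp
    | smul a y _ hy =>
      convert Submodule.smul_mem _ (φ.hom a) hy using 1
      funext l
      simp

variable (R N d) in
/-- The free Grassmannian. -/
abbrev GG : Over (Spec (CommRingCat.of R)) := grass R (Fin N → R) d

set_option maxHeartbeats 1000000 in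
/-- The tautological family on the Grassmannian. -/
theorem exists_family (hE : Coh.IsCoh E) (hLm : Coh.IsCoh Lm) :
    ∃ K : Subobject (FGA.ET f E (GG R N d)), Coh.IsCoh (cokernel K.arrow) ∧
      ∀ (A : CommAlgCat.{u} R) (g : Pt A ⟶ GG R N d),
        FGA.quotPull f E g K = kOf f v A (pts R (Fin N → R) d A g) := by
  obtain ⟨ι, A, g₀, hopen, hcov⟩ := exists_cover (GG R N d)
  let Ki : ∀ i, {K : Subobject (FGA.ET f E (Pt (A i))) // Coh.IsCoh (cokernel K.arrow)} := fun i =>
    ⟨kOf f v (A i) (pts R (Fin N → R) d (A i) (g₀ i)), isCoh_cokernel_spanSub f v _ hE hLm⟩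
  have key : ∀ (i : ι) (W : Over (Spec (CommRingCat.of R))) (p : W ⟶ Pt (A i))
      (B : CommAlgCat.{u} R) (h : Pt B ⟶ W),
      FGA.quotPull f E h (FGA.quotPull f E p (Ki i).1) =
        kOf f v B (pts R (Fin N → R) d B (h ≫ p ≫ g₀ i)) := by
    intro i W p B h
    obtain ⟨φ, hφ⟩ := exists_ptMap (h ≫ p)
    rw [quotPull_comp, hφ, quotPull_kOf]
    refine congrArg (kOf f v B) ?_
    rw [← pts_natural, ← hφ, Category.assoc]
  obtain ⟨K, hK, hKi⟩ := exists_glue_coh f g₀ hcov Ki fun i j W p q hpq => by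
    obtain ⟨κ, B, h, hh, hhc⟩ := exists_cover W
    refine eq_of_cover f h hhc _ _ fun a => ?_
    rw [key, key, hpq]
  refine ⟨K, hK, fun B g => ?_⟩
  let W : ι → Over (Spec (CommRingCat.of R)) := fun i =>
    Over.mk (pullback.fst g.left (g₀ i).left ≫ (Pt B).hom)
  let a : ∀ i, W i ⟶ Pt B := fun i => Over.homMk (pullback.fst g.left (g₀ i).left) rfl
  let b : ∀ i, W i ⟶ Pt (A i) := fun i => Over.homMk (pullback.snd g.left (g₀ i).left) (by
    show pullback.snd g.left (g₀ i).left ≫ (Pt (A i)).hom =
      pullback.fst g.left (g₀ i).left ≫ (Pt B).hom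
    rw [← Over.w (g₀ i), ← pullback.condition_assoc, Over.w g])
  have hab : ∀ i, a i ≫ g = b i ≫ g₀ i := fun i => Over.OverMorphism.ext pullback.condition
  have : ∀ i, IsOpenImmersion (a i).left := fun i =>
    inferInstanceAs (IsOpenImmersion (pullback.fst g.left (g₀ i).left))
  refine eq_of_cover f a (fun t => ?_) _ _ fun i => ?_
  · obtain ⟨i, y, hy⟩ := hcov (g.left t)
    obtain ⟨z, hz, -⟩ := Scheme.Pullback.exists_preimage_pullback t y hy.symm
    exact ⟨i, z, hz⟩
  obtain ⟨κ, C, h, hh, hhc⟩ := exists_cover (W i)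
  refine eq_of_cover f h hhc _ _ fun c => ?_
  rw [quotPull_comp f (a i) g, hab, ← quotPull_comp f (b i) (g₀ i), hKi, key]
  obtain ⟨φ, hφ⟩ := exists_ptMap (h c ≫ a i)
  rw [quotPull_comp f (h c) (a i), hφ, quotPull_kOf]
  refine congrArg (kOf f v (C c)) ?_
  rw [← pts_natural, ← hφ, Category.assoc, hab]

end Groth.Quot
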