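import Groth.Agent.Variety2.Reg.Pn
import Groth.Agent.Calg6.LocalBertini
import Groth.Agent.QCohMod.Affine
import Groth.Agent.QCohMod.Killed
import Groth.Agent.QCohMod.FiniteType

/-!
# Linear forms avoiding the associated points of finitely many coherent modules
-/

set_option autoImplicit false

universe u

open CategoryTheory Limits AlgebraicGeometry TopologicalSpace
open Groth.PicAux Groth.Ega2Proj Groth.Variety2.Reg

namespace Groth.Quot

/-- A map of quasi-coherent modules injective on the sections over an affine open is injective on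
the stalks there. -/
theorem stalk_injective_of_app {X : Scheme.{u}} {M N : X.Modules} [M.IsQuasicoherent] [N.IsQuasicoherent]
    (φ : M ⟶ N) {U : X.Opens} (hU : IsAffineOpen U) (h : Function.Injective (φ.app U)) {x : X}
    (hx : x ∈ U) : Function.Injective ((QCohMod.stalk x).map φ) := by
  refine (injective_iff_map_eq_zero _).2 fun t ht => ?_
  obtain ⟨a, m, ha, hm⟩ := QCohMod.exists_smul_germ_eq M hU x hx t
  have hau : IsUnit (X.presheaf.germ U x hx a) := (Scheme.mem_basicOpen X a x hx).1 ha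
  have h0 : QCohMod.germ N x hx (φ.app U m) = 0 := by
    refine (QCohMod.stalk_map_germ φ x hx m).symm.trans ?_
    rw [← hm, QCohMod.stalk_map_germ_smul φ x hx a t]
    exact (congrArg (fun z : N.presheaf.stalk x => X.presheaf.germ U x hx a • z)
      (ht.trans (map_zero (QCohMod.germ N x hx)).symm)).trans
        ((QCohMod.germ_smul N x hx a 0).symm.trans (by rw [smul_zero, map_zero]))
  obtain ⟨c, hc, hcm⟩ := QCohMod.exists_smul_eq_zero_of_germ_eq_zero N hU x hx _ h0
  rw [← Scheme.Modules.Hom.app_smul] at hcm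
  have hcm' : c • m = 0 := h (hcm.trans (map_zero _).symm)
  have hcu : IsUnit (X.presheaf.germ U x hx c) := (Scheme.mem_basicOpen X c x hx).1 hc
  have h1 := congrArg (QCohMod.germ M x hx) hcm'
  rw [QCohMod.germ_smul, map_zero, hcu.smul_eq_zero, ← hm, hau.smul_eq_zero] at h1
  exact h1

/-- The ratio of two forms of degree one is invertible where both do not vanish. -/
theorem mem_basicOpen_of_mulG {R A : Type u} [CommRing R] [CommRing A] [Algebra R A]
    {𝒜 : ℕ → Submodule R A} [GradedAlgebra 𝒜] {g g' : A} (hg : g ∈ 𝒜 1) (hg' : g' ∈ 𝒜 1)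
    {V : (Proj 𝒜).Opens} (hV : ∀ x : ProjectiveSpectrum 𝒜, x ∈ V → g ∉ x.asHomogeneousIdeal)
    (c : Γ(Proj 𝒜, V)) (hc : ∀ (a b : ℤ) (h : b = a + 1) (s : Γ(Twist.twist 𝒜 a, V)),
      (mulG hg' a b h).app V s = c • (mulG hg a b h).app V s)
    (w : ProjectiveSpectrum 𝒜) (hwV : w ∈ V) (hw : g' ∉ w.asHomogeneousIdeal) :
    (w : Proj 𝒜) ∈ (Proj 𝒜).basicOpen c := by
  let V' := V ⊓ Proj.basicOpen 𝒜 g'
  have hV₂ : ∀ y : ProjectiveSpectrum 𝒜, y ∈ V' → g' ∉ y.asHomogeneousIdeal := fun y hy => hy.2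
  obtain ⟨d, hd⟩ := exists_mulG_eq_smul (𝒜 := 𝒜) hg' hg hV₂
  let s : Γ(Twist.twist 𝒜 0, V) := pwSec hg 0 (by simp) hV
  let c' := resX (Proj 𝒜) (inf_le_left : V' ≤ V) c
  have h1 : (mulG hg' 0 1 rfl).app V' (res _ inf_le_left s) =
      c' • (mulG hg 0 1 rfl).app V' (res _ inf_le_left s) := by
    rw [app_res, app_res, hc 0 1 rfl, res_smul]
  have h2 : (mulG hg 0 1 rfl).app V' (res _ inf_le_left s) =
      res _ inf_le_left (pwSec (N := (1 : ℤ)) hg 1 (by simp) hV) :=
    (app_res _ _ s).trans (congrArg _ (mulG_pwSec hg rfl hV))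
  have h3 : d * c' = 1 := by
    refine (gen_pwSec (N := (1 : ℤ)) hg 1 (by simp) hV).smul_inj inf_le_left ?_
    rw [one_smul, ← h2, mul_smul, ← h1]
    exact (hd 0 1 rfl _).symm
  refine (Scheme.mem_basicOpen _ c w hwV).2 ?_
  have h4 := (IsUnit.of_mul_eq_one_right _ h3).map
    ((Proj 𝒜).presheaf.germ V' w ⟨hwV, hw⟩).hom
  exact (TopCat.Presheaf.germ_res_apply (Proj 𝒜).presheaf (homOfLE (inf_le_left : V' ≤ V)) w
    ⟨hwV, hw⟩ c) ▸ h4

variable {n : ℕ} {k : Type u} [Field k]

/-- The standard chart of the `t`-th coordinate. -/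
noncomputable abbrev chart (n : ℕ) (k : Type u) [Field k] (t : Fin (n + 1)) :
    (Proj (CohB1.polyGrading n k)).Opens :=
  Proj.basicOpen (CohB1.polyGrading n k) (MvPolynomial.X t)

lemma isAffineOpen_chart (t : Fin (n + 1)) : IsAffineOpen (chart n k t) :=
  Proj.isAffineOpen_basicOpen _ _ (X_mem n k t) one_pos

lemma exists_mem_chart (x : Proj (CohB1.polyGrading n k)) : ∃ t, x ∈ chart n k t := by
  obtain ⟨i, hi⟩ := Opens.mem_iSup.mp ((PnCoh.isAcyclicCover_stdOpen n k).cover.ge
    (show x ∈ (⊤ : (Proj (CohB1.polyGrading n k)).Opens) from trivial))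
  exact ⟨i.down, hi⟩

/-- Over an infinite field some linear form is a nonzerodivisor on finitely many coherent
modules. -/
theorem exists_regular_linForm [Infinite k] {r : ℕ} (M : Fin r → (Proj (CohB1.polyGrading n k)).Modules)
    (hM : ∀ j, Coh.IsCoh (M j)) :
    ∃ (g : MvPolynomial (Fin (n + 1)) k) (hg : g ∈ CohB1.polyGrading n k 1),
      ∀ (j : Fin r) (a b : ℤ) (h : b = a + 1),
        Mono (tmulG (𝒜 := CohB1.polyGrading n k) (M j) hg a b h) := by
  have hLN : IsLocallyNoetherian (Proj (CohB1.polyGrading n k)) :=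
    PnCoh.isLocallyNoetherian_projSpace n k
  have hN : ∀ t, IsNoetherianRing Γ(Proj (CohB1.polyGrading n k), chart n k t) := fun t =>
    IsLocallyNoetherian.component_noetherian ⟨_, isAffineOpen_chart t⟩
  have hfin : ∀ j t, Module.Finite Γ(Proj (CohB1.polyGrading n k), chart n k t) Γ(M j, chart n k t) := fun j t =>
    have := (hM j).1
    QCohMod.finite_sections _ (hM j).2 (isAffineOpen_chart t)
  let B : Set (Proj (CohB1.polyGrading n k)) := ⋃ jt : Fin r × Fin (n + 1),
    (fun p => (isAffineOpen_chart jt.2).fromSpec p) ''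
      (PrimeSpectrum.asIdeal ⁻¹' associatedPrimes Γ(Proj (CohB1.polyGrading n k), chart n k jt.2)
        Γ(M jt.1, chart n k jt.2))
  have hB : B.Finite := Set.finite_iUnion fun jt => by
    have := hN jt.2
    have := hfin jt.1 jt.2
    exact ((associatedPrimes.finite _ _).preimage fun _ _ _ _ h => PrimeSpectrum.ext h).image _
  let P := (CohB1.polyGrading n k) 1
  let idl : Proj (CohB1.polyGrading n k) → Ideal (MvPolynomial (Fin (n + 1)) k) := fun x =>
    (show ProjectiveSpectrum (CohB1.polyGrading n k) from x).asHomogeneousIdeal.toIdeal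
  let bad : Proj (CohB1.polyGrading n k) → Submodule k P := fun x =>
    ((idl x).restrictScalars k).comap P.subtype
  obtain ⟨⟨g, hg⟩, hgB⟩ := Calg6.LocalBertini.exists_forall_notMem (bad '' B) (hB.image _) (by
    rintro _ ⟨x, -, rfl⟩ htop
    obtain ⟨t, ht⟩ := exists_mem_chart x
    exact ht ((htop.ge (Submodule.mem_top (x := ⟨_, X_mem n k t⟩)) :)))
  refine ⟨g, hg, fun j a b h => (QCohMod.mono_iff_stalk _).2 fun x => ?_⟩
  have hq := (hM j).1
  have qa : (tw (𝒜 := CohB1.polyGrading n k) (M j) a).IsQuasicoherent := @isQCoh_fT n k _ (M j) hq a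
  have qb : (tw (𝒜 := CohB1.polyGrading n k) (M j) b).IsQuasicoherent := @isQCoh_fT n k _ (M j) hq b
  obtain ⟨t, ht⟩ := exists_mem_chart x
  let V := chart n k t
  have hV : ∀ y : ProjectiveSpectrum (CohB1.polyGrading n k), y ∈ V →
      (MvPolynomial.X t : MvPolynomial (Fin (n + 1)) k) ∉ y.asHomogeneousIdeal := fun y hy => hy
  refine @stalk_injective_of_app _ _ _ qa qb _ _ (isAffineOpen_chart t)
    ((injective_iff_map_eq_zero _).2 fun z hz => ?_) x ht
  obtain ⟨c, hc⟩ := exists_mulG_eq_smul (𝒜 := CohB1.polyGrading n k) (X_mem n k t) hg hV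
  have ga := gen_pwSec (N := a) (X_mem n k t) a (by simp) hV
  have gb := gen_pwSec (N := b) (X_mem n k t) b (by simp) hV
  obtain ⟨y, rfl⟩ := (tmulSec_bijective (M := M j) (le_refl V) ga).2 z
  simp only [res_self] at hz ⊢
  replace hz := (tmulG_tmulSec (𝒜 := CohB1.polyGrading n k) (M j) hg h (U := V) y _).symm.trans hz
  rw [hc a b h, mulG_pwSec (X_mem n k t) h hV] at hz
  have hy : c • y = 0 := by
    refine (tmulSec_bijective (M := M j) (le_refl V) gb).1 ?_
    simp only [res_self]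
    refine ((tmulSec_smul_left c y _).trans ((tmulSec_smul_right c y _).symm.trans hz)).trans ?_
    exact (tmulSec_zero_left _).symm
  suffices y = 0 by rw [this]; exact tmulSec_zero_left _
  by_contra hne
  have hmem : c ∈ {r : Γ(Proj (CohB1.polyGrading n k), V) | ∃ y : Γ(M j, V), y ≠ 0 ∧ r • y = 0} := ⟨y, hne, hy⟩
  have := hN t
  rw [← biUnion_associatedPrimes_eq_zero_divisors] at hmem
  obtain ⟨𝔭, h𝔭, hc𝔭⟩ := Set.mem_iUnion₂.1 hmem
  let p : Spec Γ(Proj (CohB1.polyGrading n k), V) := ⟨𝔭, h𝔭.isPrime⟩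
  let w := (isAffineOpen_chart t).fromSpec p
  have hwV : w ∈ V := by
    rw [← SetLike.mem_coe, ← (isAffineOpen_chart t).range_fromSpec]
    exact ⟨p, rfl⟩
  have hgw : g ∉ (show ProjectiveSpectrum (CohB1.polyGrading n k) from w).asHomogeneousIdeal :=
    hgB _ ⟨w, Set.mem_iUnion.2 ⟨(j, t), ⟨p, h𝔭, rfl⟩⟩, rfl⟩
  have hw : w ∈ (Proj (CohB1.polyGrading n k)).basicOpen c :=
    mem_basicOpen_of_mulG (X_mem n k t) hg hV c hc w hwV hgw
  have hw' : p ∈ (isAffineOpen_chart t).fromSpec ⁻¹ᵁ (Proj (CohB1.polyGrading n k)).basicOpen c := hw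
  rw [IsAffineOpen.fromSpec_preimage_basicOpen] at hw'
  exact hw' hc𝔭

end Groth.Quot
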