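import Groth.Agent.Quot.LinearForm
import Groth.Agent.Variety2.Reg.Seq
import Groth.Agent.S16627
import Groth.Agent.EulerDeg.Coherent
import Groth.Agent.PnCoh.Euler
import Groth.Agent.HilbStab.Basic
import Mathlib.CategoryTheory.Abelian.CommSq

/-!
# Mumford's uniform regularity bound
-/

set_option autoImplicit false

universe u

open CategoryTheory Limits AlgebraicGeometry
open Groth.PicAux Groth.Variety2.Reg

namespace Groth.Quot

/-- The backward difference of a function on the integers. -/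
def sdiff (f : ℤ → ℤ) : ℤ → ℤ := fun t => f t - f (t - 1)

/-- Mumford's bound for the regularity of a subsheaf of a rank `p` free module cut down to dimension
`d`, in terms of its Euler characteristics. -/
def regBound (p : ℕ) : ℕ → (ℤ → ℤ) → ℤ
  | 0, f => max 0 ((p : ℤ) - f (-1))
  | d + 1, f =>
    regBound p d (sdiff f) + max 0 ((p : ℤ) * Ring.choose (regBound p d (sdiff f) - 1 + ((d + 1 : ℕ) : ℤ)) (d + 1) -
      f (regBound p d (sdiff f) - 1))

lemma regBound_nonneg (p : ℕ) : ∀ (d : ℕ) (f : ℤ → ℤ), 0 ≤ regBound p d f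
  | 0, _ => le_max_left _ _
  | d + 1, f => add_nonneg (regBound_nonneg p d _) (le_max_left _ _)

/-- Global sections of a submodule form a subspace. -/
lemma finrank_h0_le (k : Type u) [Field k] (X : Scheme.{u}) [X.Over (Spec (CommRingCat.of k))]
    {S : ShortComplex X.Modules} (hS : S.ShortExact) (hfin : Module.Finite k (Coh.HH X S.X₂ 0)) :
    Module.finrank k (Coh.HH X S.X₁ 0) ≤ Module.finrank k (Coh.HH X S.X₂ 0) :=
  have := hfin
  LinearMap.finrank_le_finrank_of_injective (EulerDeg.injective_zero k hS)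

variable {n : ℕ} {k : Type u} [Field k]

instance : IsProper (CohB1.ProjSpace n k ↘ Spec (CommRingCat.of k)) :=
  inferInstanceAs (IsProper (CohB1.ProjSpace.toSpec n k))

/-- The Euler characteristic of a twist. -/
noncomputable abbrev chiT (F : (CohB1.ProjSpace n k).Modules) (t : ℤ) : ℤ :=
  Curv2.euler k (CohB1.ProjSpace n k) (fT F t)

lemma finCoh_fT {F : (CohB1.ProjSpace n k).Modules} (hF : Coh.IsCoh F) (t : ℤ) :
    EulerDeg.FinCoh k (fT F t) :=
  EulerDeg.finCoh k _ (isCoh_fT F hF t)

lemma mReg_congr {F G : (CohB1.ProjSpace n k).Modules} (e : F ≅ G) {m : ℤ}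
    (h : Curv2.IsMRegular k n F m) : Curv2.IsMRegular k n G m := fun i hi hn =>
  subsingleton_of_iso k ((DCoh.tensorRightMod (Twist.twistProjSpace n k (m - i))).mapIso e) (h i hi hn)

lemma chiT_congr {F G : (CohB1.ProjSpace n k).Modules} (e : F ≅ G) (t : ℤ) : chiT F t = chiT G t :=
  EulerDeg.euler_congr k ((DCoh.tensorRightMod (Twist.twistProjSpace n k t)).mapIso e)

/-- Regularity zero and vanishing Euler characteristics force a module to vanish. -/
lemma isZero_of_chiT_eq_zero {F : (CohB1.ProjSpace n k).Modules} (hF : Coh.IsCoh F)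
    (hreg : Curv2.IsMRegular k n F 0) (hχ : chiT F 0 = 0) : IsZero F := by
  have := hF.1
  have h0 : Module.finrank k (Coh.HH (CohB1.ProjSpace n k) (fT F 0) 0) = 0 := by
    have h1 : chiT F 0 = (Module.finrank k (Coh.HH (CohB1.ProjSpace n k) (fT F 0) 0) : ℤ) := by
      refine (EulerDeg.euler_eq_sum (k := k) (N := 1) fun q hq => vanish_of_mReg F hreg hq (by omega)).trans ?_
      simp
    omega
  have := (finCoh_fT hF 0).finite 0
  have hs : Subsingleton (Coh.HH (CohB1.ProjSpace n k) (fT F 0) 0) := Module.finrank_zero_iff.1 h0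
  haveI : Subsingleton (CohFin.HA (CohB1.ProjSpace n k ↘ Spec (CommRingCat.of k)) (fT F 0) 0) := hs
  have hg : DetByGlobal (fT F 0) := detByGlobal_of_mReg F hF hreg le_rfl
  have hs' : Subsingleton Γ(fT F 0, ⊤) :=
    (CohFin.equivSections (CohB1.ProjSpace n k ↘ Spec (CommRingCat.of k)) (fT F 0)).symm.toEquiv.subsingleton
  exact (HilbStab.isZero_of_isGloballyGenerated hg.isGloballyGenerated hs').of_iso
    (nonempty_fT_zero F).some.symm

/-- A map of exact sequences with injective third component is cartesian on the left. -/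
lemma isPullback_of_exact {C : Type*} [Category C] [Abelian C] {S₁ S₂ : ShortComplex C} (φ : S₁ ⟶ S₂)
    (h₁ : S₁.Exact) [Mono S₁.f] [Mono S₂.f] [Mono φ.τ₃] :
    IsPullback φ.τ₁ S₁.f S₂.f φ.τ₂ := by
  refine IsPullback.of_isLimit' ⟨φ.comm₁₂⟩ (PullbackCone.isLimitAux' _ fun s => ?_)
  have key : s.snd ≫ S₁.g = 0 := by
    rw [← cancel_mono φ.τ₃, zero_comp, Category.assoc, ← φ.comm₂₃, ← Category.assoc, ← s.condition,
      Category.assoc, S₂.zero, comp_zero]
  let l := h₁.lift s.snd key
  have hl : l ≫ S₁.f = s.snd := h₁.lift_f _ _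
  refine ⟨l, ?_, hl, fun {m} _ h₂ => (cancel_mono S₁.f).1 (h₂.trans hl.symm)⟩
  change l ≫ φ.τ₁ = s.fst
  rw [← cancel_mono S₂.f, Category.assoc, φ.comm₁₂, ← Category.assoc, hl, s.condition]

section Step

variable {F E : (CohB1.ProjSpace n k).Modules} (ι : F ⟶ E)
  {g : MvPolynomial (Fin (n + 1)) k} (hg : g ∈ CohB1.polyGrading n k 1)

/-- Multiplication by a linear form as a map `F(-1) ⟶ F(0)`. -/
noncomputable abbrev cut (F : (CohB1.ProjSpace n k).Modules) : fT F (-1) ⟶ fT F 0 :=
  tmulG (𝒜 := CohB1.polyGrading n k) F hg (-1) 0 (by norm_num)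

lemma cut_natural : cut hg F ≫ (DCoh.tensorRightMod (Twist.twistProjSpace n k 0)).map ι =
    (DCoh.tensorRightMod (Twist.twistProjSpace n k (-1))).map ι ≫ cut hg E :=
  tmulG_natural (𝒜 := CohB1.polyGrading n k) ι hg (-1) 0 (by norm_num)

/-- The map induced on the hyperplane sections. -/
noncomputable def cutMap : cokernel (cut hg F) ⟶ cokernel (cut hg E) :=
  cokernel.map _ _ ((DCoh.tensorRightMod (Twist.twistProjSpace n k (-1))).map ι)
    ((DCoh.tensorRightMod (Twist.twistProjSpace n k 0)).map ι)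
    (cut_natural ι hg)

theorem mono_cutMap [Mono ι] [Mono (cut hg (cokernel ι))] : Mono (cutMap ι hg) := by
  let T := fun a : ℤ => DCoh.tensorRightMod (Twist.twistProjSpace n k a)
  let S := ShortComplex.mk ι (cokernel.π ι) (cokernel.condition ι)
  have hse := fun a : ℤ => shortExact_fT (n := n) (k := k) (cokernel_shortExact ι) a
  let φ : S.map (T (-1)) ⟶ S.map (T 0) :=
    { τ₁ := cut hg F
      τ₂ := cut hg E
      τ₃ := cut hg (cokernel ι)
      comm₁₂ := cut_natural ι hg
      comm₂₃ := cut_natural (cokernel.π ι) hg }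
  have : Mono (S.map (T (-1))).f := (hse (-1)).mono_f
  have : Mono (S.map (T 0)).f := (hse 0).mono_f
  have : Mono φ.τ₃ := ‹Mono (cut hg (cokernel ι))›
  have sq := isPullback_of_exact φ (hse (-1)).exact
  exact Abelian.mono_cokernel_map_of_isPullback sq

theorem chiT_cokernel_cut [Mono (cut hg F)] (hF : Coh.IsCoh F) (t : ℤ) :
    chiT (cokernel (cut hg F)) t = sdiff (chiT F) t := by
  have := (isCoh_fT F hF (-1)).1
  have hC : Coh.IsCoh (cokernel (cut hg F)) := QCohMod.isCoh_cokernel _ (isCoh_fT F hF 0)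
  have h := EulerDeg.euler_add (k := k) (shortExact_fT (cokernel_shortExact (cut hg F)) t)
    (finCoh_fT (isCoh_fT F hF (-1)) t) (finCoh_fT hC t)
  change chiT (fT F 0) t = chiT (fT F (-1)) t + chiT (cokernel (cut hg F)) t at h
  have h0 : chiT (fT F 0) t = chiT F t :=
    EulerDeg.euler_congr k (nonempty_twist_twist F 0 t t (zero_add t)).some
  have h1 : chiT (fT F (-1)) t = chiT F (t - 1) :=
    EulerDeg.euler_congr k (nonempty_twist_twist F (-1) t (t - 1) (by ring)).some
  rw [h0, h1] at h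
  unfold sdiff
  linarith

/-- The induction step: regularity of a hyperplane section gives a bound for the module. -/
theorem mReg_step [Mono (cut hg F)] [Mono ι] (hF : Coh.IsCoh F) (hE : Coh.IsCoh E)
    (hE0 : Curv2.IsMRegular k n E 0) {m : ℤ} (hm0 : 0 ≤ m)
    (hm : Curv2.IsMRegular k n (cokernel (cut hg F)) m) :
    Curv2.IsMRegular k n F (m + max 0 (chiT E (m - 1) - chiT F (m - 1))) := by
  let ιF := cut hg F ≫ (nonempty_fT_zero F).some.hom
  have hG : Curv2.IsMRegular k n (cokernel ιF) m := mReg_congr (cokernelCompIsIso _ _).symm hm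
  obtain ⟨h2, -, h1⟩ := cokernel_twist_facts hF ιF hG
  have := hE.1
  have hh : (Module.finrank k (Coh.HH (CohB1.ProjSpace n k) (fT F (m - 1)) 1) : ℤ) ≤
      max 0 (chiT E (m - 1) - chiT F (m - 1)) := by
    have hFχ : chiT F (m - 1) = (Module.finrank k (Coh.HH _ (fT F (m - 1)) 0) : ℤ) -
        Module.finrank k (Coh.HH (CohB1.ProjSpace n k) (fT F (m - 1)) 1) :=
      EulerDeg.euler_eq_sub fun q hq => h2 q (m - 1) hq (by omega)
    have hEχ : chiT E (m - 1) = (Module.finrank k (Coh.HH (CohB1.ProjSpace n k) (fT E (m - 1)) 0) : ℤ) := by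
      refine (EulerDeg.euler_eq_sum (k := k) (N := 1) fun q hq =>
        vanish_of_mReg E hE0 hq (by omega)).trans ?_
      simp
    have hle : Module.finrank k (Coh.HH _ (fT F (m - 1)) 0) ≤
        Module.finrank k (Coh.HH (CohB1.ProjSpace n k) (fT E (m - 1)) 0) := by
      exact finrank_h0_le k (CohB1.ProjSpace n k)
        (S := (ShortComplex.mk ι (cokernel.π ι) (cokernel.condition ι)).map
          (DCoh.tensorRightMod (Twist.twistProjSpace n k (m - 1))))
        (shortExact_fT (cokernel_shortExact ι) (m - 1)) ((finCoh_fT hE (m - 1)).finite 0)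
    have := le_max_right 0 (chiT E (m - 1) - chiT F (m - 1))
    omega
  intro i hi _
  rcases eq_or_lt_of_le hi with rfl | hi'
  · exact h1 _ (by omega)
  · exact h2 i _ hi' (by have := le_max_left 0 (chiT E (m - 1) - chiT F (m - 1)); omega)

end Step

/-- Mumford's bound over an infinite field, for subsheaves of a module with the Euler
characteristics of a free module on a linear subspace of dimension `d`. -/
theorem mReg_of_sub [Infinite k] (p : ℕ) : ∀ (d : ℕ) {F E : (CohB1.ProjSpace n k).Modules}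
    (ι : F ⟶ E) [Mono ι], Coh.IsCoh F → Coh.IsCoh E → Curv2.IsMRegular k n E 0 →
    (∀ t : ℤ, chiT E t = (p : ℤ) * Ring.choose (t + (d : ℤ)) d) →
    Curv2.IsMRegular k n F (regBound p d (chiT F)) := by
  intro d
  induction d with
  | zero =>
    intro F E ι _ hF hE hE0 hχ
    have := hE.1
    have hQ : Coh.IsCoh (cokernel ι) := have := hF.1; QCohMod.isCoh_cokernel ι hE
    obtain ⟨g, hg, hgm⟩ := exists_regular_linForm ![F, E, cokernel ι]
      (Fin.forall_fin_succ.2 ⟨hF, Fin.forall_fin_succ.2 ⟨hE, Fin.forall_fin_succ.2 ⟨hQ, finZeroElim⟩⟩⟩)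
    have : Mono (cut hg F) := hgm 0 _ _ _
    have : Mono (cut hg E) := hgm 1 _ _ _
    have : Mono (cut hg (cokernel ι)) := hgm 2 _ _ _
    have := (isCoh_fT E hE (-1)).1
    have := (isCoh_fT F hF (-1)).1
    have hE' : Coh.IsCoh (cokernel (cut hg E)) := QCohMod.isCoh_cokernel _ (isCoh_fT E hE 0)
    have hreg' : Curv2.IsMRegular k n (cokernel (cut hg E)) 0 :=
      mReg_congr (cokernelCompIsIso _ _) (Groth.Agent.S16627.result k n E hE 0 hE0
        (cut hg E ≫ (nonempty_fT_zero E).some.hom))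
    have hz : IsZero (cokernel (cut hg E)) := isZero_of_chiT_eq_zero hE' hreg' (by
      rw [chiT_cokernel_cut hg hE, sdiff, hχ, hχ]
      simp)
    have := mono_cutMap ι hg
    have hz' : IsZero (cokernel (cut hg F)) := IsZero.of_mono (cutMap ι hg) hz
    have h := mReg_step ι hg hF hE hE0 le_rfl (mReg_congr (hz.iso hz') hreg')
    rw [zero_add, hχ] at h
    simpa [regBound] using h
  | succ d ih =>
    intro F E ι _ hF hE hE0 hχ
    have := hE.1
    have hQ : Coh.IsCoh (cokernel ι) := have := hF.1; QCohMod.isCoh_cokernel ι hE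
    obtain ⟨g, hg, hgm⟩ := exists_regular_linForm ![F, E, cokernel ι]
      (Fin.forall_fin_succ.2 ⟨hF, Fin.forall_fin_succ.2 ⟨hE, Fin.forall_fin_succ.2 ⟨hQ, finZeroElim⟩⟩⟩)
    have : Mono (cut hg F) := hgm 0 _ _ _
    have : Mono (cut hg E) := hgm 1 _ _ _
    have : Mono (cut hg (cokernel ι)) := hgm 2 _ _ _
    have := (isCoh_fT E hE (-1)).1
    have := (isCoh_fT F hF (-1)).1
    have hE' : Coh.IsCoh (cokernel (cut hg E)) := QCohMod.isCoh_cokernel _ (isCoh_fT E hE 0)
    have hF' : Coh.IsCoh (cokernel (cut hg F)) := QCohMod.isCoh_cokernel _ (isCoh_fT F hF 0)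
    have hreg' : Curv2.IsMRegular k n (cokernel (cut hg E)) 0 :=
      mReg_congr (cokernelCompIsIso _ _) (Groth.Agent.S16627.result k n E hE 0 hE0
        (cut hg E ≫ (nonempty_fT_zero E).some.hom))
    have hχ' : ∀ t : ℤ, chiT (cokernel (cut hg E)) t = (p : ℤ) * Ring.choose (t + (d : ℤ)) d := fun t => by
      rw [chiT_cokernel_cut hg hE, sdiff, hχ, hχ, ← mul_sub,
        show t + ((d + 1 : ℕ) : ℤ) = (t + (d : ℤ)) + 1 by push_cast; ring,
        show t - 1 + ((d + 1 : ℕ) : ℤ) = t + (d : ℤ) by push_cast; ring, Ring.choose_succ_succ]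
      ring
    have := mono_cutMap ι hg
    have h := ih (cutMap ι hg) hF' hE' hreg' hχ'
    rw [show chiT (cokernel (cut hg F)) = sdiff (chiT F) from funext (chiT_cokernel_cut hg hF)] at h
    have h' := mReg_step ι hg hF hE hE0 (regBound_nonneg p d _) h
    rw [hχ] at h'
    exact h'

end Groth.Quot
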