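import Groth.Agent.Quot.Bounded

/-!
# Regularity of quotients of sums of twists
-/

set_option autoImplicit false

universe u

open CategoryTheory Limits AlgebraicGeometry
open Groth.PicAux Groth.Variety2.Reg

namespace Groth.Quot

variable {n : ℕ} {k : Type u} [Field k]

/-- Euler characteristics as sums over the possible degrees. -/
lemma chiT_eq_eulerCharLE {F : (CohB1.ProjSpace n k).Modules} (hF : F.IsQuasicoherent) (t : ℤ) :
    chiT F t = FGA.eulerCharLE k (CohB1.ProjSpace n k) (fT F t) n := by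
  have := isQCoh_fT F t
  exact EulerDeg.euler_eq_sum fun q hq => PnCoh.subsingleton_HH_of_lt n k _ (by omega)

/-- The bound for the regularity of quotients of `O(ν)^p` with given Euler characteristics. -/
def quotBound (n p : ℕ) (ν : ℤ) (f : ℤ → ℤ) : ℤ :=
  regBound p n (fun t => (p : ℤ) * Ring.choose (t + (n : ℤ)) n - f (t - ν)) - ν

/-- Quotients of `O(ν)^p` are regular in terms of their Euler characteristics, with regular kernels. -/
theorem mReg_quot (p : ℕ) (ν : ℤ) {F : (CohB1.ProjSpace n k).Modules} (hF : Coh.IsCoh F)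
    (π : (∐ fun _ : Fin p => Twist.twistProjSpace n k ν) ⟶ F) [Epi π] :
    Curv2.IsMRegular k n F (quotBound n p ν (chiT F)) ∧
      Curv2.IsMRegular k n (kernel π) (quotBound n p ν (chiT F)) := by
  have := PnCoh.isLocallyNoetherian_projSpace n k
  let A := ∐ fun _ : Fin p => Twist.twistProjSpace n k ν
  have hA : Coh.IsCoh A := PnCoh.isCoh_sigma _ fun _ => PnCoh.isCoh_twist n k _
  have := hF.1
  have hK : Coh.IsCoh (kernel π) := QCohMod.isCoh_kernel π hA
  let T := DCoh.tensorRightMod (Twist.twistProjSpace n k (-ν))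
  have := isEquivalence_tensorRightMod_of_isInvertible (isInvertible_tw (n := n) (k := k) (-ν))
  obtain ⟨e⟩ : Nonempty (T.obj (Twist.twistProjSpace n k ν) ≅ Coh.structureModule _) := by
    obtain ⟨e⟩ := Ega2Proj.nonempty_tensor_iso (gen_one n k) ν (-ν)
    exact ⟨e ≪≫ eqToIso (congrArg (Twist.twist (CohB1.polyGrading n k)) (add_neg_cancel ν)) ≪≫
      nonempty_twist_zero.some⟩
  have eA : T.obj A ≅ FlatMod.freeMod (CohB1.ProjSpace n k) p :=
    PreservesCoproduct.iso _ _ ≪≫ Sigma.mapIso fun _ => e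
  have hseq := shortExact_fT (kernel_shortExact π) (-ν)
  have : Mono (T.map (kernel.ι π)) := hseq.mono_f
  have hmono := @mono_comp _ _ _ _ _ (T.map (kernel.ι π)) this eA.hom inferInstance
  have h1 := @mReg_of_sub_free n k _ p (fT (kernel π) (-ν)) (isCoh_fT (kernel π) hK (-ν))
    (T.map (kernel.ι π) ≫ eA.hom) hmono
  have hχ : chiT (fT (kernel π) (-ν)) =
      fun t => (p : ℤ) * Ring.choose (t + (n : ℤ)) n - chiT F (t - ν) := funext fun t => by
    have h2 := EulerDeg.euler_add (k := k) (shortExact_fT hseq t)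
      (finCoh_fT (isCoh_fT (kernel π) hK _) t) (finCoh_fT (isCoh_fT F hF _) t)
    change chiT (T.obj A) t = chiT (fT (kernel π) (-ν)) t + chiT (fT F (-ν)) t at h2
    rw [chiT_congr eA, chiT_freeMod] at h2
    have h3 : chiT (fT F (-ν)) t = chiT F (t - ν) :=
      EulerDeg.euler_congr k (nonempty_twist_twist F (-ν) t (t - ν) (by ring)).some
    omega
  rw [hχ] at h1
  let R := regBound p n (fun t => (p : ℤ) * Ring.choose (t + (n : ℤ)) n - chiT F (t - ν))
  have hR : (0 : ℤ) ≤ R := regBound_nonneg _ _ _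
  have := (isCoh_fT (kernel π) hK (-ν)).1
  have := (isCoh_freeMod (n := n) (k := k) p).1
  have hA' : ∀ (q : ℕ) (r : ℤ), 1 ≤ q → R - q ≤ r → Subsingleton (Coh.HH _ (fT (T.obj A) r) q) :=
    fun q r hq hr => subsingleton_of_iso k
      ((DCoh.tensorRightMod (Twist.twistProjSpace n k r)).mapIso eA).symm
      (vanish_of_mReg _ (mReg_freeMod p) hq (by omega))
  have h3 : ∀ i : ℕ, 1 ≤ i → Subsingleton (Coh.HH _ (fT (fT F (-ν)) (R - i)) i) := fun i hi =>
    subsingleton_right k (shortExact_fT hseq (R - i)) (hA' i _ hi le_rfl)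
      (vanish_of_mReg _ h1 (q := i + 1) (by omega) (by push_cast; omega))
  refine ⟨fun i hi hn => ?_, fun i hi hn => ?_⟩
  · exact subsingleton_of_iso k
      (nonempty_twist_twist F (-ν) (R - i) (quotBound n p ν (chiT F) - i)
        (by simp only [quotBound, R]; ring)).some (h3 i hi)
  · exact subsingleton_of_iso k
      (nonempty_twist_twist (kernel π) (-ν) (R - i) (quotBound n p ν (chiT F) - i)
        (by simp only [quotBound, R]; ring)).some (h1 i hi hn)

/-- Every coherent module is regular somewhere. -/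
theorem exists_mReg {E : (CohB1.ProjSpace n k).Modules} (hE : Coh.IsCoh E) :
    ∃ m : ℤ, Curv2.IsMRegular k n E m := by
  obtain ⟨d₀, hd₀⟩ := PnCoh.exists_subsingleton_twistBy n k E hE
  exact ⟨d₀ + n, fun i hi hn => hd₀ _ (by omega) i (by omega)⟩

end Groth.Quot
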