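import Groth.Agent.Quot.Functor
import Groth.Agent.QCohMod.SubMod
import Groth.Agent.KTheory.PerfCoh
import Groth.Agent.Flatmor4.FlatModAffine

/-!
# Gluing families of quotients along an open cover of the base
-/

set_option autoImplicit false

universe u

open CategoryTheory Limits AlgebraicGeometry TopologicalSpace
open Groth.QCohMod (res res_res res_self res_app SubMod)

namespace Groth.Quot

variable {Y : Scheme.{u}} {M : Y.Modules}

/-- The sheaf of submodules of a subobject. -/
noncomputable def ofSub (L : Subobject M) : SubMod M where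
  mem W :=
    { carrier := {s | (cokernel.π L.arrow).app W s = 0}
      add_mem' := fun {s t} hs ht => by
        change (cokernel.π L.arrow).app W (s + t) = 0
        rw [map_add, hs, ht, add_zero]
      zero_mem' := map_zero _
      smul_mem' := fun r s hs => by
        change (cokernel.π L.arrow).app W (r • s) = 0
        rw [Scheme.Modules.Hom.app_smul, hs, smul_zero] }
  res_mem {W W'} h s hs := by
    change (cokernel.π L.arrow).app W' (res M h s) = 0
    rw [← res_app, hs, map_zero]
  local_mem {W} s hs := by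
    refine Groth.CohTwo.eq_of_local _ _ _ fun x hx => ?_
    obtain ⟨W', h, hxW', hs'⟩ := hs x hx
    refine ⟨W', h, hxW', ?_⟩
    change res (cokernel L.arrow) h ((cokernel.π L.arrow).app W s) = res (cokernel L.arrow) h 0
    rw [res_app, hs', map_zero]

/-- The sections of a subobject are those killed by the projection to the quotient. -/
theorem exists_arrow_app_eq (L : Subobject M) {W : Y.Opens} (s : Γ(M, W))
    (hs : (cokernel.π L.arrow).app W s = 0) : ∃ t, L.arrow.app W t = s :=
  Groth.QCohMod.exists_app_eq_of_mono_exact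
    (S := ShortComplex.mk _ _ (cokernel.condition L.arrow))
    (ShortComplex.exact_of_g_is_cokernel _ (cokernelIsCokernel L.arrow)) W s hs

/-- A morphism killed by restricting to an open vanishes on sections there. -/
theorem pullback_map_eq_zero_iff_app {Y' : Scheme.{u}} (j : Y' ⟶ Y) [IsOpenImmersion j]
    {N N' : Y.Modules} (φ : N ⟶ N') :
    (Scheme.Modules.pullback j).map φ = 0 ↔
      ∀ W : Y.Opens, W ≤ j.opensRange → ∀ s, φ.app W s = 0 := by
  have hiff : (Scheme.Modules.pullback j).map φ = 0 ↔
      (Scheme.Modules.restrictFunctor j).map φ = 0 := by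
    have h := (Scheme.Modules.restrictFunctorIsoPullback j).hom.naturality φ
    constructor
    · intro h0
      rw [h0, comp_zero] at h
      exact (cancel_mono ((Scheme.Modules.restrictFunctorIsoPullback j).hom.app N')).1
        (h.trans zero_comp.symm)
    · intro h0
      rw [h0, zero_comp] at h
      exact (cancel_epi ((Scheme.Modules.restrictFunctorIsoPullback j).hom.app N)).1
        (h.symm.trans comp_zero.symm)
  rw [hiff]
  constructor
  · intro h0 W hW s
    have key : ∀ t : Γ(N, j ''ᵁ (j ⁻¹ᵁ W)), φ.app (j ''ᵁ (j ⁻¹ᵁ W)) t = 0 := fun t =>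
      congr(($h0).app (j ⁻¹ᵁ W) t)
    rw [Scheme.Hom.image_preimage_eq_opensRange_inf, inf_eq_right.mpr hW] at key
    exact key s
  · intro h
    apply Scheme.Modules.hom_ext
    intro V
    ext s
    exact h _ (Scheme.Hom.image_le_opensRange j V) s

variable {X S : Scheme.{u}} (f : X ⟶ S) {E : X.Modules}

instance isOpenImmersion_XTmap {T T' : Over S} (g : T' ⟶ T) [IsOpenImmersion g.left] :
    IsOpenImmersion (PicF.XTmap f g) :=
  MorphismProperty.of_isPullback (isPullback_XTmap f g).flip ‹IsOpenImmersion g.left›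

/-- Inclusion of restrictions to an open of the base, on sections. -/
theorem quotPull_le_iff_app {T T' : Over S} (g : T' ⟶ T) [IsOpenImmersion g.left]
    (L L' : Subobject (FGA.ET f E T)) :
    FGA.quotPull f E g L ≤ FGA.quotPull f E g L' ↔
      ∀ W : (PicF.XT f T).Opens, W ≤ (PicF.XTmap f g).opensRange →
        ∀ s ∈ (ofSub L).mem W, s ∈ (ofSub L').mem W := by
  let G := Scheme.Modules.pullback (PicF.XTmap f g)
  refine (image_le_image_map_iff G L' (FGA.ETiso f E g) _).trans ?_
  rw [Category.assoc, Iso.hom_inv_id_assoc, ← G.map_comp, pullback_map_eq_zero_iff_app]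
  refine forall₂_congr fun W hW => ⟨fun h s hs => ?_, fun h t => ?_⟩
  · obtain ⟨t, rfl⟩ := exists_arrow_app_eq L s hs
    exact h t
  · exact h _ (congr(($(cokernel.condition L.arrow)).app W t))

/-- A submodule of `E_T` restricting to a given one over an open. -/
theorem exists_extension {T T' : Over S} (g : T' ⟶ T) [IsOpenImmersion g.left]
    (K : Subobject (FGA.ET f E T')) :
    ∃ L : Subobject (FGA.ET f E T), FGA.quotPull f E g L = K := by
  let j := PicF.XTmap f g
  let adj := Scheme.Modules.pullbackPushforwardAdjunction j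
  let ψ := (FGA.ETiso f E g).hom ≫ cokernel.π K.arrow
  let u := adj.homEquiv (FGA.ET f E T) (cokernel K.arrow) ψ
  refine ⟨kernelSubobject u, le_antisymm ?_ ?_⟩
  all_goals
    have hψ : (Scheme.Modules.pullback j).map u ≫ adj.counit.app _ = ψ := by
      exact (Adjunction.homEquiv_counit adj _ _ _).symm.trans (Equiv.symm_apply_apply _ _)
  · have h0 : (Scheme.Modules.pullback j).map (kernelSubobject u).arrow ≫ ψ = 0 := by
      rw [← hψ, ← Functor.map_comp_assoc, kernelSubobject_arrow_comp, Functor.map_zero, zero_comp]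
    refine imageSubobject_le _ (Abelian.monoLift K.arrow _ ?_) (Abelian.monoLift_comp _ _ _)
    rw [Category.assoc]
    exact h0
  · have hff := (Scheme.Modules.restrictAdjunction j).fullyFaithfulROfIsIsoCounit
    have := hff.full
    have := hff.faithful
    have : IsIso adj.counit := inferInstance
    let π' := cokernel.π (kernelSubobject u).arrow
    let m := cokernel.desc (kernelSubobject u).arrow u (kernelSubobject_arrow_comp u)
    have : Mono m := by
      refine Preadditive.mono_of_cancel_zero _ fun {P} z hz => ?_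
      have hp : π' ≫ m = u := cokernel.π_desc _ _ _
      obtain ⟨P', q, hq, z', hz'⟩ := surjective_up_to_refinements_of_epi π' z
      have h1 : z' ≫ u = 0 := by
        rw [← hp, ← Category.assoc, ← hz', Category.assoc, hz, comp_zero]
      have h2 : z' ≫ π' = 0 := by
        rw [← factorThruKernelSubobject_comp_arrow u z' h1, Category.assoc]
        simp [π']
      exact (cancel_epi q).1 ((hz'.trans h2).trans comp_zero.symm)
    have : Mono ((Scheme.Modules.restrictFunctor j).map m) :=
      (Groth.CohTwo.mono_iff_app_injective _).2 fun V =>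
        (Groth.CohTwo.mono_iff_app_injective m).1 ‹Mono m› (j ''ᵁ V)
    have : Mono ((Scheme.Modules.pullback j).map m) := by
      rw [← NatIso.naturality_1 (Scheme.Modules.restrictFunctorIsoPullback j) m]
      infer_instance
    have hp : π' ≫ m = u := cokernel.π_desc _ _ _
    refine ((imageSubobject_mono K.arrow).trans (Subobject.mk_arrow K)).ge.trans ?_
    refine (image_le_image_map_iff _ (kernelSubobject u) (FGA.ETiso f E g) K.arrow).2 ?_
    rw [← cancel_mono ((Scheme.Modules.pullback j).map m), ← cancel_mono (adj.counit.app _), zero_comp,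
      zero_comp]
    simp only [Category.assoc]
    rw [← Functor.map_comp_assoc, hp, hψ, Iso.inv_hom_id_assoc, cokernel.condition]

/-- The image of `X_g` for an open immersion `g`. -/
theorem mem_opensRange_XTmap {T T' : Over S} (g : T' ⟶ T) [IsOpenImmersion g.left]
    (x : PicF.XT f T) :
    x ∈ (PicF.XTmap f g).opensRange ↔ PicF.XTproj f T x ∈ Set.range g.left := by
  have H := isPullback_XTmap f g
  constructor
  · rintro ⟨y, rfl⟩
    exact ⟨PicF.XTproj f T' y, by rw [← Scheme.Hom.comp_apply, ← H.w, Scheme.Hom.comp_apply]⟩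
  · rintro ⟨t, ht⟩
    obtain ⟨y, hy, -⟩ := Scheme.exists_preimage_of_isPullback H x t ht.symm
    exact ⟨y, hy⟩

/-- The subobject of a sheaf of submodules has the same sections. -/
theorem mem_ofSub_mk {Y : Scheme.{u}} {M : Y.Modules} (P : SubMod M) (W : Y.Opens) (s : Γ(M, W)) :
    s ∈ (ofSub (Subobject.mk P.ι)).mem W ↔ s ∈ P.mem W := by
  constructor
  · intro h
    obtain ⟨t, rfl⟩ := exists_arrow_app_eq (Subobject.mk P.ι) s h
    rw [← Subobject.underlyingIso_hom_comp_eq_mk P.ι]
    exact P.ι_app_mem _
  · intro h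
    obtain ⟨t, rfl⟩ := P.exists_ι_app_eq s h
    have h0 : P.ι ≫ cokernel.π (Subobject.mk P.ι).arrow = 0 := by
      have h1 : (Subobject.underlyingIso P.ι).inv ≫ (Subobject.mk P.ι).arrow = P.ι :=
        Subobject.underlyingIso_arrow P.ι
      refine (congrArg (· ≫ cokernel.π (Subobject.mk P.ι).arrow) h1).symm.trans ?_
      rw [Category.assoc, cokernel.condition, comp_zero]
    exact congr(($h0).app W t)

set_option maxHeartbeats 1000000 in
/-- Submodules with coherent quotients glue along open covers of the base. -/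
theorem exists_glue_coh {T : Over S} {ι : Type u} {V : ι → Over S} (g : ∀ i, V i ⟶ T)
    [∀ i, IsOpenImmersion (g i).left] (hg : ∀ t : T.left, ∃ i, t ∈ Set.range (g i).left)
    (K : ∀ i, {K : Subobject (FGA.ET f E (V i)) // Coh.IsCoh (cokernel K.arrow)})
    (hc : ∀ (i j : ι) (W : Over S) (p : W ⟶ V i) (q : W ⟶ V j), p ≫ g i = q ≫ g j →
      FGA.quotPull f E p (K i).1 = FGA.quotPull f E q (K j).1) :
    ∃ L : Subobject (FGA.ET f E T), Coh.IsCoh (cokernel L.arrow) ∧
      ∀ i, FGA.quotPull f E (g i) L = (K i).1 := by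
  choose Ls hLs using fun i => exists_extension f (g i) (K i).1
  let U : ι → (PicF.XT f T).Opens := fun i => (PicF.XTmap f (g i)).opensRange
  have hagree : ∀ i j, (ofSub (Ls i)).Agree (ofSub (Ls j)) (U i ⊓ U j) := by
    intro i j Y hY
    let W : Over S := Over.mk (pullback.fst (g i).left (g j).left ≫ (V i).hom)
    let p : W ⟶ V i := Over.homMk (pullback.fst _ _) rfl
    let q : W ⟶ V j := Over.homMk (pullback.snd _ _) (by
      show _ = pullback.fst (g i).left (g j).left ≫ (V i).hom
      rw [← Over.w (g i), pullback.condition_assoc, Over.w (g j)])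
    have hpq : p ≫ g i = q ≫ g j := by ext; exact pullback.condition
    have : IsOpenImmersion (p ≫ g i).left :=
      inferInstanceAs (IsOpenImmersion (pullback.fst (g i).left (g j).left ≫ (g i).left))
    have heq : FGA.quotPull f E (p ≫ g i) (Ls i) = FGA.quotPull f E (p ≫ g i) (Ls j) := by
      rw [← quotPull_comp, hLs, hc i j W p q hpq, hpq, ← quotPull_comp f q (g j), hLs]
    have hY' : Y ≤ (PicF.XTmap f (p ≫ g i)).opensRange := fun x hx => by
      rw [mem_opensRange_XTmap]
      obtain ⟨a, ha⟩ := (mem_opensRange_XTmap f (g i) x).1 (hY hx).1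
      obtain ⟨b, hb⟩ := (mem_opensRange_XTmap f (g j) x).1 (hY hx).2
      obtain ⟨z, hz, -⟩ := Scheme.Pullback.exists_preimage_pullback a b (ha.trans hb.symm)
      exact ⟨z, by rw [← ha, ← hz]; rfl⟩
    ext s
    exact ⟨(quotPull_le_iff_app f (p ≫ g i) _ _).1 heq.le Y hY' s,
      (quotPull_le_iff_app f (p ≫ g i) _ _).1 heq.ge Y hY' s⟩
  let P := SubMod.glue U fun i => ofSub (Ls i)
  let L := Subobject.mk P.ι
  have hL : ∀ i, FGA.quotPull f E (g i) L = (K i).1 := fun i => by
    rw [← hLs i]
    refine le_antisymm ((quotPull_le_iff_app f (g i) _ _).2 fun W hW s hs => ?_)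
      ((quotPull_le_iff_app f (g i) _ _).2 fun W hW s hs => ?_)
    · rw [mem_ofSub_mk] at hs
      exact (SubMod.glue_agree U _ hagree i W hW).le hs
    · rw [mem_ofSub_mk]
      exact (SubMod.glue_agree U _ hagree i W hW).ge hs
  have hθ : ∀ i, Nonempty ((Scheme.Modules.pullback (PicF.XTmap f (g i))).obj (cokernel L.arrow) ≅
      cokernel (K i).1.arrow) := fun i => by
    obtain ⟨θ, -⟩ := exists_quotPull_cokernel_iso f (g i) L
    rw [hL i] at θ
    exact ⟨θ⟩
  have hcoh : Coh.IsCoh (cokernel L.arrow) := Groth.KTheory.Perf.isCoh_of_local fun x => by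
    obtain ⟨i, hi⟩ := hg (PicF.XTproj f T x)
    refine ⟨U i, (mem_opensRange_XTmap f (g i) x).2 hi, ?_⟩
    let j := PicF.XTmap f (g i)
    obtain ⟨θ⟩ := hθ i
    have e : (cokernel L.arrow).restrict (U i).ι ≅ (Scheme.Modules.pullback j.isoOpensRange.inv).obj
        ((Scheme.Modules.pullback j).obj (cokernel L.arrow)) :=
      (Scheme.Modules.restrictFunctorIsoPullback (U i).ι).app _ ≪≫
        (Scheme.Modules.pullbackCongr j.isoOpensRange_inv_comp.symm).app _ ≪≫
        ((Scheme.Modules.pullbackComp _ j).app _).symm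
    exact QCohMod.isCoh_of_iso e.symm
      (FlatStrata.isCoh_pullback _ (QCohMod.isCoh_of_iso θ.symm (K i).2))
  exact ⟨L, hcoh, hL⟩

/-- Families of quotients glue along open covers of the base. -/
theorem exists_glue {T : Over S} {ι : Type u} {V : ι → Over S} (g : ∀ i, V i ⟶ T)
    [∀ i, IsOpenImmersion (g i).left] (hg : ∀ t : T.left, ∃ i, t ∈ Set.range (g i).left)
    (K : ∀ i, FGA.QuotSet f E (V i))
    (hc : ∀ (i j : ι) (W : Over S) (p : W ⟶ V i) (q : W ⟶ V j), p ≫ g i = q ≫ g j →
      FGA.quotPull f E p (K i).1 = FGA.quotPull f E q (K j).1) :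
    ∃ L : FGA.QuotSet f E T, ∀ i, FGA.quotPull f E (g i) L.1 = (K i).1 := by
  obtain ⟨L, hcoh, hL⟩ := exists_glue_coh f g hg (fun i => ⟨(K i).1, (K i).2.1⟩) hc
  have hθ : ∀ i, Nonempty ((Scheme.Modules.pullback (PicF.XTmap f (g i))).obj (cokernel L.arrow) ≅
      cokernel (K i).1.arrow) := fun i => by
    obtain ⟨θ, -⟩ := exists_quotPull_cokernel_iso f (g i) L
    rw [hL i] at θ
    exact ⟨θ⟩
  refine ⟨⟨L, hcoh, fun x => ?_⟩, hL⟩
  have := hcoh.1
  obtain ⟨i, hi⟩ := hg (PicF.XTproj f T x)
  obtain ⟨y, rfl⟩ := (mem_opensRange_XTmap f (g i) x).2 hi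
  obtain ⟨θ⟩ := hθ i
  refine (Groth.Flatmor4.isFlatOverAt_pullback_iff (PicF.XTmap f (g i)) (PicF.XTproj f T) _ y
    (RingHom.Flat.of_bijective (ConcreteCategory.bijective_of_isIso _))).2 ?_
  rw [(isPullback_XTmap f (g i)).w]
  exact (Groth.FlatMorOne.isFlatOverAt_comp_openImmersion (PicF.XTproj f (V i)) (g i).left _ y).2
    ((FlatMorOne.isFlatOverAt_congr _ θ y).2 ((K i).2.2 y))

end Groth.Quot
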